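import Cfsg.Agent.MK.T.A
import Cfsg.Agent.MK.T.D_m3
import Cfsg.Agent.Characters.GaloisIrr
import Cfsg.Agent.H614.Spin.Defs
import Cfsg.Agent.MK.A.Six_m3
import Cfsg.Agent.H346.CoxA
import Cfsg.Agent.H686.Spin.Data
import Cfsg.Agent.H672.RM.Cliff
import Cfsg.Agent.MK.Y.CoreI_m3
import Cfsg.Agent.S0856
import Cfsg.Agent.H614.Val
import Cfsg.Agent.H615.AltConj
import Cfsg.Agent.FastGrp
import Cfsg.Agent.Prune
set_option linter.all false
prune_inst 0x7fb0fefcada8addfffff7e3ffed5dffff1eccfffffdffb43ffede39f0fdf632339e52b851de050ff9ed660bc30b87853f97eceffe86bdc7ffffd5ff45ffbee0fe5ffbf8871d68c3e0fbe6ffff3f177ae6f3ffffffffffffffffffffffffffffffffffbfeffff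
open scoped Cfsg.Agent.FastGrp

-- part: MO/Defs
section
/-!
# MO (S4815, the McKay equality for all primes): the interface (helper76)

The version of `MK/Defs.lean` for an arbitrary prime `p`.  The notions which do not depend on the prime are those of `MK`:
`Ov`, `Fa`, `Cj`, `In`, `Nm`, `St`, `rs`, `Supp`, `YD`, `mu`, `Core`, `ExtOn`, `Cyc`.

* `kk p H Z l` : the number of irreducible characters of `p'`-degree of `H` with the central character `l` on `Z`;
* `McK`, `IH` : the relative equality and the induction hypothesis;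
* `Sit p X Γ` : a quasisimple group with a group of automorphisms; `Conf` : a group `G` with components `≃ X`;
* `Eqv p Γ Λ Λ'` : the subgroups of `G` defined by `Λ`, `Λ' ≤ Γ` have the same count; `Gd p X Γ`, `Row p K`, `Box p`;
* the steps `StepI` (induction), `StepY` (Yokonuma-Hecke), `StepC` (Clifford), `StepCyc`, `StepSm`, `StepF`, and `Red`.
-/

set_option autoImplicit false
set_option maxHeartbeats 400000

namespace Cfsg.Agent.MO

open Cfsg Subgroup
open Cfsg.Agent.MK (Ov Fa Cj In Nm St rs Supp YD mu Core ExtOn Cyc)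
open Cfsg.Agent.ODD (Fam)

/-! ### the counts -/

/-- irreducible of degree prime to `p` -/
def PI (p : ℕ) (G : Type) [Group G] (χ : G → ℂ) : Prop := IsIrrCharacter G χ ∧ ¬ p ∣ charDegree χ

/-- the number of irreducible characters of `p'`-degree of `H` over `l` -/
noncomputable def kk (p : ℕ) {G : Type} [Group G] (H Z : Subgroup G) (l : G → ℂ) : ℕ :=
  Nat.card {ψ : H → ℂ // PI p H ψ ∧ Ov H Z l ψ}

/-- the relative McKay equality -/
def McK (p : ℕ) (G : Type) [Group G] (Z : Subgroup G) : Prop :=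
  ∀ (l : G → ℂ) (P : Sylow p G), kk p ⊤ Z l = kk p (normalizer ((P : Subgroup G) : Set G)) Z l

/-- the induction hypothesis -/
def IH (p n : ℕ) : Prop :=
  ∀ (G : Type) [Group G] [Finite G] (Z : Subgroup G), Z ≤ center G → Z.index < n → McK p G Z

/-! ### components -/

section comp

variable (p : ℕ) {X : Type} [Group X]

variable (X) in
/-- the situation of a row -/
structure Sit (Γ : Subgroup (MulAut X)) : Prop where
  qs : IsQuasisimple X
  cop : ¬ p ∣ Nat.card (center X)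
  dvd : p ∣ Nat.card X
  cyc : IsCyclic (center X)
  inn : ∀ x : X, MulAut.conj x ∈ Γ
  fix : ∀ α ∈ Γ, ∀ z ∈ center X, α z = z
  /-- `Γ / Inn X` has a normal Sylow `p`-subgroup -/
  cl : ∃ R : Subgroup (MulAut X), R ≤ Γ ∧ (∀ x : X, MulAut.conj x ∈ R) ∧ (∀ α ∈ Γ, ∀ β ∈ R, α * β * α⁻¹ ∈ R) ∧
    (∀ β ∈ R, ∃ (k : ℕ) (x : X), β ^ p ^ k = MulAut.conj x) ∧ ¬ p ∣ R.relIndex Γ
  ih : IH p (Nat.card Γ)

/-- a finite group `G` which permutes copies `e i` of `X`; `G / Z` embeds into `Γ ≀ Perm ι` -/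
structure Conf (Γ : Subgroup (MulAut X)) (G : Type) [Group G] (Z : Subgroup G) (ι : Type) where
  e : ι → (X →* G)
  π : G →* Equiv.Perm ι
  a : G → ι → MulAut X
  inj : ∀ i, Function.Injective (e i)
  ha : ∀ g i x, g * e i x * g⁻¹ = e (π g i) (a g i x)
  mem : ∀ g i, a g i ∈ Γ
  onto : ∀ i j, ∀ α ∈ Γ, ∃ g, π g i = j ∧ a g i = α
  ne : Nonempty ι
  comm : ∀ i j, i ≠ j → ∀ x y, e i x * e j y = e j y * e i x
  pie : ∀ i x, π (e i x) = 1
  cen : Z ≤ center G
  ker : ∀ g, π g = 1 → (∀ i, a g i = 1) → g ∈ Z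
  cop : ¬ p ∣ Nat.card Z
  /-- `G / (Z * ∏ X i)` has a normal Sylow `p`-subgroup -/
  cl : ∃ R : Subgroup G, R.Normal ∧ Z ⊔ (⨆ i, (e i).range) ≤ R ∧
    (∀ g ∈ R, ∃ k : ℕ, g ^ p ^ k ∈ Z ⊔ ⨆ i, (e i).range) ∧ ¬ p ∣ R.index
  ih : IH p Z.index

namespace Conf

variable {p} {Γ : Subgroup (MulAut X)} {G : Type} [Group G] {Z : Subgroup G} {ι : Type} (c : Conf p Γ G Z ι)

theorem a_mul (g h : G) (i : ι) : c.a (g * h) i = c.a g (c.π h i) * c.a h i := by
  ext x
  refine c.inj (c.π (g * h) i) ?_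
  rw [← c.ha, map_mul, Equiv.Perm.mul_apply, MulAut.mul_apply, ← c.ha, ← c.ha]
  group

theorem a_one (i : ι) : c.a 1 i = 1 := by
  have h := c.a_mul 1 1 i
  rw [mul_one, map_one, Equiv.Perm.one_apply] at h
  exact mul_eq_left.1 h.symm

theorem a_inv (g : G) (i : ι) : c.a g⁻¹ i = (c.a g (c.π g⁻¹ i))⁻¹ := by
  have h := c.a_mul g g⁻¹ i
  rw [mul_inv_cancel, c.a_one] at h
  exact (inv_eq_of_mul_eq_one_right h.symm).symm

/-- the subgroup of `G` defined by `Λ` -/
def hat (Λ : Subgroup (MulAut X)) : Subgroup G where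
  carrier := {g | ∀ i, c.a g i ∈ Λ}
  one_mem' i := by rw [c.a_one]; exact one_mem _
  mul_mem' ha hb i := by rw [c.a_mul]; exact mul_mem (ha _) (hb _)
  inv_mem' ha i := by rw [c.a_inv]; exact inv_mem (ha _)

end Conf

/-- `Λ` and `Λ'` give the same count in all configurations -/
def Eqv (Γ Λ Λ' : Subgroup (MulAut X)) : Prop :=
  ∀ (G : Type) [Group G] [Finite G] (Z : Subgroup G) (ι : Type) [Fintype ι] (c : Conf p Γ G Z ι) (l : G → ℂ), Fa Z l →
    kk p (c.hat Λ) Z l = kk p (c.hat Λ') Z l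

theorem Eqv.refl (Γ Λ : Subgroup (MulAut X)) : Eqv p Γ Λ Λ := fun _ _ _ _ _ _ _ _ _ => rfl

variable {p} in
theorem Eqv.symm {Γ Λ Λ' : Subgroup (MulAut X)} (h : Eqv p Γ Λ Λ') : Eqv p Γ Λ' Λ :=
  fun G _ _ Z ι _ c l hl => (h G Z ι c l hl).symm

variable {p} in
theorem Eqv.trans {Γ Λ Λ' Λ'' : Subgroup (MulAut X)} (h : Eqv p Γ Λ Λ') (h' : Eqv p Γ Λ' Λ'') : Eqv p Γ Λ Λ'' :=
  fun G _ _ Z ι _ c l hl => (h G Z ι c l hl).trans (h' G Z ι c l hl)

variable (X) in
/-- what a row delivers -/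
def Gd (Γ : Subgroup (MulAut X)) : Prop :=
  ∃ (Λ : Subgroup (MulAut X)) (Q : Sylow p X), Λ ≤ Γ ∧ Λ ≠ Γ ∧ Nm Γ Q ≤ Λ ∧ Eqv p Γ Γ Λ

end comp

/-- **a row** : all situations whose central quotient is in the family `K` are good -/
def Row (p : ℕ) (K : Fam) : Prop :=
  ∀ (X : Type) [Group X] [Finite X], K (X ⧸ center X) → ∀ Γ : Subgroup (MulAut X), Sit p X Γ → Gd p X Γ

/-- groups of Lie type in a characteristic different from `p` -/
def Cross (p : ℕ) (S : Type) [Group S] : Prop := ∃ r : ℕ, r.Prime ∧ r ≠ p ∧ IsLieTypeChar r S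

/-- all rows -/
structure Box (p : ℕ) : Prop where
  alt : Row p fun S _ => IsAlternating S
  spor : Row p fun S _ => IsSporadicGroup S
  tits : Row p fun S _ => Lie.IsoTits S
  dfn : Row p fun S _ => IsLieTypeChar p S
  cross : Row p (Cross p)

/-- all situations are good -/
def AllGd (p : ℕ) : Prop :=
  ∀ (X : Type) [Group X] [Finite X] (Γ : Subgroup (MulAut X)), Sit p X Γ → Gd p X Γ

/-- the equality in the critical case -/
def Crit (p : ℕ) : Prop :=
  ∀ (X : Type) [Group X] [Finite X] (Γ : Subgroup (MulAut X)) (G : Type) [Group G] [Finite G] (Z : Subgroup G)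
    (ι : Type) [Fintype ι] (_ : Conf p Γ G Z ι), Sit p X Γ → ∀ l, Fa Z l → ∀ P : Sylow p G,
    kk p ⊤ Z l = kk p (normalizer ((P : Subgroup G) : Set G)) Z l

/-- **the reduction** -/
def Red (p : ℕ) : Prop := Crit p → ∀ n, IH p n

/-- the last step -/
def StepF (p : ℕ) : Prop := AllGd p → Crit p

/-! ### the induction step -/

/-- `Λ'` contains the normaliser in `Λ` of a Sylow `p`-subgroup `Q` of `In Λ` -/
def StepI (p : ℕ) : Prop :=
  ∀ (X : Type) [Group X] [Finite X] (Γ Λ Λ' : Subgroup (MulAut X)) (Q : Subgroup X), Sit p X Γ → Supp Γ Λ → Λ ≠ Γ →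
    Λ' ≤ Λ → Q ≤ In Λ → IsPGroup p Q → ¬ p ∣ Q.relIndex (In Λ) → Nm Λ Q ≤ Λ' → Eqv p Γ Λ Λ'

/-! ### the Yokonuma-Hecke step -/

/-- the data in a component -/
structure YX (p : ℕ) {X : Type} [Group X] (Γ Θ : Subgroup (MulAut X)) (H U N : Subgroup X) (len : X → ℕ) : Prop where
  yd : YD H U N len
  supp : Supp Γ Θ
  hU : ∀ α ∈ Θ, ∀ u ∈ U, α u ∈ U
  hN : ∀ α ∈ Θ, ∀ n ∈ N, α n ∈ N ∧ len (α n) = len n
  inn : ∀ x : X, MulAut.conj x ∈ Θ ↔ x ∈ N ∧ len x = 0
  cop : ¬ p ∣ Nat.card U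
  nofix : ∃ D ≤ Θ, IsPGroup p D ∧ ∀ u ∈ U, (∀ α ∈ D, α u = u) → u = 1

/-- the global form -/
def StepY (p : ℕ) : Prop :=
  ∀ (X : Type) [Group X] [Finite X] (Γ Θ : Subgroup (MulAut X)) (H U N : Subgroup X) (len : X → ℕ), Sit p X Γ →
    YX p Γ Θ H U N len → Eqv p Γ (Cj H ⊔ Θ) (Cj N ⊔ Θ)

/-! ### the Clifford step -/

section cliff

variable (p : ℕ) {X : Type} [Group X]

/-- the characters of `X` which matter -/
def SA (Λ : Subgroup (MulAut X)) (l : X → ℂ) : Set (X → ℂ) :=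
  {θ | PI p X θ ∧ (∀ z ∈ center X, θ z = l z * θ 1) ∧ ∀ α ∈ Λ, (∃ k : ℕ, α ^ p ^ k = 1) → ∀ x, θ (α x) = θ x}

/-- the characters of `In Λ` which matter -/
def SB (Λ : Subgroup (MulAut X)) (l : X → ℂ) : Set (In Λ → ℂ) :=
  {ψ | PI p (In Λ) ψ ∧ Ov (In Λ) (center X) l ψ ∧ ∀ α : Λ, (∃ k : ℕ, α ^ p ^ k = 1) → ∀ y, ψ (rs Λ α y) = ψ y}

/-- an equivariant bijection with the extension property -/
structure CD (Λ : Subgroup (MulAut X)) (l : X → ℂ) (Ω : (X → ℂ) → In Λ → ℂ) : Prop where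
  bij : Set.BijOn Ω (SA p Λ l) (SB p Λ l)
  eqv : ∀ θ ∈ SA p Λ l, ∀ (α : Λ) (y : In Λ), Ω (fun x => θ (α.1 x)) y = Ω θ (rs Λ α y)
  ext : ∀ θ ∈ SA p Λ l, ExtOn Λ (St Λ θ) θ (Ω θ)

/-- the number of the `p'`-characters of `X` over `l` which are fixed by `α` -/
noncomputable def fA (l : X → ℂ) (α : MulAut X) : ℕ :=
  Nat.card {θ : X → ℂ // PI p X θ ∧ (∀ z ∈ center X, θ z = l z * θ 1) ∧ ∀ x, θ (α x) = θ x}

/-- the same for a subgroup `K` which is invariant under `α` -/
noncomputable def fB (K : Subgroup X) (l : X → ℂ) (α : MulAut X) : ℕ :=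
  Nat.card {ψ : K → ℂ // PI p K ψ ∧ Ov K (center X) l ψ ∧ ∀ y y' : K, (y' : X) = α y → ψ y' = ψ y}

/-- `α` generates a subgroup of `p'`-index of `Γ / Inn X` -/
def Big (Γ : Subgroup (MulAut X)) (α : MulAut X) : Prop :=
  ∀ β ∈ Γ, ∃ (m k : ℕ) (x : X), ¬ p ∣ m ∧ β ^ m = MulAut.conj x * α ^ k

end cliff

/-- the Clifford step -/
def StepC (p : ℕ) : Prop :=
  ∀ (X : Type) [Group X] [Finite X] (Γ Λ : Subgroup (MulAut X)), Sit p X Γ → Supp Γ Λ →
    (∀ l, Fa (center X) l → ∃ Ω, CD p Λ l Ω) → Eqv p Γ Γ Λ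

/-- the cyclic case: numbers of fixed points are enough -/
def StepCyc (p : ℕ) : Prop :=
  ∀ (X : Type) [Group X] [Finite X] (Γ Λ : Subgroup (MulAut X)), Sit p X Γ → Supp Γ Λ → Cyc Γ →
    (∀ l, Fa (center X) l → ∀ α ∈ Λ, Big p Γ α → fA p l α = fB p (In Λ) l α) → Eqv p Γ Γ Λ

/-- **the small rows**: the automorphisms which centralise the centre form a cyclic group modulo the inner ones, and
the numbers of fixed characters agree for the normaliser of a Sylow `p`-subgroup -/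
structure Sm (p : ℕ) (X : Type) [Group X] : Prop where
  cyc : ∃ γ : MulAut X, ∀ α : MulAut X, (∀ z ∈ center X, α z = z) → ∃ (k : ℕ) (x : X), α = MulAut.conj x * γ ^ k
  cnt : ∃ Q : Sylow p X, ∀ l, Fa (center X) l → ∀ α : MulAut X, (∀ z ∈ center X, α z = z) →
    (∀ x, α x ∈ (Q : Subgroup X) ↔ x ∈ (Q : Subgroup X)) →
    fA p l α = fB p (normalizer ((Q : Subgroup X) : Set X)) l α

/-- small rows are rows; the induction hypothesis is available below the order of the central quotient -/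
def StepSm (p : ℕ) : Prop :=
  ∀ (X : Type) [Group X] [Finite X] (Γ : Subgroup (MulAut X)), Sit p X Γ → (IH p (center X).index → Sm p X) → Gd p X Γ

/-- all general steps (hypotheses of the rows) -/
structure Steps (p : ℕ) : Prop where
  i : StepI p
  y : StepY p
  c : StepC p
  cyc : StepCyc p
  sm : StepSm p
  core : Core

/-- a small row -/
def SmRow (p : ℕ) (K : Fam) : Prop :=
  ∀ (X : Type) [Group X] [Finite X], IsQuasisimple X → K (X ⧸ center X) → ¬ p ∣ Nat.card (center X) → p ∣ Nat.card X →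
    IsCyclic (center X) → IH p (center X).index → Sm p X

theorem SmRow.row {p : ℕ} {K : Fam} (r : SmRow p K) (h : StepSm p) : Row p K :=
  fun X _ _ c Γ s => h X Γ s (r X s.qs c s.cop s.dvd s.cyc)

theorem IH.mono {p m n : ℕ} (h : IH p n) (hmn : m ≤ n) : IH p m :=
  fun G _ _ Z hZ hi => h G Z hZ (hi.trans_le hmn)

end Cfsg.Agent.MO
end

-- part: MO/Basic
section
/-!
# MO: basic facts on the counts `kk` (helper76, from `MK`)

* `kk_surj`, `kk_map`, `kk_top`, `kk_subgroupOf`, `kk_congr` : transport;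
* `kk_eq_cnt`, `exists_hom`, `kk_eq_of_cnt` : the link with `H672.RM.Cnt` (Clifford theory: `cnt_clifford`,
  `card_eq_of_fibers`, `stepA`, `exists_iso`, `TSet.cnt_eq`);
* `IH.nm`, `IH.sub` : the induction hypothesis for subgroups;
* `nd_mul`, `nd_pow`, `cop_pow`, `exists_split` : numbers prime to `p`.
-/

set_option autoImplicit false
set_option maxHeartbeats 400000

namespace Cfsg.Agent.MO

open Cfsg Subgroup
open Cfsg.Agent.MK (Ov Fa deg_comp ov_iff_over exists_hom)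
open Cfsg.Agent.Characters.Core Cfsg.Agent.H672 Cfsg.Agent.H672.RM

section arith

variable {p a b : ℕ}

theorem nd_of_dvd (h : ¬ p ∣ b) (hab : a ∣ b) : ¬ p ∣ a := fun e => h (e.trans hab)

variable [hp : Fact p.Prime]

theorem nd_mul : ¬ p ∣ a * b ↔ ¬ p ∣ a ∧ ¬ p ∣ b := by rw [hp.out.dvd_mul, not_or]

theorem nd_mul' (ha : ¬ p ∣ a) (hb : ¬ p ∣ b) : ¬ p ∣ a * b := nd_mul.2 ⟨ha, hb⟩

theorem nd_pow (ha : ¬ p ∣ a) (k : ℕ) : ¬ p ∣ a ^ k := fun e => ha (hp.out.dvd_of_dvd_pow e)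

theorem nd_one : ¬ p ∣ 1 := hp.out.not_dvd_one

theorem cop_pow (ha : ¬ p ∣ a) (k : ℕ) : (p ^ k).Coprime a := (hp.out.coprime_iff_not_dvd.2 ha).pow_left k

variable (p) in
theorem exists_split (ha : a ≠ 0) : ∃ k m, ¬ p ∣ m ∧ a = p ^ k * m :=
  Nat.exists_eq_pow_mul_and_not_dvd ha p hp.out.ne_one

end arith

variable {p : ℕ}

section transport

variable {G G' : Type} [Group G] [Group G']

theorem PI.one_ne {χ : G → ℂ} (h : PI p G χ) : χ 1 ≠ 0 := isIrr_apply_one_ne_zero h.1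

theorem PI.comp [Finite G] (φ : G →* G') (hφ : Function.Surjective φ) {χ : G' → ℂ} (h : PI p G' χ) : PI p G (χ ∘ φ) :=
  ⟨isIrr_comp φ hφ h.1, by rw [deg_comp]; exact h.2⟩

/-- **transport along a surjective homomorphism** (an isomorphism, or a quotient by a subgroup of `Z`) -/
theorem kk_surj {H Z : Subgroup G} {H' Z' : Subgroup G'} [Finite H] {l : G → ℂ} {l' : G' → ℂ} (φ : H →* H')
    (hφ : Function.Surjective φ) (hZ : ∀ h : H, (φ h : G') ∈ Z' ↔ (h : G) ∈ Z)
    (hl : ∀ h : H, (h : G) ∈ Z → l' (φ h) = l h) : kk p H' Z' l' = kk p H Z l := by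
  refine Nat.card_eq_of_bijective
    (fun ψ => (⟨ψ.1 ∘ φ, ψ.2.1.comp φ hφ, fun h hh => ?_⟩ : {ψ : H → ℂ // PI p H ψ ∧ Ov H Z l ψ})) ⟨?_, ?_⟩
  · simp only [Function.comp, map_one]
    rw [ψ.2.2 (φ h) ((hZ h).2 hh), hl h hh]
  · intro ψ ψ' h
    exact Subtype.ext (hφ.injective_comp_right (congrArg Subtype.val h))
  · rintro ⟨ψ, hψ, ho⟩
    have h1 : l 1 = 1 := ho.l_one hψ.one_ne
    have h2 : l' 1 = 1 := by
      have := hl 1 (one_mem Z)
      rw [map_one] at this
      exact this.trans h1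
    obtain ⟨η, hη, he⟩ := ODD.Red.exists_quot φ hφ hψ.1 (fun z hz => by
      have h3 : φ z = 1 := hz
      have h4 : (z : G) ∈ Z := (hZ z).1 (by rw [h3]; exact one_mem Z')
      have h5 := hl z h4
      rw [h3] at h5
      rw [ho z h4, ← h5]
      exact (congrArg (· * ψ 1) h2).trans (one_mul _))
    have he' : η ∘ φ = ψ := funext he
    refine ⟨⟨η, ⟨hη, ?_⟩, fun h' hh' => ?_⟩, Subtype.ext he'⟩
    · rw [← deg_comp φ η, he']
      exact hψ.2
    · obtain ⟨h, rfl⟩ := hφ h'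
      have h4 := (hZ h).1 hh'
      rw [he, ho h h4, hl h h4, ← map_one φ, he]

theorem kk_map {H Z : Subgroup G} {Z' : Subgroup G'} [Finite H] {l : G → ℂ} {l' : G' → ℂ} (f : G →* G')
    (hZ : ∀ h ∈ H, f h ∈ Z' ↔ h ∈ Z) (hl : ∀ h ∈ H, h ∈ Z → l' (f h) = l h) :
    kk p (H.map f) Z' l' = kk p H Z l :=
  kk_surj (f.subgroupMap H) (f.subgroupMap_surjective H) (fun h => hZ h h.2) fun h => hl h h.2

/-- pull back along a surjective homomorphism -/
theorem kk_comap [Finite G] (f : G →* G') (hf : Function.Surjective f) (H' Z' : Subgroup G') (l' : G' → ℂ) :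
    kk p (H'.comap f) (Z'.comap f) (l' ∘ f) = kk p H' Z' l' := by
  have h := kk_map (p := p) (H := H'.comap f) (Z := Z'.comap f) (Z' := Z') (l := l' ∘ f) (l' := l') f (fun _ _ => Iff.rfl)
    (fun _ _ _ => rfl)
  rw [← h, map_comap_eq_self_of_surjective hf]

/-- only `H ⊓ Z` and the values of `l` on it matter -/
theorem kk_congr {H Z Z' : Subgroup G} {l l' : G → ℂ} (hZ : ∀ h ∈ H, h ∈ Z' ↔ h ∈ Z)
    (hl : ∀ h ∈ H, h ∈ Z → l' h = l h) : kk p H Z' l' = kk p H Z l := by
  refine Nat.card_congr (Equiv.subtypeEquivRight fun ψ => and_congr_right fun _ => ⟨fun h x hx => ?_, fun h x hx => ?_⟩)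
  · rw [h x ((hZ x x.2).2 hx), hl x x.2 hx]
  · rw [h x ((hZ x x.2).1 hx), hl x x.2 ((hZ x x.2).1 hx)]

/-- change of the ambient group -/
theorem kk_subgroupOf {H K : Subgroup G} [Finite H] (hHK : H ≤ K) (Z : Subgroup G) (l : G → ℂ) :
    kk p (H.subgroupOf K) (Z.subgroupOf K) (fun k => l k) = kk p H Z l :=
  kk_surj (subgroupOfEquivOfLe hHK).symm.toMonoidHom (subgroupOfEquivOfLe hHK).symm.surjective
    (fun _ => Iff.rfl) fun _ _ => rfl

theorem kk_top_sub (K Z : Subgroup G) [Finite K] (l : G → ℂ) :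
    kk p (⊤ : Subgroup K) (Z.subgroupOf K) (fun k => l k) = kk p K Z l := by
  rw [← kk_subgroupOf (le_refl K), subgroupOf_self]

theorem kk_top [Finite G] (Z : Subgroup G) (l : G → ℂ) :
    kk p ⊤ Z l = Nat.card {χ : G → ℂ // PI p G χ ∧ ∀ z ∈ Z, χ z = l z * χ 1} := by
  let e : (⊤ : Subgroup G) ≃* G := topEquiv
  refine Nat.card_congr
    { toFun := fun ψ => ⟨ψ.1 ∘ e.symm.toMonoidHom, ψ.2.1.comp _ e.symm.surjective, fun z hz => ψ.2.2 (e.symm z) hz⟩
      invFun := fun χ => ⟨χ.1 ∘ e.toMonoidHom, χ.2.1.comp _ e.surjective, fun z hz => χ.2.2 z hz⟩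
      left_inv := fun _ => rfl
      right_inv := fun _ => rfl }

/-- conjugate subgroups -/
theorem kk_conj [Finite G] {Z : Subgroup G} (hZ : Z ≤ center G) (H : Subgroup G) (g : G) (l : G → ℂ) :
    kk p (H.map (MulAut.conj g).toMonoidHom) Z l = kk p H Z l := by
  have h1 : ∀ z ∈ Z, (MulAut.conj g).toMonoidHom z = z := fun z hz => by
    change g * z * g⁻¹ = z
    rw [mem_center_iff.1 (hZ hz) g, mul_inv_cancel_right]
  refine kk_map _ (fun h _ => ⟨fun hh => ?_, fun hh => by rw [h1 h hh]; exact hh⟩) fun h _ hh => by rw [h1 h hh]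
  have h2 := h1 _ hh
  rwa [(MulAut.conj g).injective h2] at hh

end transport

section cnt

variable {G : Type} [Group G] [Finite G]

theorem kk_eq_cnt {H Z : Subgroup G} (hZH : Z ≤ H) (hc : ∀ z ∈ Z, ∀ h ∈ H, h * z = z * h) {l : G → ℂ}
    {m : Z →* ℂˣ} (hm : ∀ z : Z, l z = m z) : kk p H Z l = Cnt p (inclusion hZH) (lf m) := by
  refine Nat.card_congr
    { toFun := fun ψ => ⟨⟨ψ.1, ψ.2.1.1⟩, ψ.2.1.2, (ov_iff_over hZH hc hm ψ.2.1.1).1 ψ.2.2⟩
      invFun := fun χ => ⟨χ.1.1, ⟨χ.1.2, χ.2.1⟩,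
        (ov_iff_over hZH hc hm χ.1.2).2 χ.2.2⟩
      left_inv := fun _ => rfl
      right_inv := fun _ => rfl }

theorem kk_eq_zero {H Z : Subgroup G} (hZH : Z ≤ H) (hc : ∀ z ∈ Z, ∀ h ∈ H, h * z = z * h) {l : G → ℂ}
    (h : ¬ ∃ m : Z →* ℂˣ, ∀ z : Z, l z = m z) : kk p H Z l = 0 := by
  have : IsEmpty {ψ : H → ℂ // PI p H ψ ∧ Ov H Z l ψ} := ⟨fun ψ => h (exists_hom hZH hc ψ.2.1.1 ψ.2.2)⟩
  exact Nat.card_of_isEmpty

/-- one may assume that `l` is a linear character of `Z` -/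
theorem kk_eq_of_hom {H H' Z : Subgroup G} (hZ : Z ≤ center G) (hZH : Z ≤ H) (hZH' : Z ≤ H') {l : G → ℂ}
    (h : ∀ m : Z →* ℂˣ, (∀ z : Z, l z = m z) → kk p H Z l = kk p H' Z l) : kk p H Z l = kk p H' Z l := by
  by_cases hm : ∃ m : Z →* ℂˣ, ∀ z : Z, l z = m z
  · obtain ⟨m, hm⟩ := hm
    exact h m hm
  · rw [kk_eq_zero hZH (fun z hz x _ => mem_center_iff.1 (hZ hz) x) hm,
      kk_eq_zero hZH' (fun z hz x _ => mem_center_iff.1 (hZ hz) x) hm]

theorem kk_eq_of_cnt {H H' Z : Subgroup G} (hZ : Z ≤ center G) (hZH : Z ≤ H) (hZH' : Z ≤ H') {l : G → ℂ}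
    (h : ∀ m : Z →* ℂˣ, (∀ z : Z, l z = m z) → Cnt p (inclusion hZH) (lf m) = Cnt p (inclusion hZH') (lf m)) :
    kk p H Z l = kk p H' Z l :=
  kk_eq_of_hom hZ hZH hZH' fun m hm => by
    rw [kk_eq_cnt hZH (fun z hz x _ => mem_center_iff.1 (hZ hz) x) hm,
      kk_eq_cnt hZH' (fun z hz x _ => mem_center_iff.1 (hZ hz) x) hm, h m hm]

end cnt

section ih

variable {G : Type} [Group G] [Finite G] {n : ℕ} [Fact p.Prime]

omit [Finite G] in
/-- a `p`-subgroup of `p'`-index is a Sylow subgroup -/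
theorem exists_sylow {P : Subgroup G} (hP : IsPGroup p P) (ho : ¬ p ∣ P.index) : ∃ S : Sylow p G, (S : Subgroup G) = P :=
  ⟨hP.toSylow ho, rfl⟩

/-- the induction hypothesis for a subgroup `K` -/
theorem IH.nm (h : IH p n) {K Z P : Subgroup G} (hc : ∀ z ∈ Z, ∀ k ∈ K, k * z = z * k)
    (hn : Z.relIndex K < n) (hPK : P ≤ K) (hP : IsPGroup p P) (ho : ¬ p ∣ P.relIndex K) (l : G → ℂ) :
    kk p K Z l = kk p (K ⊓ normalizer (P : Set G)) Z l := by
  obtain ⟨S, hS⟩ := exists_sylow (P := P.subgroupOf K) (hP.comap_subtype) ho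
  have h1 := h K (Z.subgroupOf K) (fun z hz => mem_center_iff.2 fun k => Subtype.ext (hc z hz k k.2)) hn
    (fun k => l k) S
  rw [kk_top_sub, hS, ← subgroupOf_normalizer_eq hPK, ← inf_subgroupOf_left, kk_subgroupOf inf_le_left] at h1
  exact h1

/-- the induction hypothesis for two subgroups `N_K(P) ≤ H ≤ K` -/
theorem IH.sub (h : IH p n) {K H Z P : Subgroup G} (hZH : Z ≤ H) (hHK : H ≤ K)
    (hc : ∀ z ∈ Z, ∀ k ∈ K, k * z = z * k) (hn : Z.relIndex K < n) (hPK : P ≤ K) (hP : IsPGroup p P)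
    (ho : ¬ p ∣ P.relIndex K) (hN : K ⊓ normalizer (P : Set G) ≤ H) (l : G → ℂ) : kk p K Z l = kk p H Z l := by
  have hPH : P ≤ H := le_trans (le_inf hPK le_normalizer) hN
  have h1 : Z.relIndex H < n := by
    refine lt_of_le_of_lt (Nat.le_of_dvd (Nat.pos_of_ne_zero (rne _ _)) ?_) hn
    exact ⟨_, (relIndex_mul_relIndex _ _ _ hZH hHK).symm⟩
  have h2 : ¬ p ∣ P.relIndex H := nd_of_dvd ho ⟨_, (relIndex_mul_relIndex _ _ _ hPH hHK).symm⟩
  rw [h.nm hc hn hPK hP ho, h.nm (fun z hz k hk => hc z hz k (hHK hk)) h1 hPH hP h2,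
    le_antisymm (le_inf hN inf_le_right) (inf_le_inf_right _ hHK)]

end ih

end Cfsg.Agent.MO
end

-- part: MO/R/Rel
section
/-!
# MO, the reduction: the relative equality over a normal subgroup (helper76, from `MK`)

`rel` : the induction hypothesis for character triples; `kk_step` : `kk ⊤ = kk N(K P)` for normal `K > Z`.
-/

set_option autoImplicit false
set_option maxHeartbeats 400000

namespace Cfsg.Agent.MO.R

open Cfsg Subgroup Cfsg.Agent.Characters.Core Cfsg.Agent.H672 Cfsg.Agent.H672.RM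

open Cfsg.Agent.MK (deg_comp)

variable {p n : ℕ} [hp : Fact p.Prime]

theorem ih_cnt (h : IH p n) {Q : Type} [Group Q] [Finite Q] {Z P : Subgroup Q} (hZ : Z ≤ center Q) (l : Z →* ℂˣ)
    (hP : SM p Z P ⊤) (hn : Z.index < n) (hZN : Z ≤ normalizer (P : Set Q)) :
    Cnt p Z.subtype (lf l) = Cnt p (inclusion hZN) (lf l) := by
  obtain ⟨S, -, hS, rfl⟩ := hP.exists_syl
  have h1 : ∀ z : Z, Function.extend Subtype.val (lf l) 0 (z : Q) = l z := Subtype.val_injective.extend_apply _ _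
  have h2 := h Q Z hZ hn (Function.extend Subtype.val (lf l) 0) (hS.pg.toSylow (relIndex_top_right S ▸ hS.ndvd))
  rw [kk_eq_cnt le_top (fun z hz x _ => mem_center_iff.1 (hZ hz) x) h1, cnt_top rfl,
    kk_eq_cnt (hZ.trans (center_le_normalizer _)) (fun z hz x _ => mem_center_iff.1 (hZ hz) x) h1] at h2
  exact h2.trans (cnt_eq_of_eq _ _ (normalizer_eq_of_central hZ hS) _)

variable {G : Type} [Group G] [Finite G]

theorem rel_top (h : IH p n) {L P : Subgroup G} [L.Normal] (hP : SM p L P ⊤) {ν : L → ℂ} (hν : IsIrrCharacter L ν)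
    (hinv : ∀ g, g ∈ stab ν) (hd : ¬ p ∣ charDegree ν) (hn : L.index < n) (hLN : L ≤ normalizer (P : Set G)) :
    Cnt p L.subtype ν = Cnt p (inclusion hLN) ν := by
  obtain ⟨Δ, Q, _, _, _, π, m, Z, l, hI⟩ := exists_iso (p := p) L hν hinv hd
  have hcP : P.comap π = ((P.comap π).map m).comap m := by
    rw [comap_map_eq, sup_eq_left.2 ((ker_le_comap m Z).trans (hI.comap.ge.trans (comap_mono hP.le)))]
  have hidx : ∀ {A B : Subgroup G} {A' B' : Subgroup Q}, A.comap π = A'.comap m → B.comap π = B'.comap m →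
      A.relIndex B = A'.relIndex B' := fun {A B A' B'} hA hB => by
    rw [← map_comap_eq_self_of_surjective hI.surjπ B, ← relIndex_comap, hA, hB, relIndex_comap,
      map_comap_eq_self_of_surjective hI.surjm]
  have ht : (⊤ : Subgroup G).comap π = (⊤ : Subgroup Q).comap m := by rw [comap_top, comap_top]
  have hZP : Z ≤ (P.comap π).map m := by
    rw [← map_comap_eq_self_of_surjective hI.surjm Z, ← hI.comap]
    exact map_mono (comap_mono hP.le)
  have c1 := hI.cnt ⊤ ⊤ le_top le_top ht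
  rw [cnt_top rfl, cnt_top rfl] at c1
  exact c1.trans ((ih_cnt h hI.cen l ⟨hZP, le_top, hidx hI.comap hcP ▸ hP.pow, hidx hcP ht ▸ hP.ndvd⟩
    (by rwa [← relIndex_top_right, ← hidx hI.comap ht, relIndex_top_right]) (hZP.trans le_normalizer)).trans
    (hI.cnt _ _ hLN _ (by rw [comap_normalizer_eq_of_surjective _ hI.surjπ, comap_normalizer_eq_of_surjective _ hI.surjm,
      ← hcP])).symm)

theorem rel_inv (h : IH p n) {L P U : Subgroup G} (hUL : U ≤ normalizer (L : Set G)) (hP : SM p L P U) {ν : L → ℂ}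
    (hν : IsIrrCharacter L ν) (hst : U ≤ stab ν) (hn : L.relIndex U < n) (hLU : L ≤ U)
    (hLN : L ≤ U ⊓ normalizer (P : Set G)) : Cnt p (inclusion hLU) ν = Cnt p (inclusion hLN) ν := by
  by_cases hd : p ∣ charDegree ν
  · have h0 : ∀ (V : Subgroup G) (hLV : L ≤ V), V ≤ U → Cnt p (inclusion hLV) ν = 0 := fun V hLV hVU =>
      Nat.card_eq_zero.2 (.inl ⟨fun χ => χ.2.1 (hd.trans (div_dvd_of_over hLV (hVU.trans hUL) χ.1.2 hν χ.2.2).1)⟩)
    rw [h0 U hLU le_rfl, h0 _ hLN inf_le_left]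
  have := normal_subgroupOf hUL
  have h1 := rel_top h (L := L.subgroupOf U) (P := P.subgroupOf U)
    ⟨comap_mono hP.le, le_top, by rw [relIndex_subgroupOf hP.le']; exact hP.pow, by rw [relIndex_top_right]; exact hP.ndvd⟩
    (isIrr_sub hLU hν) (fun g => by
      have hg : g ∈ normalizer ((L.subgroupOf U : Subgroup U) : Set U) := by rw [normalizer_eq_top]; trivial
      refine ⟨hg, funext fun x => ?_⟩
      have h1 := congrFun (hst g.2).2 (subgroupOfEquivOfLe hLU x)
      rw [tw_apply (hUL g.2)] at h1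
      rw [tw_apply hg]
      exact h1) (fun e => hd (deg_comp (subgroupOfEquivOfLe hLU).toMonoidHom ν ▸ e)) hn ((comap_mono hP.le).trans le_normalizer)
  rw [cnt_amb hLU le_rfl, cnt_amb hLN inf_le_left, cnt_top (subgroupOf_self U)]
  refine h1.trans (cnt_eq_of_eq _ _ ?_ _)
  rw [← subgroupOf_normalizer_eq hP.le', inf_comm, inf_subgroupOf_right]

/-- **the relative equality** -/
theorem rel (h : IH p n) {L P U : Subgroup G} (hUL : U ≤ normalizer (L : Set G)) (hP : SM p L P U) {ν : L → ℂ}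
    (hν : IsIrrCharacter L ν) (hPν : P ≤ stab ν) (hn : L.relIndex U < n) (hLU : L ≤ U)
    (hLN : L ≤ U ⊓ normalizer (P : Set G)) : Cnt p (inclusion hLU) ν = Cnt p (inclusion hLN) ν := by
  have hidx : ∀ V : Subgroup G, P ≤ V → V ≤ U → ¬ p ∣ (stab ν).relIndex V := fun V hPV hVU h =>
    (hP.of_le hPV hVU).ndvd (h.trans (relIndex_dvd_of_le_left _ hPν))
  have hL : L ≤ stab ν := hP.le.trans hPν
  rw [cnt_clifford hp.out hLU hUL hν (le_inf hLU hL) (hidx U hP.le' le_rfl),
    cnt_clifford hp.out hLN (inf_le_left.trans hUL) hν (le_inf hLN hL)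
      (hidx _ (le_inf hP.le' le_normalizer) inf_le_left),
    rel_inv h (inf_le_left.trans hUL) (hP.of_le (le_inf hP.le' hPν) inf_le_left) hν inf_le_right
      (lt_of_le_of_lt (relIndex_le_of_le_right inf_le_left (rne _ _)) hn) _ (le_inf (le_inf hLU hL) (hLN.trans inf_le_right))]
  exact cnt_eq_of_eq _ _ (inf_right_comm _ _ _) _

/-- **Clifford theory over a normal subgroup `K > Z`** -/
theorem kk_step {Z K : Subgroup G} (hZ : Z ≤ center G) (h : IH p Z.index) [K.Normal] (hZK : Z < K) (P : Sylow p G) (l : G → ℂ) :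
    kk p ⊤ Z l = kk p (normalizer ((K ⊔ (P : Subgroup G) : Subgroup G) : Set G)) Z l := by
  have hK : (⊤ : Subgroup G) ≤ normalizer (K : Set G) := (normalizer_eq_top K).ge
  have hR : SM p K (K ⊔ (P : Subgroup G)) ⊤ :=
    SylIn.sm ⟨le_top, P.isPGroup', (relIndex_top_right (P : Subgroup G)).symm ▸ P.not_dvd_index⟩ le_top hK
  have hH : K ≤ ⊤ ⊓ normalizer ((K ⊔ (P : Subgroup G) : Subgroup G) : Set G) := le_inf le_top (le_sup_left.trans le_normalizer)
  refine kk_eq_of_cnt hZ le_top (hZ.trans (center_le_normalizer _)) fun m _ => ?_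
  refine (stepA hZK.le le_top (fun g _ => (stab_lf_of_central hZ m g).1) hK hR hH (isIrr_lf m)
    (fun g _ => stab_lf_of_central hZ m g) fun ξ h1 h2 => rel h hK hR h1 h2 ?_ _ _).trans (cnt_eq_of_eq _ _ (top_inf_eq _) _)
  rw [← relIndex_top_right]
  exact relIndex_lt_of_lt_left hZK le_top

end Cfsg.Agent.MO.R
end

-- part: MO/S/Defs
section
/-!
# MO, the small rows: what the tables deliver (helper78)

* `Cv m φ` : `φ : X → S` is a perfect central extension with a cyclic kernel of order `m`;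
* `SmS p S`, `SmC p m S` : the small row of `S` and of its covers `m.S`;
* `GK`, `LK`, `GF`, `LF` : the four numbers (group / normaliser of a Sylow subgroup, all / fixed by an outer automorphism);
* `Out2 S`, `NoOut m S` : the outer automorphisms;
* `AE p` : the theorem of An and Eaton (S4622);
* `SporIn` : one field for each sporadic group, each cover and each odd prime with a Sylow subgroup which is not cyclic.
-/

set_option autoImplicit false

namespace Cfsg.Agent.MO.S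

open Cfsg Cfsg.Spor Subgroup
open scoped Pointwise

/-- a perfect central extension with a cyclic kernel of order `m` -/
structure Cv (m : ℕ) {X S : Type} [Group X] [Group S] (φ : X →* S) : Prop where
  surj : Function.Surjective φ
  ker : φ.ker = center X
  card : Nat.card (center X) = m
  cyc : IsCyclic (center X)
  perf : _root_.commutator X = ⊤

/-- `l` is a faithful linear character of the centre -/
def Fl (X : Type) [Group X] (l : X → ℂ) : Prop :=
  ∃ μ : center X →* ℂˣ, Function.Injective μ ∧ ∀ z : center X, l z = μ z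

/-- the small row of a simple group -/
def SmS (p : ℕ) (S : Type) [Group S] : Prop := IH p (Nat.card S) → Sm p S

/-- the small row of the covers `m.S` -/
def SmC (p m : ℕ) (S : Type) [Group S] : Prop :=
  ∀ (X : Type) [Group X] [Finite X] (φ : X →* S), Cv m φ → IH p (Nat.card S) → Sm p X

/-- `m.S` has `c` irreducible characters of `p'`-degree over each faithful character of the centre -/
def GK (p m : ℕ) (S : Type) [Group S] (c : ℕ) : Prop :=
  ∀ (X : Type) [Group X] [Finite X] (φ : X →* S), Cv m φ → ∀ l, Fl X l → kk p ⊤ (center X) l = c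

/-- the same for the normaliser of a Sylow `p`-subgroup -/
def LK (p m : ℕ) (S : Type) [Group S] (c : ℕ) : Prop :=
  ∀ (X : Type) [Group X] [Finite X] (φ : X →* S), Cv m φ → IH p (Nat.card S) → ∃ Q : Sylow p X, ∀ l, Fl X l →
    kk p (normalizer ((Q : Subgroup X) : Set X)) (center X) l = c

/-- `c` of them are fixed by an outer automorphism which centralises the centre -/
def GF (p m : ℕ) (S : Type) [Group S] (c : ℕ) : Prop :=
  ∀ (X : Type) [Group X] [Finite X] (φ : X →* S), Cv m φ → ∀ α : MulAut X, (∀ z ∈ center X, α z = z) →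
    (¬ ∃ x, α = MulAut.conj x) → ∀ l, Fl X l → fA p l α = c

/-- the same for the normaliser of a Sylow `p`-subgroup; the Sylow subgroup and the automorphism in its class modulo the
inner ones may be chosen -/
def LF (p m : ℕ) (S : Type) [Group S] (c : ℕ) : Prop :=
  ∀ (X : Type) [Group X] [Finite X] (φ : X →* S), Cv m φ → IH p (Nat.card S) → ∀ α : MulAut X,
    (∀ z ∈ center X, α z = z) → (¬ ∃ x, α = MulAut.conj x) → ∃ (Q : Sylow p X) (x : X),
      (∀ y, (MulAut.conj x * α) y ∈ (Q : Subgroup X) ↔ y ∈ (Q : Subgroup X)) ∧ ∀ l, Fl X l →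
        fB p (normalizer ((Q : Subgroup X) : Set X)) l (MulAut.conj x * α) = c

/-- the outer automorphism group has at most two elements -/
def Out2 (S : Type) [Group S] : Prop :=
  ∃ β : MulAut S, ∀ γ : MulAut S, ∃ s, γ = MulAut.conj s ∨ γ = MulAut.conj s * β

/-- the automorphisms of `m.S` which centralise the centre are inner -/
def NoOut (m : ℕ) (S : Type) [Group S] : Prop :=
  ∀ (X : Type) [Group X] [Finite X] (φ : X →* S), Cv m φ → ∀ α : MulAut X, (∀ z ∈ center X, α z = z) →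
    ∃ x, α = MulAut.conj x

/-- the automorphisms of `m.S` which centralise the centre form at most two classes modulo the inner ones -/
def OutC (m : ℕ) (S : Type) [Group S] : Prop :=
  ∀ (X : Type) [Group X] [Finite X] (φ : X →* S), Cv m φ → ∃ γ : MulAut X, ∀ α : MulAut X,
    (∀ z ∈ center X, α z = z) → ∃ x, α = MulAut.conj x ∨ α = MulAut.conj x * γ

/-- `D` is a trivial intersection subgroup -/
def TI {G : Type} [Group G] (D : Subgroup G) : Prop :=
  ∀ g : G, g ∉ normalizer (D : Set G) → D ⊓ (MulAut.conj g • D) = ⊥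

/-- the theorem of An and Eaton (S4622) -/
def AE (p : ℕ) [Fact p.Prime] : Prop :=
  ∀ (G : Type) [Group G] [Finite G], pCore p G = ⊥ → ∀ M : Ideal AlgInt, IsPModular p M →
    ∀ B : Set (IrrCharacter G), IsPBlock M B → ∀ D : Subgroup G, IsDefectGroup p M B D → D ≠ ⊥ → TI D → ∀ d : ℕ,
    Nat.card {χ : IrrCharacter G // χ ∈ B ∧
        (Nat.card G).factorization p = d + (charDegree (χ : G → ℂ)).factorization p} =
      Nat.card {ψ : IrrCharacter (normalizer (D : Set G)) //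
        (∃ b : Set (IrrCharacter (normalizer (D : Set G))), ψ ∈ b ∧ IsInducedBlock M (normalizer (D : Set G)) b B) ∧
        (Nat.card (normalizer (D : Set G))).factorization p =
          d + (charDegree (ψ : normalizer (D : Set G) → ℂ)).factorization p}

/-- **What the sporadic rows deliver.**  The name of a field is `group_cover_prime`. -/
structure SporIn : Prop where
  m11_1_3 : SmC 3 1 M11
  m12_1_3 : SmC 3 1 M12
  m12_2_3 : SmC 3 2 M12
  m22_1_3 : SmC 3 1 M22
  m22_2_3 : SmC 3 2 M22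
  m22_4_3 : SmC 3 4 M22
  m23_1_3 : SmC 3 1 M23
  m24_1_3 : SmC 3 1 M24
  j2_1_3 : SmC 3 1 J2
  j2_2_3 : SmC 3 2 J2
  j2_1_5 : SmC 5 1 J2
  j2_2_5 : SmC 5 2 J2
  j3_1_3 : ∀ (F : Type) [Field F] [Fintype F] (ω : F), Fintype.card F = 4 → ω ^ 2 + ω + 1 = 0 → SmC 3 1 (J3 F ω)
  j4_1_3 : SmC 3 1 J4
  j4_1_11 : SmC 11 1 J4
  co1_1_3 : SmC 3 1 Co1
  co1_2_3 : SmC 3 2 Co1
  co1_1_5 : SmC 5 1 Co1
  co1_2_5 : SmC 5 2 Co1
  co1_1_7 : SmC 7 1 Co1
  co1_2_7 : SmC 7 2 Co1
  co2_1_3 : SmC 3 1 Co2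
  co2_1_5 : SmC 5 1 Co2
  co3_1_3 : SmC 3 1 Co3
  co3_1_5 : SmC 5 1 Co3
  mcl_1_3 : SmC 3 1 McL
  mcl_1_5 : SmC 5 1 McL
  mcl_3_5 : SmC 5 3 McL
  hs_1_3 : SmC 3 1 HS
  hs_2_3 : SmC 3 2 HS
  hs_1_5 : SmC 5 1 HS
  hs_2_5 : SmC 5 2 HS
  suz_1_3 : SmC 3 1 Suz
  suz_2_3 : SmC 3 2 Suz
  suz_1_5 : SmC 5 1 Suz
  suz_2_5 : SmC 5 2 Suz
  suz_3_5 : SmC 5 3 Suz
  suz_6_5 : SmC 5 6 Suz
  he_1_3 : SmC 3 1 He
  he_1_5 : SmC 5 1 He
  he_1_7 : SmC 7 1 He
  ru_1_3 : SmC 3 1 Ru
  ru_2_3 : SmC 3 2 Ru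
  ru_1_5 : SmC 5 1 Ru
  ru_2_5 : SmC 5 2 Ru
  on_1_3 : SmC 3 1 ON
  on_1_7 : SmC 7 1 ON
  on_3_7 : SmC 7 3 ON
  ly_1_3 : SmC 3 1 Ly
  ly_1_5 : SmC 5 1 Ly
  fi22_1_3 : SmC 3 1 Fi22
  fi22_2_3 : SmC 3 2 Fi22
  fi22_1_5 : SmC 5 1 Fi22
  fi22_2_5 : SmC 5 2 Fi22
  fi22_3_5 : SmC 5 3 Fi22
  fi22_6_5 : SmC 5 6 Fi22
  fi23_1_3 : SmC 3 1 Fi23
  fi23_1_5 : SmC 5 1 Fi23
  fi24_1_3 : SmC 3 1 Fi24'
  fi24_1_5 : SmC 5 1 Fi24'
  fi24_3_5 : SmC 5 3 Fi24'
  fi24_1_7 : SmC 7 1 Fi24'
  fi24_3_7 : SmC 7 3 Fi24'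
  hn_1_3 : SmC 3 1 HN
  hn_1_5 : SmC 5 1 HN
  th_1_3 : SmC 3 1 Th
  th_1_5 : SmC 5 1 Th
  th_1_7 : SmC 7 1 Th
  b_1_3 : SmC 3 1 BabyMonster
  b_2_3 : SmC 3 2 BabyMonster
  b_1_5 : SmC 5 1 BabyMonster
  b_2_5 : SmC 5 2 BabyMonster
  b_1_7 : SmC 7 1 BabyMonster
  b_2_7 : SmC 7 2 BabyMonster
  m_1_3 : SmC 3 1 Monster
  m_1_5 : SmC 5 1 Monster
  m_1_7 : SmC 7 1 Monster
  m_1_11 : SmC 11 1 Monster
  m_1_13 : SmC 13 1 Monster

end Cfsg.Agent.MO.S
end

-- part: MO/T/A
section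
/-!
# MO, tools for the small rows: the counts (helper78, from `MK/T`)

* `k0 p G`, `f0 p α` : the number of irreducible characters of `p'`-degree, and of those fixed by `α`; `fN p K α` : the same
  for a subgroup; `M0 p G` : the McKay equality;
* `k0_of_degList`, `card_enum`, `f0_enum` : from tables;
* `k0_pgroup`, `k0_abelian`, `IH.m0`, `IH.k0_sub`;
* `sm_of_pair`, `sm_of_inn`.
-/

set_option autoImplicit false

namespace Cfsg.Agent.MO.T

open Cfsg Subgroup Cfsg.Agent.ODD.Red Cfsg.Agent.Characters Cfsg.Agent.Characters.Core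
  Cfsg.Agent.TAB.Use Cfsg.Agent.H142.McKayCount
open Cfsg.Agent.MK (Ov Fa)
open Cfsg.Agent.MK.T (res fix_iff)

/-- the number of irreducible characters of `p'`-degree -/
noncomputable def k0 (p : ℕ) (G : Type) [Group G] : ℕ := Nat.card {χ : G → ℂ // PI p G χ}

/-- the number of irreducible characters of `p'`-degree which are fixed by `α` -/
noncomputable def f0 (p : ℕ) {G : Type} [Group G] (α : MulAut G) : ℕ :=
  Nat.card {χ : G → ℂ // PI p G χ ∧ ∀ x, χ (α x) = χ x}

/-- the number of irreducible characters of `p'`-degree of `K` which are fixed by `α` -/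
noncomputable def fN (p : ℕ) {X : Type} [Group X] (K : Subgroup X) (α : MulAut X) : ℕ :=
  Nat.card {ψ : K → ℂ // PI p K ψ ∧ ∀ y y' : K, (y' : X) = α y → ψ y' = ψ y}

/-- the McKay equality -/
def M0 (p : ℕ) (G : Type) [Group G] : Prop :=
  ∀ P : Sylow p G, k0 p G = k0 p (normalizer ((P : Subgroup G) : Set G))

variable {p : ℕ} {G H : Type} [Group G] [Group H]

theorem pi_comp (f : G →* H) (hf : Function.Surjective f) {χ : H → ℂ} (h : PI p H χ) : PI p G fun x => χ (f x) :=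
  ⟨isIrr_comp' f hf h.1, by
    rw [charDegree_congr (ψ := χ) (by simp only [map_one])]
    exact h.2⟩

theorem pi_equiv (e : G ≃* H) {χ : H → ℂ} (h : PI p H χ) : PI p G fun x => χ (e x) :=
  pi_comp e.toMonoidHom e.surjective h

theorem finite_pi [Finite G] (q : (G → ℂ) → Prop) : Finite {χ : G → ℂ // PI p G χ ∧ q χ} := by
  have := finite_irr (G := G)
  exact Finite.of_injective (fun χ : {χ : G → ℂ // PI p G χ ∧ q χ} => (⟨χ.1, χ.2.1.1⟩ : IrrCharacter G))
    fun a b h => Subtype.ext (congrArg (fun x : IrrCharacter G => x.1) h)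

theorem finite_pi' [Finite G] : Finite {χ : G → ℂ // PI p G χ} := by
  have := finite_irr (G := G)
  exact Finite.of_injective (fun χ : {χ : G → ℂ // PI p G χ} => (⟨χ.1, χ.2.1⟩ : IrrCharacter G))
    fun a b h => Subtype.ext (congrArg (fun x : IrrCharacter G => x.1) h)

/-- transport of a count -/
theorem card_congr (e : G ≃* H) {r : (G → ℂ) → Prop} {q : (H → ℂ) → Prop}
    (h : ∀ χ : H → ℂ, PI p H χ → (r (fun x => χ (e x)) ↔ q χ)) :
    Nat.card {χ : G → ℂ // PI p G χ ∧ r χ} = Nat.card {χ : H → ℂ // PI p H χ ∧ q χ} := by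
  refine Nat.card_congr ⟨fun χ => ⟨fun y => χ.1 (e.symm y), pi_equiv e.symm χ.2.1,
      (h _ (pi_equiv e.symm χ.2.1)).1 (by simpa only [e.symm_apply_apply] using χ.2.2)⟩,
    fun χ => ⟨fun x => χ.1 (e x), pi_equiv e χ.2.1, (h _ χ.2.1).2 χ.2.2⟩, fun χ => ?_, fun χ => ?_⟩
  · exact Subtype.ext (funext fun x => by simp only [e.symm_apply_apply])
  · exact Subtype.ext (funext fun x => by simp only [e.apply_symm_apply])

theorem card_iff {r q : (G → ℂ) → Prop} (h : ∀ χ, PI p G χ → (r χ ↔ q χ)) :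
    Nat.card {χ : G → ℂ // PI p G χ ∧ r χ} = Nat.card {χ : G → ℂ // PI p G χ ∧ q χ} :=
  Nat.card_congr (Equiv.subtypeEquivRight fun χ => and_congr_right (h χ))

theorem k0_eq_of {q : (G → ℂ) → Prop} (h : ∀ χ, PI p G χ → q χ) :
    Nat.card {χ : G → ℂ // PI p G χ ∧ q χ} = k0 p G :=
  Nat.card_congr (Equiv.subtypeEquivRight fun χ => ⟨fun h1 => h1.1, fun h1 => ⟨h1, h χ h1⟩⟩)

theorem k0_congr (e : G ≃* H) : k0 p G = k0 p H := by
  rw [← k0_eq_of (q := fun _ => True) fun _ _ => trivial, ← k0_eq_of (q := fun _ => True) fun _ _ => trivial]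
  exact card_congr e fun _ _ => Iff.rfl

theorem f0_congr (e : G ≃* H) {α : MulAut G} {β : MulAut H} (h : ∀ x, e (α x) = β (e x)) : f0 p α = f0 p β :=
  card_congr e fun χ _ => ⟨fun h1 y => by
    obtain ⟨x, rfl⟩ := e.surjective y
    rw [← h]
    exact h1 x, fun h1 x => (congrArg χ (h x)).trans (h1 _)⟩

theorem f0_eq_of_all {α : MulAut G} (h : ∀ χ, PI p G χ → ∀ x, χ (α x) = χ x) : f0 p α = k0 p G := k0_eq_of h

theorem f0_conj (g : G) : f0 p (MulAut.conj g) = k0 p G :=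
  f0_eq_of_all fun _ h x => isIrr_isClassFunction h.1 x g

theorem f0_conj_mul (g : G) (α : MulAut G) : f0 p (MulAut.conj g * α) = f0 p α :=
  card_iff fun _ h => forall_congr' fun x => by
    rw [MulAut.mul_apply, MulAut.conj_apply, isIrr_isClassFunction h.1]

theorem f0_le [Finite G] (α : MulAut G) : f0 p α ≤ k0 p G := by
  have := finite_pi' (p := p) (G := G)
  exact Nat.card_le_card_of_injective (fun χ => ⟨χ.1, χ.2.1⟩) fun a b h => Subtype.ext (congrArg Subtype.val h :)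

theorem k0_eq_np : k0 p G = np p G :=
  Nat.card_congr ⟨fun χ => ⟨⟨χ.1, χ.2.1⟩, χ.2.2⟩, fun χ => ⟨χ.1.1, χ.1.2, χ.2⟩, fun _ => rfl, fun _ => rfl⟩

theorem k0_pgroup [Finite G] [Fact p.Prime] (h : IsPGroup p G) : k0 p G = (_root_.commutator G).index := by
  rw [k0_eq_np, np_of_isPGroup h]

/-- an abelian normal subgroup of `p'`-index: all degrees are prime to `p` -/
theorem pi_of_abelian [Finite G] (A : Subgroup G) [A.Normal] (hA : ∀ a ∈ A, ∀ b ∈ A, a * b = b * a)
    (hi : ¬ p ∣ A.index) {χ : G → ℂ} (h : IsIrrCharacter G χ) : PI p G χ :=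
  ⟨h, nd_of_dvd hi (charDegree_dvd_index A hA ⟨χ, h⟩)⟩

theorem k0_abelian [Finite G] (A : Subgroup G) [A.Normal] (hA : ∀ a ∈ A, ∀ b ∈ A, a * b = b * a)
    (hi : ¬ p ∣ A.index) : k0 p G = Nat.card (ConjClasses G) := by
  rw [k0_eq_np, np_eq_card_conjClasses A hA hi]

theorem M0.of_one [Finite G] [Fact p.Prime] (P : Sylow p G)
    (h : k0 p G = k0 p (normalizer ((P : Subgroup G) : Set G))) : M0 p G := by
  intro Q
  rw [h, k0_eq_np, k0_eq_np, np_normalizer_sylow P Q]

theorem k0_normalizer_map (e : G ≃* H) (Q : Subgroup G) :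
    k0 p (normalizer (Q : Set G)) = k0 p (normalizer ((Q.map e.toMonoidHom : Subgroup H) : Set H)) := by
  rw [← map_normalizer_eq_of_bijective Q (f := e.toMonoidHom) e.bijective]
  exact k0_congr (equivMapOfInjective _ e.toMonoidHom e.injective)

theorem M0.congr [Finite G] [Fact p.Prime] (h : M0 p G) (e : G ≃* H) : M0 p H := by
  have : Finite H := Finite.of_equiv _ e.toEquiv
  refine M0.of_one ((default : Sylow p G).mapSurjective (f := e.toMonoidHom) e.surjective) ?_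
  rw [← k0_congr e, h default]
  exact k0_normalizer_map e _

theorem kk_bot (K : Subgroup G) {l : G → ℂ} (hl : l 1 = 1) : kk p K ⊥ l = k0 p K :=
  k0_eq_of fun ψ _ h hh => by
    obtain rfl : h = 1 := Subtype.ext (mem_bot.1 hh)
    rw [OneMemClass.coe_one, hl, one_mul]

theorem m0_of_mcK (h : McK p G ⊥) : M0 p G := fun P => by
  rw [← k0_congr topEquiv, ← kk_bot ⊤ (l := fun _ => 1) rfl, h, kk_bot _ rfl]

theorem _root_.Cfsg.Agent.MO.IH.m0 [Finite G] {n : ℕ} (h : IH p n) (hG : Nat.card G < n) : M0 p G :=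
  m0_of_mcK (h G ⊥ bot_le (by rwa [index_bot]))

theorem M0.k0_sub [Finite G] [Fact p.Prime] {K : Subgroup G} (h : M0 p K) (P : Sylow p G)
    (hN : normalizer ((P : Subgroup G) : Set G) ≤ K) : k0 p K = k0 p (normalizer ((P : Subgroup G) : Set G)) := by
  have h1 : (P : Subgroup G) ≤ K := le_normalizer.trans hN
  rw [h (P.subtype h1), Sylow.coe_subtype, ← subgroupOf_normalizer_eq h1]
  exact k0_congr (subgroupOfEquivOfLe hN)

/-- a subgroup which contains the normaliser of a Sylow subgroup -/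
theorem _root_.Cfsg.Agent.MO.IH.k0_sub [Finite G] [Fact p.Prime] {n : ℕ} (h : IH p n) {K : Subgroup G}
    (hK : Nat.card K < n) (P : Sylow p G) (hN : normalizer ((P : Subgroup G) : Set G) ≤ K) :
    k0 p K = k0 p (normalizer ((P : Subgroup G) : Set G)) := (h.m0 hK).k0_sub P hN

/-! ### tables -/

section enum

variable {n : ℕ} {d : ℕ → ℕ} {χ : ℕ → G → ℂ}

theorem card_enum (hE : Enum G n d χ) {r : (G → ℂ) → Prop} {q : ℕ → Bool}
    (h : ∀ j < n, ¬ p ∣ d j → (r (χ j) ↔ q j = true)) :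
    Nat.card {ψ : G → ℂ // PI p G ψ ∧ r ψ} = (List.range n).countP fun j => d j % p != 0 && q j := by
  have h1 : ∀ j < n, PI p G (χ j) ↔ ¬ p ∣ d j := fun j hj => by
    rw [PI, charDegree_of (hE.deg j hj)]
    exact and_iff_right (hE.irr j hj)
  have h2 : ∀ j, (j ∈ (Finset.range n).filter fun j => (d j % p != 0 && q j) = true) ↔
      j < n ∧ ¬ p ∣ d j ∧ q j = true := fun j => by
    rw [Finset.mem_filter, Finset.mem_range, Bool.and_eq_true, bne_iff_ne, Nat.dvd_iff_mod_eq_zero]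
  rw [List.countP_eq_length_filter, ← List.toFinset_card_of_nodup (List.nodup_range.filter _), List.toFinset_filter,
    List.toFinset_range, ← Nat.card_eq_finsetCard]
  refine (Nat.card_congr (Equiv.ofBijective (fun j => ⟨χ j.1, (h1 _ ((h2 _).1 j.2).1).2 ((h2 _).1 j.2).2.1,
    (h _ ((h2 _).1 j.2).1 ((h2 _).1 j.2).2.1).2 ((h2 _).1 j.2).2.2⟩) ⟨fun a b hab => ?_, fun ψ => ?_⟩)).symm
  · exact Subtype.ext (hE.inj _ ((h2 _).1 a.2).1 _ ((h2 _).1 b.2).1 (congrArg Subtype.val hab))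
  · obtain ⟨ψ, h3, h4⟩ := ψ
    obtain ⟨j, hj, rfl⟩ := hE.all _ h3.1
    exact ⟨⟨j, (h2 _).2 ⟨hj, (h1 j hj).1 h3, (h j hj ((h1 j hj).1 h3)).1 h4⟩⟩, rfl⟩

theorem k0_enum (hE : Enum G n d χ) : k0 p G = (List.range n).countP fun j => d j % p != 0 := by
  rw [← k0_eq_of (q := fun _ => True) fun _ _ => trivial, card_enum hE (q := fun _ => true) fun _ _ _ => by simp]
  simp only [Bool.and_true]

/-- `q` marks the fixed characters among those of `p'`-degree -/
theorem f0_enum (hE : Enum G n d χ) {α : MulAut G} {q : ℕ → Bool}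
    (h : ∀ j < n, ¬ p ∣ d j → ((∀ x, χ j (α x) = χ j x) ↔ q j = true)) :
    f0 p α = (List.range n).countP fun j => d j % p != 0 && q j := card_enum hE h

theorem k0_of_degList {L : List ℕ} (h : DegList G L) : k0 p G = L.countP fun a => a % p != 0 := by
  obtain ⟨χ, hE⟩ := h
  have h1 : (List.range L.length).map (fun j => L.getD j 0) = L :=
    List.ext_getElem (by simp) fun i h1 h2 => by simp [List.getElem?_eq_getElem h2]
  rw [k0_enum hE]
  conv_rhs => rw [← h1, List.countP_map]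
  rfl

end enum

/-! ### automorphisms -/

section aut

variable {X : Type} [Group X]

theorem fN_eq_f0 {K : Subgroup X} {α : MulAut X} {β : MulAut K} (h : ∀ y, (β y : X) = α y) : fN p K α = f0 p β :=
  card_iff fun ψ _ => fix_iff h ψ

theorem fN_one (K : Subgroup X) : fN p K 1 = k0 p K :=
  k0_eq_of fun ψ _ y y' h => by rw [show y' = y from Subtype.ext h]

theorem fN_top (α : MulAut X) : fN p ⊤ α = f0 p α := by
  rw [fN_eq_f0 (β := res ⊤ α fun _ => Iff.rfl) fun _ => rfl]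
  exact f0_congr topEquiv fun _ => rfl

theorem fix_conj_mul {K : Subgroup X} {n : X} (hn : n ∈ K) (α : MulAut X) {ψ : K → ℂ} (h : IsClassFunction K ψ) :
    (∀ y y' : K, (y' : X) = (MulAut.conj n * α) y → ψ y' = ψ y) ↔ ∀ y y' : K, (y' : X) = α y → ψ y' = ψ y := by
  refine ⟨fun h1 y y' h2 => ?_, fun h1 y y' h2 => ?_⟩
  · rw [← h y' ⟨n, hn⟩]
    exact h1 _ _ (by rw [MulAut.mul_apply, ← h2]; rfl)
  · rw [← h y' ⟨n, hn⟩⁻¹]
    refine h1 _ _ ?_
    change n⁻¹ * y' * n⁻¹⁻¹ = _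
    rw [h2, MulAut.mul_apply, MulAut.conj_apply]
    group

theorem fN_conj_mul {K : Subgroup X} {n : X} (hn : n ∈ K) (α : MulAut X) : fN p K (MulAut.conj n * α) = fN p K α :=
  card_iff fun _ h => fix_conj_mul hn α (isIrr_isClassFunction h.1)

theorem fB_conj_mul {K : Subgroup X} {n : X} (hn : n ∈ K) (l : X → ℂ) (α : MulAut X) :
    fB p K l (MulAut.conj n * α) = fB p K l α :=
  card_iff fun _ h => and_congr_right fun _ => fix_conj_mul hn α (isIrr_isClassFunction h.1)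

theorem fA_conj_mul (n : X) (l : X → ℂ) (α : MulAut X) : fA p l (MulAut.conj n * α) = fA p l α :=
  card_iff fun _ h => and_congr_right fun _ =>
    forall_congr' fun x => by rw [MulAut.mul_apply, MulAut.conj_apply, isIrr_isClassFunction h.1]

theorem fA_one [Finite X] (l : X → ℂ) : fA p l 1 = kk p ⊤ (center X) l := by
  rw [kk_top]
  exact card_iff fun _ _ => and_iff_left fun _ => rfl

theorem fB_one (K : Subgroup X) (l : X → ℂ) : fB p K l 1 = kk p K (center X) l :=
  card_iff fun ψ _ => and_iff_left fun y y' h => by rw [show y' = y from Subtype.ext h]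

theorem fB_top (l : X → ℂ) (α : MulAut X) : fB p ⊤ l α = fA p l α :=
  card_congr topEquiv fun _ _ => and_congr ⟨fun h z hz => h ⟨z, trivial⟩ hz, fun h z hz => h z hz⟩
    ⟨fun h x => h ⟨x, trivial⟩ ⟨α x, trivial⟩ rfl, fun h y _ e => (congrArg _ e).trans (h y)⟩

/-- **the basic form** -/
theorem sm_of_pair [Finite X] (γ : MulAut X)
    (hγ : ∀ α : MulAut X, (∀ z ∈ center X, α z = z) → ∃ x, α = MulAut.conj x ∨ α = MulAut.conj x * γ)
    (Q : Sylow p X) (hQ : ∀ x, γ x ∈ (Q : Subgroup X) ↔ x ∈ (Q : Subgroup X))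
    (h1 : ∀ l, Fa (center X) l →
      kk p ⊤ (center X) l = kk p (normalizer ((Q : Subgroup X) : Set X)) (center X) l)
    (h2 : ∀ l, Fa (center X) l → fA p l γ = fB p (normalizer ((Q : Subgroup X) : Set X)) l γ) : Sm p X := by
  refine ⟨⟨γ, fun α hα => ?_⟩, Q, fun l hl α hα hαQ => ?_⟩
  · obtain ⟨x, h | h⟩ := hγ α hα
    · exact ⟨0, x, by rw [h, pow_zero, mul_one]⟩
    · exact ⟨1, x, by rw [h, pow_one]⟩
  · obtain ⟨x, rfl | rfl⟩ := hγ α hα
    · rw [← mul_one (MulAut.conj x), fA_conj_mul, fB_conj_mul (mem_normalizer_iff.2 fun y => (hαQ y).symm), fA_one,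
        fB_one, h1 l hl]
    · rw [fA_conj_mul, fB_conj_mul (mem_normalizer_iff.2 fun y => ?_), h2 l hl]
      obtain ⟨y, rfl⟩ := γ.surjective y
      exact (hQ y).trans (hαQ y).symm

/-- the automorphisms which fix the centre are inner -/
theorem sm_of_inn [Finite X] (hγ : ∀ α : MulAut X, (∀ z ∈ center X, α z = z) → ∃ x, α = MulAut.conj x)
    (Q : Sylow p X) (h : ∀ l, Fa (center X) l →
      kk p ⊤ (center X) l = kk p (normalizer ((Q : Subgroup X) : Set X)) (center X) l) : Sm p X :=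
  sm_of_pair 1 (fun α hα => (hγ α hα).imp fun _ => Or.inl) Q (fun _ => Iff.rfl) h fun l hl => by
    rw [fA_one, fB_one, h l hl]

theorem fA_eq_f0 (hZ : center X = ⊥) (α : MulAut X) {l : X → ℂ} (hl : l 1 = 1) : fA p l α = f0 p α :=
  card_iff fun θ _ => and_iff_right fun z hz => by rw [show z = 1 from mem_bot.1 (hZ ▸ hz), hl, one_mul]

theorem fB_eq_fN (hZ : center X = ⊥) (K : Subgroup X) (α : MulAut X) {l : X → ℂ} (hl : l 1 = 1) :
    fB p K l α = fN p K α :=
  card_iff fun θ _ => and_iff_right fun z hz => by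
    obtain rfl : z = 1 := Subtype.ext (mem_bot.1 (hZ ▸ hz))
    rw [OneMemClass.coe_one, hl, one_mul]

end aut

end Cfsg.Agent.MO.T
end

-- part: MO/T/B
section
/-!
# MO, tools for the small rows: from the four numbers to `SmC` (helper78)

* `fB_congr`, `sm_congr`, `SmC.congr`, `GK.congr`, `LK.congr`, `GF.congr`, `LF.congr` : transport;
* `smC_of_counts`, `smC_of_kk` : the assembly; `Out2.outC`, `out2_of_index`, `noOut_of_inn`;
* `gk_one`, `lk_one`, `gf_one`, `lf_one`, `smC_one`, `smC_one_inn`, `smC_one_two` : the simple group;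
* `fB_gal`, `Fl.gal`, `fB_fl`, `kk_fl`, `fA_fl` : all faithful characters of the centre give the same numbers;
* `fB_ker`, `fN_two`, `k0_two`, `fN_three`, `k0_three` : double and triple covers.
-/

set_option autoImplicit false

namespace Cfsg.Agent.MO.T

open Cfsg Subgroup Cfsg.Agent.ODD.Red Cfsg.Agent.Characters Cfsg.Agent.Characters.Core Cfsg.Agent.MO.S
open Cfsg.Agent.MK (Ov Fa exists_hom)
open Cfsg.Agent.MK.T (res fix_iff exists_ind eq_one_of_ind exists_cc card_or card_three out_cases)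
open scoped ComplexConjugate

variable {p m : ℕ} {X G S S' : Type} [Group X] [Group G] [Group S] [Group S']

/-! ### transport -/

theorem mem_center_congr (e : X ≃* G) (x : X) : e x ∈ center G ↔ x ∈ center X := by
  rw [mem_center_iff, mem_center_iff]
  constructor
  · intro h y
    exact e.injective (by rw [map_mul, map_mul, h])
  · intro h g
    obtain ⟨y, rfl⟩ := e.surjective g
    rw [← map_mul, ← map_mul, h]

/-- the isomorphism of corresponding subgroups -/
def se (e : X ≃* G) (K' : Subgroup X) (K : Subgroup G) (hK : ∀ x, x ∈ K' ↔ e x ∈ K) : K' ≃* K where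
  toFun x := ⟨e x, (hK _).1 x.2⟩
  invFun g := ⟨e.symm g, (hK _).2 (by simp)⟩
  left_inv x := Subtype.ext (by simp)
  right_inv g := Subtype.ext (by simp)
  map_mul' x y := Subtype.ext (by simp)

theorem fB_congr (e : X ≃* G) (K' : Subgroup X) (K : Subgroup G) (hK : ∀ x, x ∈ K' ↔ e x ∈ K) {l' : X → ℂ}
    {l : G → ℂ} (hl : ∀ z ∈ center X, l' z = l (e z)) (α : MulAut X) (β : MulAut G) (h : ∀ x, β (e x) = e (α x)) :
    fB p K' l' α = fB p K l β := by
  refine card_congr (se e K' K hK) fun ψ _ => and_congr ⟨fun h1 z hz => ?_, fun h1 z hz => ?_⟩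
    ⟨fun h1 y y' hy => ?_, fun h1 y y' hy => h1 _ _ ?_⟩
  · obtain ⟨y, rfl⟩ := (se e K' K hK).surjective z
    have h2 := (mem_center_congr e y).1 hz
    have h3 := h1 y h2
    beta_reduce at h3
    rwa [map_one, hl _ h2] at h3
  · have h3 := h1 (se e K' K hK z) ((mem_center_congr e z).2 hz)
    beta_reduce
    rw [map_one, hl _ hz]
    exact h3
  · obtain ⟨z, rfl⟩ := (se e K' K hK).surjective y
    obtain ⟨z', rfl⟩ := (se e K' K hK).surjective y'
    refine h1 _ _ (e.injective ?_)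
    rw [← h]
    exact hy
  · show e y' = β (e y)
    rw [h, hy]

theorem fA_congr (e : X ≃* G) {l' : X → ℂ} {l : G → ℂ} (hl : ∀ z ∈ center X, l' z = l (e z)) (α : MulAut X)
    (β : MulAut G) (h : ∀ x, β (e x) = e (α x)) : fA p l' α = fA p l β := by
  rw [← fB_top, ← fB_top]
  exact fB_congr e _ _ (fun _ => Iff.rfl) hl α β h

theorem fN_congr (e : X ≃* G) (K' : Subgroup X) (K : Subgroup G) (hK : ∀ x, x ∈ K' ↔ e x ∈ K) (α : MulAut X)
    (β : MulAut G) (h : ∀ x, β (e x) = e (α x)) : fN p K' α = fN p K β := by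
  refine card_congr (se e K' K hK) fun ψ _ => ⟨fun h1 y y' hy => ?_, fun h1 y y' hy => h1 _ _ ?_⟩
  · obtain ⟨z, rfl⟩ := (se e K' K hK).surjective y
    obtain ⟨z', rfl⟩ := (se e K' K hK).surjective y'
    refine h1 _ _ (e.injective ?_)
    rw [← h]
    exact hy
  · show e y' = β (e y)
    rw [h, hy]

/-- the Sylow subgroup which corresponds under an isomorphism -/
theorem exists_sylow_congr [Fact p.Prime] (e : X ≃* G) (Q : Sylow p G) : ∃ Q' : Sylow p X,
    (∀ x, x ∈ (Q' : Subgroup X) ↔ e x ∈ (Q : Subgroup G)) ∧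
    ∀ x, x ∈ normalizer ((Q' : Subgroup X) : Set X) ↔ e x ∈ normalizer ((Q : Subgroup G) : Set G) :=
  ⟨Q.comapOfInjective e.toMonoidHom e.injective (by rw [MonoidHom.range_eq_top.2 e.surjective]; exact le_top),
    fun _ => Iff.rfl, fun x =>
      (SetLike.ext_iff.1 (comap_normalizer_eq_of_surjective (Q : Subgroup G) (f := e.toMonoidHom) e.surjective) x).symm⟩

theorem congr_app (e : X ≃* G) (α : MulAut X) (x : X) : MulAut.congr e α (e x) = e (α x) := by simp [MulAut.congr]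

theorem congr_conj (e : X ≃* G) (x : X) : MulAut.congr e (MulAut.conj x) = MulAut.conj (e x) := by
  ext y
  simp only [MulAut.congr, _root_.MulEquiv.coe_mk, _root_.Equiv.coe_fn_mk, _root_.MulEquiv.trans_apply, _root_.MulAut.conj_apply, _root_.map_mul, _root_.MulEquiv.apply_symm_apply, _root_.map_inv]

/-- `Sm` is invariant under isomorphisms. -/
theorem sm_congr [Fact p.Prime] (e : X ≃* G) (h : Sm p G) : Sm p X := by
  obtain ⟨⟨γ, hγ⟩, Q, hQ⟩ := h
  have fix : ∀ α : MulAut X, (∀ z ∈ center X, α z = z) → ∀ z ∈ center G, MulAut.congr e α z = z := by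
    intro α hα z hz
    obtain ⟨y, rfl⟩ := e.surjective z
    rw [congr_app, hα y ((mem_center_congr e y).1 hz)]
  refine ⟨⟨(MulAut.congr e).symm γ, fun α hα => ?_⟩, ?_⟩
  · obtain ⟨k, g, hg⟩ := hγ _ (fix α hα)
    refine ⟨k, e.symm g, (MulAut.congr e).injective ?_⟩
    rw [map_mul, map_pow, MulEquiv.apply_symm_apply, hg, congr_conj, e.apply_symm_apply]
  · obtain ⟨Q', hm, hn⟩ := exists_sylow_congr e Q
    refine ⟨Q', fun l hl α hα hαQ => ?_⟩
    have hl' : ∀ z ∈ center X, l z = (l ∘ e.symm) (e z) := fun z _ => by simp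
    rw [fA_congr e hl' α _ (congr_app e α), fB_congr e _ _ hn hl' α _ (congr_app e α)]
    refine hQ _ (fun z hz h1 => ?_) _ (fix α hα) fun g => ?_
    · obtain ⟨y, rfl⟩ := e.surjective z
      rw [hl y ((mem_center_congr e y).1 hz) (by simpa using h1), map_one]
    · obtain ⟨y, rfl⟩ := e.surjective g
      rw [congr_app, ← hm, ← hm]
      exact hαQ y

theorem _root_.Cfsg.Agent.MO.S.Cv.comp {φ : X →* S} (h : Cv m φ) (e : S ≃* S') : Cv m (e.toMonoidHom.comp φ) :=
  ⟨e.surjective.comp h.surj, by rw [← h.ker]; ext x; simp, h.card, h.cyc, h.perf⟩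

theorem _root_.Cfsg.Agent.MO.S.SmC.congr (e : S ≃* S') (h : SmC p m S') : SmC p m S :=
  fun X _ _ _ c ih => h X _ (c.comp e) (Nat.card_congr e.toEquiv ▸ ih)

theorem _root_.Cfsg.Agent.MO.S.GK.congr {c : ℕ} (e : S ≃* S') (h : GK p m S' c) : GK p m S c :=
  fun X _ _ _ c => h X _ (c.comp e)

theorem _root_.Cfsg.Agent.MO.S.LK.congr {c : ℕ} (e : S ≃* S') (h : LK p m S' c) : LK p m S c :=
  fun X _ _ _ c ih => h X _ (c.comp e) (Nat.card_congr e.toEquiv ▸ ih)

theorem _root_.Cfsg.Agent.MO.S.GF.congr {c : ℕ} (e : S ≃* S') (h : GF p m S' c) : GF p m S c :=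
  fun X _ _ _ c => h X _ (c.comp e)

theorem _root_.Cfsg.Agent.MO.S.LF.congr {c : ℕ} (e : S ≃* S') (h : LF p m S' c) : LF p m S c :=
  fun X _ _ _ c ih => h X _ (c.comp e) (Nat.card_congr e.toEquiv ▸ ih)

theorem _root_.Cfsg.Agent.MO.S.NoOut.congr (e : S ≃* S') (h : NoOut m S') : NoOut m S :=
  fun X _ _ _ c => h X _ (c.comp e)

theorem _root_.Cfsg.Agent.MO.S.OutC.congr (e : S ≃* S') (h : OutC m S') : OutC m S :=
  fun X _ _ _ c => h X _ (c.comp e)

/-! ### the assembly -/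

theorem fB_zero [Finite X] {K : Subgroup X} (hK : center X ≤ K) {l : X → ℂ}
    (h : ¬ ∃ μ : center X →* ℂˣ, ∀ z : center X, l z = μ z) (α : MulAut X) : fB p K l α = 0 := by
  have : IsEmpty {ψ : K → ℂ // PI p K ψ ∧ Ov K (center X) l ψ ∧ ∀ y y' : K, (y' : X) = α y → ψ y' = ψ y} :=
    ⟨fun ψ => h (exists_hom hK (fun z hz x _ => mem_center_iff.1 hz x) ψ.2.1.1 ψ.2.2.1)⟩
  exact Nat.card_of_isEmpty

/-- one may assume that `l` is a faithful linear character -/
theorem fB_eq_of_fl [Finite X] {K K' : Subgroup X} (hK : center X ≤ K) (hK' : center X ≤ K') {l : X → ℂ}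
    (hl : Fa (center X) l) {α β : MulAut X} (h : Fl X l → fB p K l α = fB p K' l β) : fB p K l α = fB p K' l β := by
  by_cases hm : ∃ μ : center X →* ℂˣ, ∀ z : center X, l z = μ z
  · obtain ⟨μ, hμ⟩ := hm
    exact h ⟨μ, (injective_iff_map_eq_one μ).2 fun z hz => Subtype.ext (hl z z.2 (by rw [hμ, hz, Units.val_one])), hμ⟩
  · rw [fB_zero hK hm, fB_zero hK' hm]

theorem kk_sylow [Finite G] [Fact p.Prime] {Z : Subgroup G} (hZ : Z ≤ center G) (P Q : Sylow p G) (l : G → ℂ) :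
    kk p (normalizer ((P : Subgroup G) : Set G)) Z l = kk p (normalizer ((Q : Subgroup G) : Set G)) Z l := by
  obtain ⟨g, rfl⟩ := MulAction.exists_smul_eq G Q P
  rw [← kk_conj hZ (normalizer ((Q : Subgroup G) : Set G)) g,
    map_normalizer_eq_of_bijective _ (f := (MulAut.conj g).toMonoidHom) (MulAut.conj g).bijective]
  rfl

/-- the form for one group -/
theorem sm_of_counts [Finite X] [Fact p.Prime] (γ : MulAut X)
    (hγ : ∀ α : MulAut X, (∀ z ∈ center X, α z = z) → ∃ x, α = MulAut.conj x ∨ α = MulAut.conj x * γ)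
    (h1 : ∃ Q : Sylow p X, ∀ l, Fl X l →
      kk p ⊤ (center X) l = kk p (normalizer ((Q : Subgroup X) : Set X)) (center X) l)
    (h2 : ∀ α : MulAut X, (∀ z ∈ center X, α z = z) → (¬ ∃ x, α = MulAut.conj x) → ∃ (Q : Sylow p X) (x : X),
      (∀ y, (MulAut.conj x * α) y ∈ (Q : Subgroup X) ↔ y ∈ (Q : Subgroup X)) ∧ ∀ l, Fl X l →
        fA p l α = fB p (normalizer ((Q : Subgroup X) : Set X)) l (MulAut.conj x * α)) : Sm p X := by
  obtain ⟨Q₀, h1⟩ := h1
  have h3 : ∀ (Q : Sylow p X) (l), Fa (center X) l →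
      kk p ⊤ (center X) l = kk p (normalizer ((Q : Subgroup X) : Set X)) (center X) l := fun Q l hl => by
    rw [kk_sylow le_rfl Q Q₀, ← fB_one, ← fB_one]
    exact fB_eq_of_fl le_top (center_le_normalizer _) hl fun h => by rw [fB_one, fB_one, h1 l h]
  by_cases h : ∀ α : MulAut X, (∀ z ∈ center X, α z = z) → ∃ x, α = MulAut.conj x
  · exact sm_of_inn h Q₀ (h3 Q₀)
  · obtain ⟨α, h⟩ := not_forall.1 h
    obtain ⟨h4, h5⟩ := Classical.not_imp.1 h
    obtain ⟨Q, x, h6, h7⟩ := h2 α h4 h5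
    obtain ⟨y, h8 | h8⟩ := hγ α h4
    · exact absurd ⟨y, h8⟩ h5
    refine sm_of_pair (MulAut.conj x * α) (fun β hβ => ?_) Q h6 (h3 Q) fun l hl => ?_
    · obtain ⟨z, h9 | h9⟩ := hγ β hβ
      · exact ⟨z, Or.inl h9⟩
      · exact ⟨z * y⁻¹ * x⁻¹, Or.inr (by rw [h9, h8, map_mul, map_mul, map_inv, map_inv]; group)⟩
    · rw [fA_conj_mul, ← fB_top]
      exact fB_eq_of_fl le_top (center_le_normalizer _) hl fun h => by rw [fB_top, h7 l h]

/-- **the assembly from the four numbers** -/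
theorem smC_of_counts [Fact p.Prime] (o : OutC m S) {c c' : ℕ} (gk : GK p m S c) (lk : LK p m S c) (gf : GF p m S c')
    (lf : LF p m S c') : SmC p m S := by
  intro X _ _ φ h ih
  obtain ⟨γ, hγ⟩ := o X φ h
  refine sm_of_counts γ hγ ((lk X φ h ih).imp fun Q hQ l hl => by rw [gk X φ h l hl, hQ l hl]) fun α h1 h2 => ?_
  obtain ⟨Q, x, h3, h4⟩ := lf X φ h ih α h1 h2
  exact ⟨Q, x, h3, fun l hl => by rw [gf X φ h α h1 h2 l hl, h4 l hl]⟩

theorem _root_.Cfsg.Agent.MO.S.NoOut.outC (o : NoOut m S) : OutC m S :=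
  fun X _ _ φ h => ⟨1, fun α hα => (o X φ h α hα).imp fun _ => Or.inl⟩

/-- **the assembly without outer automorphisms** -/
theorem smC_of_kk [Fact p.Prime] (o : NoOut m S) {c : ℕ} (gk : GK p m S c) (lk : LK p m S c) : SmC p m S :=
  smC_of_counts (c' := 0) o.outC gk lk (fun X _ _ φ h α h1 h2 => absurd (o X φ h α h1) h2)
    fun X _ _ φ h _ α h1 h2 => absurd (o X φ h α h1) h2

theorem inn_of_ind {φ : X →* S} (h : Cv m φ) {α : MulAut X} {s : S} (h1 : ∀ x, φ (α x) = MulAut.conj s (φ x)) :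
    ∃ x, α = MulAut.conj x := by
  obtain ⟨x, rfl⟩ := h.surj s
  exact ⟨x, (inv_mul_eq_one.1 (eq_one_of_ind φ h.ker h.perf (α := (MulAut.conj x)⁻¹ * α) fun y => by
    simp only [h1, mul_assoc, _root_.MulAut.mul_apply, _root_.MulAut.inv_apply, _root_.MulAut.conj_symm_apply, _root_.map_mul, _root_.map_inv, _root_.MulAut.conj_apply, _root_.inv_mul_cancel, _root_.mul_one, _root_.inv_mul_cancel_left])).symm⟩

theorem _root_.Cfsg.Agent.MO.S.Out2.outC (o : Out2 S) (m : ℕ) : OutC m S := by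
  intro X _ _ φ h
  obtain ⟨β, hβ⟩ := o
  by_cases h1 : ∃ γ : MulAut X, ∀ x, φ (γ x) = β (φ x)
  · obtain ⟨γ, hγ⟩ := h1
    refine ⟨γ, fun α _ => ?_⟩
    obtain ⟨δ, hδ⟩ := exists_ind φ h.surj h.ker α
    obtain ⟨s, rfl | rfl⟩ := hβ δ
    · exact (inn_of_ind h fun x => (hδ x).symm).imp fun _ => Or.inl
    · obtain ⟨x, hx⟩ := inn_of_ind h (α := α * γ⁻¹) (s := s) fun x => by
        rw [MulAut.mul_apply, ← hδ, MulAut.mul_apply, ← hγ, MulAut.apply_inv_self]
      exact ⟨x, Or.inr (by rw [← hx, inv_mul_cancel_right])⟩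
  · exact ⟨1, fun α hα => (MK.T.inn_of_no φ h.surj h.ker h.perf hβ (fun γ hγ => absurd ⟨γ, hγ⟩ h1) α hα).imp
      fun _ => Or.inl⟩

theorem out2_of_inn (h : ∀ γ : MulAut S, ∃ s, γ = MulAut.conj s) : Out2 S :=
  ⟨1, fun γ => (h γ).imp fun _ => Or.inl⟩

theorem inn_of_index (hi : (MulAut.conj : S →* MulAut S).range.index = 1) (γ : MulAut S) : ∃ s, γ = MulAut.conj s :=
  (index_eq_one.1 hi ▸ mem_top γ : γ ∈ (MulAut.conj : S →* MulAut S).range).imp fun _ => Eq.symm

theorem out2_of_index (hi : (MulAut.conj : S →* MulAut S).range.index = 2) : Out2 S := by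
  obtain ⟨β, hβ⟩ : ∃ β, β ∉ (MulAut.conj : S →* MulAut S).range := by
    by_contra h
    rw [index_eq_one.2 (eq_top_iff.2 fun β _ => by_contra fun e => h ⟨β, e⟩)] at hi
    omega
  exact ⟨β, out_cases hi hβ⟩

theorem noOut_of_inn (h : ∀ γ : MulAut S, ∃ s, γ = MulAut.conj s) (m : ℕ) : NoOut m S := by
  intro X _ _ φ c α _
  obtain ⟨δ, hδ⟩ := exists_ind φ c.surj c.ker α
  obtain ⟨s, rfl⟩ := h δ
  exact inn_of_ind c fun x => (hδ x).symm

/-! ### the simple group -/

section one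

variable {φ : X →* S}

theorem _root_.Cfsg.Agent.MO.S.Cv.center_bot (h : Cv 1 φ) : center X = ⊥ := card_eq_one.1 h.card

/-- the isomorphism of a trivial cover -/
noncomputable def _root_.Cfsg.Agent.MO.S.Cv.eqv (h : Cv 1 φ) : X ≃* S :=
  MulEquiv.ofBijective φ ⟨(MonoidHom.ker_eq_bot_iff φ).1 (h.ker.trans h.center_bot), h.surj⟩

theorem _root_.Cfsg.Agent.MO.S.Fl.one {l : X → ℂ} (h : Fl X l) : l 1 = 1 := by
  obtain ⟨μ, -, hμ⟩ := h
  exact (hμ 1).trans (by rw [map_one, Units.val_one])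

theorem smC_one [Fact p.Prime] (h : SmS p S) : SmC p 1 S := fun _ _ _ _ c ih => sm_congr c.eqv (h ih)

theorem gk_one {c : ℕ} (h : k0 p S = c) : GK p 1 S c := fun X _ _ _ v l hl => by
  rw [v.center_bot, kk_bot _ hl.one, k0_congr topEquiv, k0_congr v.eqv, h]

theorem lk_one [Fact p.Prime] {c : ℕ}
    (h : IH p (Nat.card S) → ∃ Q : Sylow p S, k0 p (normalizer ((Q : Subgroup S) : Set S)) = c) : LK p 1 S c := by
  intro X _ _ _ v ih
  obtain ⟨Q, hQ⟩ := h ih
  obtain ⟨Q', -, h2⟩ := exists_sylow_congr v.eqv Q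
  exact ⟨Q', fun l hl => by rw [v.center_bot, kk_bot _ hl.one, k0_congr (se v.eqv _ _ h2), hQ]⟩

theorem not_inn_congr (e : X ≃* S) {α : MulAut X} (h : ¬ ∃ x, α = MulAut.conj x) :
    ¬ ∃ s, MulAut.congr e α = MulAut.conj s := fun ⟨s, hs⟩ =>
  h ⟨e.symm s, (MulAut.congr e).injective (by rw [hs, congr_conj, e.apply_symm_apply])⟩

theorem gf_one {c : ℕ} (h : ∀ β : MulAut S, (¬ ∃ s, β = MulAut.conj s) → f0 p β = c) : GF p 1 S c :=
  fun X _ _ _ v α _ h2 l hl => by
    rw [fA_eq_f0 v.center_bot α hl.one, f0_congr v.eqv fun x => (congr_app v.eqv α x).symm,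
      h _ (not_inn_congr v.eqv h2)]

theorem lf_one [Fact p.Prime] {c : ℕ} (h : IH p (Nat.card S) → ∀ β : MulAut S, (¬ ∃ s, β = MulAut.conj s) →
    ∃ (Q : Sylow p S) (s : S), (∀ y, (MulAut.conj s * β) y ∈ (Q : Subgroup S) ↔ y ∈ (Q : Subgroup S)) ∧
      fN p (normalizer ((Q : Subgroup S) : Set S)) (MulAut.conj s * β) = c) : LF p 1 S c := by
  intro X _ _ _ v ih α _ h2
  obtain ⟨Q, s, h3, h4⟩ := h ih _ (not_inn_congr v.eqv h2)
  obtain ⟨Q', h5, h6⟩ := exists_sylow_congr v.eqv Q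
  obtain ⟨x, rfl⟩ := v.eqv.surjective s
  have h7 : ∀ y, (MulAut.conj (v.eqv x) * MulAut.congr v.eqv α) (v.eqv y) = v.eqv ((MulAut.conj x * α) y) := fun y => by
    rw [← congr_conj, ← map_mul, congr_app]
  exact ⟨Q', x, fun y => by rw [h5, h5, ← h7, h3], fun l hl => by
    rw [fB_eq_fN v.center_bot _ _ hl.one, fN_congr v.eqv _ _ h6 _ _ h7, h4]⟩

/-- **no outer automorphism** -/
theorem smC_one_inn [Fact p.Prime] (o : ∀ γ : MulAut S, ∃ s, γ = MulAut.conj s)
    (h : IH p (Nat.card S) → ∃ Q : Sylow p S, k0 p (normalizer ((Q : Subgroup S) : Set S)) = k0 p S) : SmC p 1 S :=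
  smC_of_kk (noOut_of_inn o 1) (gk_one rfl) (lk_one h)

/-- **one outer automorphism** `β`, which normalises `Q` -/
theorem smC_one_two [Fact p.Prime] {β : MulAut S} (o : ∀ γ : MulAut S, ∃ s, γ = MulAut.conj s ∨ γ = MulAut.conj s * β)
    (h : IH p (Nat.card S) → ∃ Q : Sylow p S, (∀ y, β y ∈ (Q : Subgroup S) ↔ y ∈ (Q : Subgroup S)) ∧
      k0 p (normalizer ((Q : Subgroup S) : Set S)) = k0 p S ∧
      fN p (normalizer ((Q : Subgroup S) : Set S)) β = f0 p β) : SmC p 1 S := by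
  refine smC_of_counts (Out2.outC ⟨β, o⟩ 1) (gk_one rfl) (lk_one fun ih => (h ih).imp fun _ h => h.2.1)
    (gf_one (c := f0 p β) fun γ hγ => ?_) (lf_one fun ih γ hγ => ?_)
  · obtain ⟨s, h1 | rfl⟩ := o γ
    · exact absurd ⟨s, h1⟩ hγ
    · exact f0_conj_mul s β
  · obtain ⟨s, h1 | rfl⟩ := o γ
    · exact absurd ⟨s, h1⟩ hγ
    · obtain ⟨Q, h2, -, h3⟩ := h ih
      refine ⟨Q, s⁻¹, ?_⟩
      rw [map_inv, inv_mul_cancel_left]
      exact ⟨h2, h3⟩

end one

/-! ### Galois conjugation -/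

section gal

variable [Finite X]

theorem pi_gal (σ : ℂ ≃+* ℂ) {χ : X → ℂ} (h : PI p X χ) : PI p X fun x => σ (χ x) :=
  ⟨GaloisIrr.isIrr_map σ h.1, by
    rw [charDegree_congr (ψ := χ) (by rw [apply_one (isIrr_isCharacter h.1), map_natCast])]
    exact h.2⟩

theorem card_gal (σ : ℂ ≃+* ℂ) {r q : (X → ℂ) → Prop} (h : ∀ χ, PI p X χ → (r (fun x => σ (χ x)) ↔ q χ)) :
    Nat.card {χ : X → ℂ // PI p X χ ∧ r χ} = Nat.card {χ : X → ℂ // PI p X χ ∧ q χ} :=
  Nat.card_congr
    { toFun := fun ψ => ⟨fun x => σ.symm (ψ.1 x), pi_gal _ ψ.2.1, (h _ (pi_gal _ ψ.2.1)).1 (by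
        simpa only [RingEquiv.apply_symm_apply] using ψ.2.2)⟩
      invFun := fun ψ => ⟨fun x => σ (ψ.1 x), pi_gal _ ψ.2.1, (h _ ψ.2.1).2 ψ.2.2⟩
      left_inv := fun ψ => Subtype.ext (funext fun x => σ.apply_symm_apply _)
      right_inv := fun ψ => Subtype.ext (funext fun x => σ.symm_apply_apply _) }

theorem fB_gal (σ : ℂ ≃+* ℂ) (K : Subgroup X) {l l' : X → ℂ} (h : ∀ z ∈ center X, l' z = σ (l z)) (α : MulAut X) :
    fB p K l' α = fB p K l α :=
  card_gal σ fun ψ _ => and_congr (forall₂_congr fun z hz => by rw [h z hz, ← map_mul, σ.injective.eq_iff])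
    (forall₃_congr fun _ _ _ => σ.injective.eq_iff)

/-- the faithful characters of a cyclic centre are Galois conjugate -/
theorem _root_.Cfsg.Agent.MO.S.Fl.gal (hc : IsCyclic (center X)) {l l' : X → ℂ} (h : Fl X l) (h' : Fl X l') :
    ∃ σ : ℂ ≃+* ℂ, ∀ z ∈ center X, l' z = σ (l z) := by
  obtain ⟨μ, h1, h2⟩ := h
  obtain ⟨μ', h1', h2'⟩ := h'
  obtain ⟨g, hg⟩ := hc.exists_monoid_generator
  have pr : ∀ ν : center X →* ℂˣ, Function.Injective ν → IsPrimitiveRoot (ν g : ℂ) (orderOf g) := fun ν hν => by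
    rw [IsPrimitiveRoot.coe_units_iff, ← orderOf_injective ν hν]
    exact IsPrimitiveRoot.orderOf _
  have : NeZero (orderOf g) := ⟨(orderOf_pos g).ne'⟩
  obtain ⟨i, -, hi, h3⟩ := ((pr μ h1).isPrimitiveRoot_iff).1 (pr μ' h1')
  obtain ⟨σ, hσ⟩ := GaloisBasic.exists_ringEquiv_pow (orderOf_pos g).ne' hi
  refine ⟨σ, fun z hz => ?_⟩
  obtain ⟨k, hk⟩ := hg ⟨z, hz⟩
  rw [h2 ⟨z, hz⟩, h2' ⟨z, hz⟩, ← hk, map_pow, map_pow, Units.val_pow_eq_pow_val, Units.val_pow_eq_pow_val, map_pow,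
    hσ _ (pr μ h1).pow_eq_one, h3]

theorem fB_fl (hc : IsCyclic (center X)) (K : Subgroup X) {l l' : X → ℂ} (h : Fl X l) (h' : Fl X l') (α : MulAut X) :
    fB p K l' α = fB p K l α := (h.gal hc h').elim fun σ hσ => fB_gal σ K hσ α

theorem kk_fl (hc : IsCyclic (center X)) (K : Subgroup X) {l l' : X → ℂ} (h : Fl X l) (h' : Fl X l') :
    kk p K (center X) l' = kk p K (center X) l := by rw [← fB_one, ← fB_one, fB_fl hc K h h']

theorem fA_fl (hc : IsCyclic (center X)) {l l' : X → ℂ} (h : Fl X l) (h' : Fl X l') (α : MulAut X) :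
    fA p l' α = fA p l α := by rw [← fB_top, ← fB_top, fB_fl hc ⊤ h h']

end gal

/-! ### double and triple covers -/

section cov

variable [Finite X] (φ : X →* S) (hk : φ.ker = center X)

include hk

/-- the characters which are trivial on the centre -/
theorem fB_ker (K : Subgroup X) {α : MulAut X} {β : MulAut S} (h : ∀ x, φ (α x) = β (φ x))
    (hα : ∀ x ∈ K, α x ∈ K) : fB p K (fun _ => 1) α = fN p (K.map φ) β := by
  let F : {ψ : K.map φ → ℂ // PI p (K.map φ) ψ ∧ ∀ y y' : K.map φ, (y' : S) = β y → ψ y' = ψ y} →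
      {ψ : K → ℂ // PI p K ψ ∧ Ov K (center X) (fun _ => 1) ψ ∧ ∀ y y' : K, (y' : X) = α y → ψ y' = ψ y} := fun ψ =>
    ⟨fun x => ψ.1 (φ.subgroupMap K x), pi_comp _ (φ.subgroupMap_surjective K) ψ.2.1, fun z hz => by
      beta_reduce
      rw [one_mul, map_one, show φ.subgroupMap K z = 1 from Subtype.ext (hk.ge hz)], fun y y' hy => ψ.2.2 _ _ (by
      change φ y' = β (φ y)
      rw [hy, h])⟩
  refine (Nat.card_eq_of_bijective F ⟨?_, ?_⟩).symm
  · intro ψ ψ' e
    exact Subtype.ext ((φ.subgroupMap_surjective K).injective_comp_right (congrArg Subtype.val e))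
  · rintro ⟨ψ, h1, h2, h3⟩
    obtain ⟨η, hη, he⟩ := exists_quot (φ.subgroupMap K) (φ.subgroupMap_surjective K) h1.1 fun z hz =>
      (h2 z (hk.le (congrArg Subtype.val hz))).trans (one_mul _)
    refine ⟨⟨η, ⟨hη, ?_⟩, fun y y' hy => ?_⟩, Subtype.ext (funext he)⟩
    · rw [charDegree_congr (ψ := ψ) (by rw [← he, map_one])]
      exact h1.2
    · obtain ⟨x, rfl⟩ := φ.subgroupMap_surjective K y
      rw [show y' = φ.subgroupMap K ⟨α x, hα x x.2⟩ from Subtype.ext (hy.trans (h x).symm), he, he]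
      exact h3 _ _ rfl

theorem kk_ker (K : Subgroup X) : kk p K (center X) (fun _ => 1) = k0 p (K.map φ) := by
  rw [← fB_one, fB_ker φ hk K (β := 1) (fun _ => rfl) fun _ h => h, fN_one]

omit hk in
/-- the sum over the central characters -/
theorem fN_eq_sum [Fintype (center X →* ℂˣ)] {K : Subgroup X} (hK : center X ≤ K) (α : MulAut X)
    (L : (center X →* ℂˣ) → X → ℂ) (hL : ∀ μ, ∀ z : center X, L μ z = μ z) :
    fN p K α = ∑ μ, fB p K (L μ) α := by
  choose f hf using fun ψ : {ψ : K → ℂ // PI p K ψ ∧ ∀ y y' : K, (y' : X) = α y → ψ y' = ψ y} =>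
    exists_cc hK le_rfl ψ.2.1.1
  have := finite_pi (p := p) fun ψ : K → ℂ => ∀ y y' : K, (y' : X) = α y → ψ y' = ψ y
  rw [fN, ← Nat.card_congr (Equiv.sigmaFiberEquiv f), Nat.card_sigma]
  refine Finset.sum_congr rfl fun μ _ => Nat.card_congr
    { toFun := fun ψ => ⟨ψ.1.1, ψ.1.2.1, fun z hz => by
        rw [hL μ ⟨z, hz⟩]; exact (hf ψ.1 ⟨z, hz⟩).trans (by rw [ψ.2]), ψ.1.2.2⟩
      invFun := fun ψ => ⟨⟨ψ.1, ψ.2.1, ψ.2.2.2⟩, MonoidHom.ext fun z => Units.ext (mul_right_cancel₀ ψ.2.1.one_ne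
        ((hf ⟨ψ.1, ψ.2.1, ψ.2.2.2⟩ z).symm.trans (by rw [← hL]; exact ψ.2.2.1 ⟨z, hK z.2⟩ z.2)))⟩
      left_inv := fun _ => rfl
      right_inv := fun _ => rfl }

/-- **covers of prime degree** -/
theorem fN_prime (hr : (Nat.card (center X)).Prime) {K : Subgroup X} (hK : center X ≤ K) {l : X → ℂ} (hl : Fl X l)
    {α : MulAut X} {β : MulAut S} (h : ∀ x, φ (α x) = β (φ x)) (hα : ∀ x ∈ K, α x ∈ K) :
    fN p K α = fN p (K.map φ) β + (Nat.card (center X) - 1) * fB p K l α := by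
  classical
  have := Fact.mk hr
  have hc : IsCyclic (center X) := isCyclic_of_prime_card rfl
  have h4 : Nat.card (center X →* ℂˣ) = Nat.card (center X) := by
    rw [← MK.T.ab_eq_card, MK.T.ab_comm mul_comm']
  have : Finite (center X →* ℂˣ) := Nat.finite_of_card_ne_zero (h4 ▸ hr.ne_zero)
  have := Fintype.ofFinite (center X →* ℂˣ)
  let L : (center X →* ℂˣ) → X → ℂ := fun μ x => if h : x ∈ center X then μ ⟨x, h⟩ else 0
  have hL : ∀ μ, ∀ z : center X, L μ z = μ z := fun μ z => dif_pos z.2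
  rw [fN_eq_sum hK α L hL, ← Finset.add_sum_erase _ _ (Finset.mem_univ 1), ← fB_ker φ hk K h hα,
    Finset.sum_const_nat (m := fB p K l α), Finset.card_erase_of_mem (Finset.mem_univ _), Finset.card_univ,
    ← Nat.card_eq_fintype_card, h4]
  · congr 1
    exact fB_gal (RingEquiv.refl ℂ) K (fun z hz => hL 1 ⟨z, hz⟩) α
  · intro μ hμ
    refine fB_fl hc K hl ⟨μ, ?_, hL μ⟩ α
    rw [← MonoidHom.ker_eq_bot_iff]
    exact (μ.ker.eq_bot_or_eq_top_of_prime_card).resolve_right fun e =>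
      Finset.ne_of_mem_erase hμ (MonoidHom.ext fun z => e.ge (mem_top z))

theorem k0_prime (hr : (Nat.card (center X)).Prime) {K : Subgroup X} (hK : center X ≤ K) {l : X → ℂ} (hl : Fl X l) :
    k0 p K = k0 p (K.map φ) + (Nat.card (center X) - 1) * kk p K (center X) l := by
  rw [← fN_one, ← fN_one, ← fB_one, fN_prime φ hk hr hK hl (β := 1) (fun _ => rfl) fun _ h => h]

end cov

/-- the normaliser of a Sylow subgroup -/
theorem map_normalizer [Fact p.Prime] {H : Type} [Group H] [Finite G] (π : G →* H) (hπ : Function.Surjective π)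
    (P : Sylow p G) :
    (normalizer ((P : Subgroup G) : Set G)).map π = normalizer (((P : Subgroup G).map π : Subgroup H) : Set H) := by
  refine le_antisymm (le_normalizer_map π) fun y hy => ?_
  let K := (normalizer (((P : Subgroup G).map π : Subgroup H) : Set H)).comap π
  let L := ((P : Subgroup G).map π).comap π
  have h1 : (P : Subgroup G) ≤ L := le_comap_map _ _
  have h2 : L ≤ K := comap_mono le_normalizer
  have h3 : (L.subgroupOf K).Normal :=
    (normal_subgroupOf_iff_le_normalizer h2).2 (le_normalizer_comap π)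
  have h4 := Sylow.normalizer_sup_eq_top' (N := L.subgroupOf K) (P.subtype (h1.trans h2)) (comap_mono h1)
  obtain ⟨g, rfl⟩ := hπ y
  have h5 : (⟨g, hy⟩ : K) ∈ _ := h4.ge (mem_top _)
  rw [← SetLike.mem_coe, mul_normal] at h5
  obtain ⟨a, ha, b, ⟨c, hc, hb⟩, h6⟩ := h5
  have h7 : (a : G) ∈ normalizer ((P : Subgroup G) : Set G) :=
    (subgroupOf_normalizer_eq (h1.trans h2)).ge ha
  refine ⟨a * c, mul_mem h7 (le_normalizer hc), ?_⟩
  rw [map_mul, hb, ← map_mul]
  exact congrArg π (congrArg Subtype.val h6)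

end Cfsg.Agent.MO.T
end

-- part: MO/A/Defs
section
/-!
# MO, the alternating groups and their double covers: the interface (helper78)

`p` is an odd prime, `n = a * p ^ k + r` with `a < p`, `r < p ^ k`.

* `bb p H Z l s` : the characters of `p'`-degree of `H` over `l` which vanish on the elements of sign `-1`;
* `K p n`, `B p n` : the numbers for `S_n`; `cp f e a` : the coefficient of `t ^ a` in `(∑ f j * t ^ j) ^ e`;
* `Sc P z` : a double cover of a symmetric group; `sp p n`, `sn p n` : the strict partitions of `n` of `p'`-degree and of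
  even, odd sign;
* the boxes `GlobS` (cores and quotients), `SpinT` (the table of the double cover), `GlobT` (bar cores and bar quotients),
  `RowS`, `RowT` (the local side and the small rows).
-/

set_option autoImplicit false

namespace Cfsg.Agent.MO.A

open Cfsg Subgroup Equiv Finset Cfsg.Agent.MO.S Cfsg.Agent.MO.T
open Cfsg.Agent.MK (Ov)

/-- the self-associate characters -/
noncomputable def bb (p : ℕ) {G : Type} [Group G] (H Z : Subgroup G) (l : G → ℂ) (s : G →* ℤˣ) : ℕ :=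
  Nat.card {ψ : H → ℂ // PI p H ψ ∧ Ov H Z l ψ ∧ ∀ h : H, s h = -1 → ψ h = 0}

/-- the number of irreducible characters of `p'`-degree of `S_n` -/
noncomputable def K (p n : ℕ) : ℕ := k0 p (Perm (Fin n))

/-- the number of those which vanish on the odd permutations -/
noncomputable def B (p n : ℕ) : ℕ :=
  Nat.card {χ : Perm (Fin n) → ℂ // PI p (Perm (Fin n)) χ ∧ ∀ g, Perm.sign g = -1 → χ g = 0}

/-- the coefficient of `t ^ a` in `(∑ f j * t ^ j) ^ e` -/
def cp (f : ℕ → ℕ) : ℕ → ℕ → ℕ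
  | 0, a => if a = 0 then 1 else 0
  | e + 1, a => ∑ x ∈ _root_.Finset.HasAntidiagonal.antidiagonal a, f x.1 * cp f e x.2

/-- **box A1, A2** : cores and quotients -/
def GlobS : Prop :=
  ∀ (p k a r : ℕ), p.Prime → p ≠ 2 → a < p → r < p ^ k →
    K p (a * p ^ k + r) = cp (K p) (p ^ k) a * K p r ∧
    B p (a * p ^ k + r) = (∑ j ∈ range (a / 2 + 1), cp (K p) (p ^ k / 2) j * B p (a - 2 * j)) * B p r

/-- a double cover of a symmetric group: lifts of transpositions have order four, lifts of disjoint transpositions do not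
commute -/
structure Sc {α T : Type} [Fintype α] [DecidableEq α] [Group T] (P : T →* Perm α) (z : T) : Prop where
  surj : Function.Surjective P
  z_ne : z ≠ 1
  z_comm : ∀ x, x * z = z * x
  ker : ∀ x, P x = 1 ↔ x = 1 ∨ x = z
  sq : ∀ t, (P t).IsSwap → t * t = z
  anti : ∀ s t, (P s).IsSwap → (P t).IsSwap → (P s).Disjoint (P t) → s * t = z * (t * s)

/-- the strict partitions of `n` of `p'`-degree with the sign `+` -/
noncomputable def sp (p n : ℕ) : ℕ :=
  Nat.card {L : List ℤ // H614.Spin.Strict L ∧ L.sum = n ∧ ¬ (p : ℤ) ∣ H614.Spin.X (Multiset.replicate n 1) L ∧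
    Even (n + L.length)}

/-- the strict partitions of `n` of `p'`-degree with the sign `-` -/
noncomputable def sn (p n : ℕ) : ℕ :=
  Nat.card {L : List ℤ // H614.Spin.Strict L ∧ L.sum = n ∧ ¬ (p : ℤ) ∣ H614.Spin.X (Multiset.replicate n 1) L ∧
    Odd (n + L.length)}

/-- **box A4a** : the faithful characters of a double cover of `S_n` -/
def SpinT : Prop :=
  ∀ (p n : ℕ), p.Prime → p ≠ 2 → ∀ (T : Type) [Group T] [Finite T] (P : T →* Perm (Fin n)) (z : T), Sc P z →
    ∀ l : T → ℂ, l 1 = 1 → l z = -1 → (2 ≤ n → kk p ⊤ P.ker l = sp p n + 2 * sn p n) ∧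
      bb p ⊤ P.ker l (Perm.sign.comp P) = sp p n

/-- the bar quotients of weight `a` with the sign `+` -/
noncomputable def up (p e a : ℕ) : ℕ :=
  ∑ x ∈ _root_.Finset.HasAntidiagonal.antidiagonal a, cp (K p) (e / 2) x.1 * if Even x.1 then sp p x.2 else sn p x.2

/-- the bar quotients of weight `a` with the sign `-` -/
noncomputable def un (p e a : ℕ) : ℕ :=
  ∑ x ∈ _root_.Finset.HasAntidiagonal.antidiagonal a, cp (K p) (e / 2) x.1 * if Even x.1 then sn p x.2 else sp p x.2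

/-- **box A4b** : bar cores and bar quotients -/
def GlobT : Prop :=
  ∀ (p k a r : ℕ), p.Prime → p ≠ 2 → a < p → r < p ^ k →
    sp p (a * p ^ k + r) = up p (p ^ k) a * sp p r + un p (p ^ k) a * sn p r ∧
    sn p (a * p ^ k + r) = up p (p ^ k) a * sn p r + un p (p ^ k) a * sp p r

/-- **box A3** : the small row of `A_n` if the Sylow subgroups are not cyclic -/
def RowS : Prop :=
  ∀ (p n : ℕ), p.Prime → p ≠ 2 → 2 * p ≤ n → n ≠ 6 → SmC p 1 (alternatingGroup (Fin n))

/-- **box A5** : the small row of `2.A_n` if the Sylow subgroups are not cyclic -/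
def RowT : Prop :=
  ∀ (p n : ℕ), p.Prime → p ≠ 2 → 2 * p ≤ n → n ≠ 6 → SmC p 2 (alternatingGroup (Fin n))

end Cfsg.Agent.MO.A

/-- The equation lemmas are written here once, not again in each file that cites them. -/
theorem Cfsg.Agent.MO.A.eqns_here : True := by
  have := @Cfsg.Agent.MO.A.cp.eq_def
  have := @Cfsg.Agent.MO.A.cp.eq_1
  have := @Cfsg.Agent.MO.A.cp.eq_2
  trivial
end

-- part: MO/A/DefsT
section
/-!
# MO, the double covers of the alternating groups: the interface of the local side (helper92)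

* `Yg β γ`, `Wr β γ` : the Young subgroup of `Perm (β ⊕ γ)`, the wreath product in `Perm (β × γ)` (blocks: first coordinate);
* `SylY`, `SylW` : they contain the normaliser of a Sylow subgroup;
* `ExtT` : a double cover of `A_n` is the even part of a double cover of `S_n`;
* `WrT` : the numbers for the preimage of the wreath product.
-/

set_option autoImplicit false

namespace Cfsg.Agent.MO.A

open Cfsg Subgroup Equiv Cfsg.Agent.MO.S

/-- the Young subgroup -/
def Yg (β γ : Type) : Subgroup (Perm (β ⊕ γ)) := (Perm.sumCongrHom β γ).range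

/-- the wreath product `Perm γ ≀ Perm β` -/
def Wr (β γ : Type) : Subgroup (Perm (β × γ)) where
  carrier := {σ | ∀ x y, (σ x).1 = (σ y).1 ↔ x.1 = y.1}
  one_mem' _ _ := Iff.rfl
  mul_mem' ha hb x y := (ha _ _).trans (hb x y)
  inv_mem' := fun {σ} h x y => by rw [← h]; simp

theorem mem_Wr {β γ : Type} {σ : Perm (β × γ)} : σ ∈ Wr β γ ↔ ∀ x y, (σ x).1 = (σ y).1 ↔ x.1 = y.1 := Iff.rfl

/-- the Young subgroup contains the normaliser of a Sylow subgroup -/
def SylY : Prop :=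
  ∀ (p k a r : ℕ) [Fact p.Prime], a < p → r < p ^ k → ∃ Q : Sylow p (Perm (Fin (a * p ^ k) ⊕ Fin r)),
    normalizer ((Q : Subgroup (Perm (Fin (a * p ^ k) ⊕ Fin r))) : Set (Perm (Fin (a * p ^ k) ⊕ Fin r))) ≤
      Yg (Fin (a * p ^ k)) (Fin r)

/-- the wreath product contains the normaliser of a Sylow subgroup -/
def SylW : Prop :=
  ∀ (p k a : ℕ) [Fact p.Prime], 2 ≤ a → a ≤ p → ∃ Q : Sylow p (Perm (Fin a × Fin (p ^ k))),
    normalizer ((Q : Subgroup (Perm (Fin a × Fin (p ^ k)))) : Set (Perm (Fin a × Fin (p ^ k)))) ≤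
      Wr (Fin a) (Fin (p ^ k))

/-- **box A4a, second part** : a double cover of `A_n` is the even part of a double cover of `S_n` -/
def ExtT : Prop :=
  ∀ (n : ℕ), 5 ≤ n → ∀ (X : Type) [Group X] [Finite X] (φ : X →* alternatingGroup (Fin n)), Cv 2 φ →
    ∃ (T : Type) (_ : Group T) (_ : Finite T) (P : T →* Perm (Fin n)) (z : T) (j : X →* T), Sc P z ∧
      Function.Injective j ∧ ∀ x, P (j x) = φ x

/-- **box A5b** : the preimage of the wreath product `S_(p ^ k) ≀ S_a`, `2 ≤ a ≤ p`, has the numbers of the whole group -/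
def WrT : Prop :=
  ∀ (p k a : ℕ), p.Prime → p ≠ 2 → 2 ≤ a → a ≤ p → ∀ (T : Type) [Group T] [Finite T]
    (P : T →* Perm (Fin a × Fin (p ^ k))) (z : T), Sc P z → ∀ l : T → ℂ, l 1 = 1 → l z = -1 →
    kk p ((Wr (Fin a) (Fin (p ^ k))).comap P) P.ker l = sp p (a * p ^ k) + 2 * sn p (a * p ^ k) ∧
      bb p ((Wr (Fin a) (Fin (p ^ k))).comap P) P.ker l (Perm.sign.comp P) = sp p (a * p ^ k)

end Cfsg.Agent.MO.A
end

-- part: MO/A/Tw
section
/-!
# MO, super groups: subgroups of index two, central products, twisted products (helper92)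

* `cn p G r` : the number of irreducible characters of `p'`-degree with the property `r`;
* `two_sub`, `two_le` : subgroups of index two, with side conditions;
* `Flt r N G` : a family of properties of the characters of the groups between `N` and `G` which is compatible with
  lying over; `flt_ov` (central character), `flt_un` (lying over an invariant set of characters of a normal subgroup);
* `Ty p s r K a b` : `K` has `a` self-associate characters and `b` pairs of associate characters with the property `r`;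
* `cn_cp` : central products; `Tw s z A B`, `Tw.ty` : twisted products.
-/

set_option autoImplicit false

namespace Cfsg.Agent.MO.A

open Cfsg Subgroup Cfsg.Agent.Characters.Core Cfsg.Agent.MO.T Cfsg.Agent.H672 Cfsg.Agent.H672.RM Cfsg.Agent.ODD.Red
open Cfsg.Agent.MK (Ov)
open Cfsg.Agent.MK.T (dc con_cases Con)
open Cfsg.Agent.MK.A (deg_prod eq_of_prop)
open scoped ComplexConjugate

/-- the number of irreducible characters of `p'`-degree with the property `r` -/
noncomputable def cn (p : ℕ) (G : Type) [Group G] (r : (G → ℂ) → Prop) : ℕ :=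
  Nat.card {χ : G → ℂ // PI p G χ ∧ r χ}

variable {p : ℕ} {G T : Type} [Group G] [Group T]

theorem cn_iff {r q : (G → ℂ) → Prop} (h : ∀ χ, PI p G χ → (r χ ↔ q χ)) : cn p G r = cn p G q := card_iff h

theorem cn_congr {H : Type} [Group H] (e : G ≃* H) {r : (G → ℂ) → Prop} {q : (H → ℂ) → Prop}
    (h : ∀ χ : H → ℂ, PI p H χ → (r (fun x => χ (e x)) ↔ q χ)) : cn p G r = cn p H q := card_congr e h

theorem cn_split [Finite G] (r q : (G → ℂ) → Prop) :
    cn p G r = cn p G (fun χ => r χ ∧ q χ) + cn p G (fun χ => r χ ∧ ¬ q χ) := by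
  classical
  have := finite_pi (p := p) r
  rw [cn, ← Nat.card_congr (Equiv.sumCompl fun χ : {χ // PI p G χ ∧ r χ} => q χ.1), Nat.card_sum]
  congr 1 <;> exact Nat.card_congr ⟨fun χ => ⟨χ.1.1, χ.1.2.1, χ.1.2.2, χ.2⟩,
    fun χ => ⟨⟨χ.1, χ.2.1, χ.2.2.1⟩, χ.2.2.2⟩, fun _ => rfl, fun _ => rfl⟩

theorem kk_eq_cn (H Z : Subgroup G) (l : G → ℂ) : kk p H Z l = cn p H (Ov H Z l) := rfl

theorem bb_eq_cn (H Z : Subgroup G) (l : G → ℂ) (s : G →* ℤˣ) :
    bb p H Z l s = cn p H fun ψ => Ov H Z l ψ ∧ ∀ h : H, s h = -1 → ψ h = 0 := rfl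

theorem fB_eq_cn (K : Subgroup G) (l : G → ℂ) (α : MulAut G) :
    fB p K l α = cn p K fun ψ => Ov K (center G) l ψ ∧ ∀ y y' : K, (y' : G) = α y → ψ y' = ψ y := rfl

/-! ### index two -/

section two

variable [Finite G] [hp : Fact p.Prime]

theorem nd_two (h2 : p ≠ 2) : ¬ p ∣ 2 := fun h => h2 ((Nat.prime_dvd_prime_iff_eq hp.out Nat.prime_two).1 h)

/-- **index two** -/
theorem two_sub (h2 : p ≠ 2) {L : Subgroup G} [L.Normal] (hi : L.index = 2) {g : G} (hg : g ∉ L)
    {r : (G → ℂ) → Prop} {q : (L → ℂ) → Prop}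
    (h : ∀ χ θ, IsIrrCharacter G χ → IsIrrCharacter L θ → Over L.subtype χ θ → (r χ ↔ q θ)) :
    cn p G (fun χ => r χ ∧ ¬ ∀ x, x ∉ L → χ x = 0) =
        2 * cn p L (fun θ => q θ ∧ ∀ x, θ (MulAut.conjNormal g x) = θ x) ∧
      2 * cn p G (fun χ => r χ ∧ ∀ x, x ∉ L → χ x = 0) =
        cn p L fun θ => q θ ∧ ¬ ∀ x, θ (MulAut.conjNormal g x) = θ x := by
  have := Fintype.ofFinite G
  have := Fintype.ofFinite L
  have key : ∀ χ θ, IsIrrCharacter G χ → IsIrrCharacter L θ → _root_.Cfsg.Agent.MK.T.Con L χ θ → (r χ ↔ q θ) ∧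
      (((∀ x, θ (MulAut.conjNormal g x) = θ x) ∧ χ 1 = θ 1 ∧ ¬ ∀ x, x ∉ L → χ x = 0) ∨
      ((¬ ∀ x, θ (MulAut.conjNormal g x) = θ x) ∧ χ 1 = (2 : ℕ) * θ 1 ∧ ∀ x, x ∉ L → χ x = 0)) := by
    intro χ θ hχ hθ hc
    refine ⟨h χ θ hχ hθ ((over_subtype_iff _ _ _).2 hc), ?_⟩
    have h0 := isIrr_apply_one_ne_zero hθ
    rcases con_cases Nat.prime_two hi hg hχ hθ hc with h3 | h3 <;>
      rcases H614.restrict_two L hi hχ hθ hc with h4 | h4
    · exact Or.inl ⟨h3.1, h3.2, fun hv => H117.O1.false_of_restrict L hi hχ hv hθ h4⟩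
    · exact absurd (by linear_combination h3.2 - h4.1) h0
    · have h5 : χ 1 = θ 1 := h4 1
      have h6 := h3.2
      push_cast at h6
      exact absurd (by linear_combination h5 - h6) h0
    · exact Or.inr ⟨h3.1, h3.2, h4.2⟩
  have h3 := dc (L := L) (c := 1) (A' := fun χ => ¬ p ∣ charDegree χ ∧ r χ ∧ ¬ ∀ x, x ∉ L → χ x = 0)
    (A := fun θ => ¬ p ∣ charDegree θ ∧ q θ ∧ ∀ x, θ (MulAut.conjNormal g x) = θ x) fun χ θ hχ hθ hc => by
      obtain ⟨k1, k2 | k2⟩ := key χ θ hχ hθ hc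
      · refine ⟨?_, fun _ => by rw [k2.2.1, Nat.cast_one, one_mul]⟩
        rw [charDegree_congr k2.2.1, k1, and_iff_left k2.1, and_iff_left k2.2.2]
      · exact ⟨iff_of_false (fun h3 => h3.2.2 k2.2.2) fun h3 => k2.1 h3.2.2, fun h3 => absurd h3.2.2 k2.1⟩
  have h4 := dc (L := L) (c := 2) (A' := fun χ => ¬ p ∣ charDegree χ ∧ r χ ∧ ∀ x, x ∉ L → χ x = 0)
    (A := fun θ => ¬ p ∣ charDegree θ ∧ q θ ∧ ¬ ∀ x, θ (MulAut.conjNormal g x) = θ x) fun χ θ hχ hθ hc => by
      obtain ⟨k1, k2 | k2⟩ := key χ θ hχ hθ hc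
      · exact ⟨iff_of_false (fun h3 => k2.2.2 h3.2.2) fun h3 => h3.2.2 k2.1, fun h3 => absurd k2.1 h3.2.2⟩
      · refine ⟨?_, fun _ => k2.2.1⟩
        have k3 := k2.2.1
        rw [apply_one (isIrr_isCharacter hθ), ← Nat.cast_mul] at k3
        rw [charDegree_of k3, nd_mul, and_iff_right (nd_two h2), k1, and_iff_left k2.1, and_iff_left k2.2.2]
  rw [one_pow, one_mul, hi] at h3
  rw [hi, pow_two, mul_assoc] at h4
  refine ⟨?_, ?_⟩
  · simpa only [cn, PI, and_assoc] using h3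
  · simpa only [cn, PI, and_assoc] using Nat.eq_of_mul_eq_mul_left two_pos h4

end two

/-- `ψ` is fixed by the conjugation with `g` -/
def Fx (K : Subgroup T) (g : T) (ψ : K → ℂ) : Prop := ∀ y y' : K, (y' : T) = g * y * g⁻¹ → ψ y' = ψ y

/-- `ψ` vanishes outside of `L` -/
def Vn (K L : Subgroup T) (ψ : K → ℂ) : Prop := ∀ y : K, (y : T) ∉ L → ψ y = 0

/-- **index two**, for subgroups `L ≤ K` -/
theorem two_le [Finite T] [Fact p.Prime] (h2 : p ≠ 2) {L K : Subgroup T} (hLK : L ≤ K) {g : T} (hgK : g ∈ K)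
    (hg : g ∉ L) (hi : ∀ x ∈ K, x * g ∈ L ∨ x ∈ L) {r : (K → ℂ) → Prop} {q : (L → ℂ) → Prop}
    (h : ∀ χ θ, IsIrrCharacter K χ → IsIrrCharacter L θ → Over (inclusion hLK) χ θ → (r χ ↔ q θ)) :
    ∃ a b, cn p K r = a + 2 * b ∧ cn p K (fun χ => r χ ∧ Vn K L χ) = a ∧ cn p L q = 2 * a + b ∧
      cn p L (fun θ => q θ ∧ Fx L g θ) = b := by
  have hi2 : (L.subgroupOf K).index = 2 :=
    index_eq_two_iff_exists_notMem_and.2 ⟨⟨g, hgK⟩, hg, fun x => hi x x.2⟩
  have := normal_of_index_eq_two hi2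
  let e := subgroupOfEquivOfLe hLK
  obtain ⟨h3, h4⟩ := two_sub (p := p) h2 hi2 (g := ⟨g, hgK⟩) hg (r := r) (q := fun θ => q fun x => θ (e.symm x))
    fun χ θ hχ hθ ho => h χ _ hχ (isIrr_comp e.symm.toMonoidHom e.symm.surjective hθ) (by
      rw [over_iff_sub hLK]
      convert ho using 1
      exact funext fun x => congrArg θ (e.symm_apply_apply x))
  have k1 : ∀ θ : L → ℂ, (∀ x, θ (e (MulAut.conjNormal (⟨g, hgK⟩ : K) x)) = θ (e x)) ↔ Fx L g θ := fun θ =>
    ⟨fun k y y' hy => by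
      have k2 := k (e.symm y)
      rw [e.apply_symm_apply] at k2
      rw [← k2]
      exact congrArg θ (Subtype.ext hy), fun k x => k _ _ rfl⟩
  have k2 : cn p (L.subgroupOf K) (fun θ => q (fun x => θ (e.symm x)) ∧
      ∀ x, θ (MulAut.conjNormal (⟨g, hgK⟩ : K) x) = θ x) = cn p L fun θ => q θ ∧ Fx L g θ :=
    cn_congr e fun θ _ => by simp only [e.apply_symm_apply, k1]
  have k3 : cn p (L.subgroupOf K) (fun θ => q (fun x => θ (e.symm x)) ∧
      ¬ ∀ x, θ (MulAut.conjNormal (⟨g, hgK⟩ : K) x) = θ x) = cn p L fun θ => q θ ∧ ¬ Fx L g θ :=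
    cn_congr e fun θ _ => by simp only [e.apply_symm_apply, k1]
  rw [k2] at h3
  rw [k3] at h4
  refine ⟨_, _, ?_, rfl, ?_, rfl⟩
  · rw [cn_split r (Vn K L), ← h3]
    rfl
  · rw [cn_split q (Fx L g), ← h4, add_comm]
    rfl

/-! ### filters -/

/-- a family of properties of characters which is compatible with lying over, between `N` and `M` -/
def Flt (r : ∀ K : Subgroup T, (K → ℂ) → Prop) (N M : Subgroup T) [Finite T] : Prop :=
  ∀ (K K' : Subgroup T) (h : K ≤ K'), N ≤ K → K' ≤ M → ∀ χ ψ, IsIrrCharacter K' χ → IsIrrCharacter K ψ →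
    Over (inclusion h) χ ψ → (r K' χ ↔ r K ψ)

section flt

variable [Finite T] {r r' : ∀ K : Subgroup T, (K → ℂ) → Prop} {N N' M M' : Subgroup T}

theorem Flt.mono (h : Flt r N M) (h1 : N ≤ N') (h2 : M' ≤ M) : Flt r N' M' :=
  fun K K' k k1 k2 => h K K' k (h1.trans k1) (k2.trans h2)

theorem Flt.and (h : Flt r N M) (h' : Flt r' N M) : Flt (fun K ψ => r K ψ ∧ r' K ψ) N M :=
  fun K K' k k1 k2 χ ψ k3 k4 k5 => and_congr (h K K' k k1 k2 χ ψ k3 k4 k5) (h' K K' k k1 k2 χ ψ k3 k4 k5)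

/-- the central characters agree -/
theorem over_cen {H : Type} [Group H] [Finite H] [Finite G] (f : H →* G) {χ : G → ℂ} {ψ : H → ℂ}
    (hχ : IsIrrCharacter G χ) (hψ : IsIrrCharacter H ψ) (ho : Over f χ ψ) {z : H} (hz : z ∈ center H)
    (hz' : f z ∈ center G) {c : ℂ} : χ (f z) = c * χ 1 ↔ ψ z = c * ψ 1 := by
  have := Fintype.ofFinite H
  obtain ⟨a, ha, -⟩ := exists_central hχ hz'
  obtain ⟨b, hb, -⟩ := exists_central hψ hz
  have k : ∀ (φ : H → ℂ) (d : ℂ), (∀ x, φ (z * x) = d * φ x) → classInner φ ψ ≠ 0 → d * conj b = 1 := by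
    intro φ d h1 h2
    rw [classInner_def] at h2
    have h3 : ∑ x, φ x * conj (ψ x) = d * conj b * ∑ x, φ x * conj (ψ x) := by
      rw [Finset.mul_sum]
      refine (Equiv.sum_comp (Equiv.mulLeft z) fun x => φ x * conj (ψ x)).symm.trans
        (Finset.sum_congr rfl fun x _ => ?_)
      rw [Equiv.coe_mulLeft, h1, hb, map_mul]
      ring
    exact (mul_right_cancel₀ (right_ne_zero_of_mul h2) ((one_mul _).trans h3)).symm
  have k1 := k (χ ∘ f) a (fun x => by simp only [Function.comp, map_mul, ha]) ((over_iff _ _ _).1 ho)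
  have k2 := k ψ b hb (by rw [classInner_irr_self hψ]; exact one_ne_zero)
  have k3 : a = b := mul_right_cancel₀ (right_ne_zero_of_mul_eq_one k2) (k1.trans k2.symm)
  have k4 := ha 1
  have k5 := hb 1
  rw [mul_one] at k4 k5
  rw [k4, k5, k3, mul_left_inj' (isIrr_apply_one_ne_zero hχ), mul_left_inj' (isIrr_apply_one_ne_zero hψ)]

/-- the central character is a filter -/
theorem flt_ov {Z : Subgroup T} (hZ : ∀ z ∈ Z, ∀ x ∈ M, x * z = z * x) (l : T → ℂ) :
    Flt (fun K => Ov K Z l) Z M := by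
  intro K K' h k1 k2 χ ψ hχ hψ ho
  have k : ∀ z : K, (z : T) ∈ Z → (χ (inclusion h z) = l z * χ 1 ↔ ψ z = l z * ψ 1) := fun z hz =>
    over_cen (inclusion h) hχ hψ ho (mem_center_iff.2 fun x => Subtype.ext (hZ z hz x (k2 (h x.2))))
      (mem_center_iff.2 fun x => Subtype.ext (hZ z hz x (k2 x.2)))
  exact ⟨fun h1 z hz => (k z hz).1 (h1 _ hz), fun h1 z hz => (k ⟨z, k1 hz⟩ hz).2 (h1 _ hz)⟩

/-- `ψ` lies over an irreducible character of `N` with the property `q` -/
def Un (N : Subgroup T) (q : (N → ℂ) → Prop) (K : Subgroup T) (ψ : K → ℂ) : Prop :=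
  ∃ (h : N ≤ K) (θ : N → ℂ), IsIrrCharacter N θ ∧ q θ ∧ Over (inclusion h) ψ θ

/-- lying over an invariant set of characters of a normal subgroup is a filter -/
theorem flt_un {q : (N → ℂ) → Prop} (hM : M ≤ normalizer (N : Set T))
    (hq : ∀ g ∈ M, ∀ θ, IsIrrCharacter N θ → q θ → q (tw N g θ)) : Flt (Un N q) N M := by
  intro K K' h k1 k2 χ ψ hχ hψ ho
  have k : ∀ θ, IsIrrCharacter N θ → Over (inclusion k1) ψ θ → Over (inclusion (k1.trans h)) χ θ := fun θ h1 h2 =>
    (over_comp_iff (inclusion h) (inclusion k1) (isIrr_isCharacter hχ) h1).2 ⟨ψ, hψ, ho, h2⟩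
  refine ⟨fun ⟨_, θ, h1, h2, h3⟩ => ?_, fun ⟨_, θ, h1, h2, h3⟩ => ⟨k1.trans h, θ, h1, h2, k θ h1 h3⟩⟩
  obtain ⟨θ', h4, h5⟩ := exists_under (f := inclusion k1) hψ
  obtain ⟨g, hg, rfl⟩ := exists_tw_of_over (k1.trans h) (k2.trans hM) hχ h1 h4 h3 (k θ' h4 h5)
  exact ⟨k1, _, h4, hq g (k2 hg) θ h1 h2, h5⟩

end flt

/-! ### the types -/

/-- `K` has `a` self-associate characters and `b` pairs of associate characters with the property `r` -/
structure Ty (p : ℕ) (s : T →* ℤˣ) (r : ∀ K : Subgroup T, (K → ℂ) → Prop) (K : Subgroup T) (a b : ℕ) : Prop where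
  all : cn p K (r K) = a + 2 * b
  van : cn p K (fun ψ => r K ψ ∧ ∀ h : K, s h = -1 → ψ h = 0) = a

section ty

variable {s : T →* ℤˣ} {r : ∀ K : Subgroup T, (K → ℂ) → Prop} {K N M : Subgroup T} {a b : ℕ}

theorem sg_or (s : T →* ℤˣ) (x : T) : s x = 1 ∨ s x = -1 := Int.units_eq_one_or _

theorem sg_ne {x : T} (h : s x = -1) : s x ≠ 1 := by rw [h]; decide

theorem notMem_ker_iff {x : T} : x ∉ s.ker ↔ s x = -1 := by
  rw [MonoidHom.mem_ker]
  exact ⟨(sg_or s x).resolve_left, sg_ne⟩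

theorem vn_iff (ψ : K → ℂ) : Vn K (K ⊓ s.ker) ψ ↔ ∀ h : K, s h = -1 → ψ h = 0 :=
  forall_congr' fun h => by rw [mem_inf, and_iff_right h.2, notMem_ker_iff]

/-- the numbers of the even part -/
theorem exists_ty [Finite T] [Fact p.Prime] (h2 : p ≠ 2) (F : Flt r (K ⊓ s.ker) K) {g : T} (hgK : g ∈ K)
    (hg : s g = -1) : ∃ a b, Ty p s r K a b ∧ cn p (K ⊓ s.ker : Subgroup T) (r _) = 2 * a + b ∧
      cn p (K ⊓ s.ker : Subgroup T) (fun θ => r _ θ ∧ Fx _ g θ) = b := by
  obtain ⟨a, b, h3, h4, h5, h6⟩ := two_le (p := p) h2 (inf_le_left : K ⊓ s.ker ≤ K) hgK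
    (fun h => notMem_ker_iff.2 hg h.2) (fun x hx => by
      rcases sg_or s x with h | h
      · exact Or.inr ⟨hx, h⟩
      · exact Or.inl ⟨mul_mem hx hgK, MonoidHom.mem_ker.2 (by rw [map_mul, h, hg]; decide)⟩)
    (F _ _ inf_le_left le_rfl le_rfl)
  exact ⟨a, b, ⟨h3, (cn_iff fun ψ _ => by rw [vn_iff]).trans h4⟩, h5, h6⟩

theorem Ty.even [Finite T] [Fact p.Prime] (h : Ty p s r K a b) (h2 : p ≠ 2) (F : Flt r (K ⊓ s.ker) K) {g : T}
    (hgK : g ∈ K) (hg : s g = -1) : cn p (K ⊓ s.ker : Subgroup T) (r _) = 2 * a + b ∧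
      cn p (K ⊓ s.ker : Subgroup T) (fun θ => r _ θ ∧ Fx _ g θ) = b := by
  obtain ⟨a', b', h3, h4, h5⟩ := exists_ty (p := p) h2 F hgK hg
  have k1 := h.all.symm.trans h3.all
  have k2 := h.van.symm.trans h3.van
  exact ⟨by omega, by omega⟩

/-- the type from the numbers of the group and of its even part -/
theorem ty_of_even [Finite T] [Fact p.Prime] (h2 : p ≠ 2) (F : Flt r (K ⊓ s.ker) K) {g : T}
    (hgK : g ∈ K) (hg : s g = -1) (h3 : cn p K (r K) = a + 2 * b)
    (h4 : cn p (K ⊓ s.ker : Subgroup T) (r _) = 2 * a + b) : Ty p s r K a b := by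
  obtain ⟨a', b', h5, h6, -⟩ := exists_ty (p := p) h2 F hgK hg
  have k1 := h5.all
  obtain rfl : a = a' := by omega
  obtain rfl : b = b' := by omega
  exact h5

theorem Ty.zero (h : Ty p s r K a b) (hK : ∀ x ∈ K, s x = 1) : b = 0 := by
  have k1 := h.all
  have k2 := h.van
  rw [cn_iff (q := r K) fun ψ _ => and_iff_left fun (x : K) hx => absurd (hK x x.2) (sg_ne hx)] at k2
  omega

end ty

/-! ### central products -/

section cp

variable {A B : Subgroup T} {z : T}

/-- `ψ` is the product of `φ` and `η` -/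
def Pr (A B K : Subgroup T) (ψ : K → ℂ) (φ : A → ℂ) (η : B → ℂ) : Prop :=
  ∀ (x : A) (y : B) (k : K), (k : T) = x * y → ψ k = φ x * η y

/-- spin characters -/
def Sp (z : T) (K : Subgroup T) (ψ : K → ℂ) : Prop := ∀ k : K, (k : T) = z → ψ k = -ψ 1

theorem Pr.left {K : Subgroup T} {ψ : K → ℂ} {φ : A → ℂ} {η : B → ℂ} (h : Pr A B K ψ φ η) (hA : A ≤ K) (x : A) :
    ψ (inclusion hA x) = φ x * η 1 := h x 1 _ (mul_one _).symm

theorem Pr.right {K : Subgroup T} {ψ : K → ℂ} {φ : A → ℂ} {η : B → ℂ} (h : Pr A B K ψ φ η) (hB : B ≤ K) (y : B) :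
    ψ (inclusion hB y) = φ 1 * η y := h 1 y _ (one_mul _).symm

theorem Pr.over_left [Finite T] {K : Subgroup T} {ψ : K → ℂ} {φ : A → ℂ} {η : B → ℂ} (h : Pr A B K ψ φ η)
    (hA : A ≤ K) (hφ : IsIrrCharacter A φ) (hη : η 1 ≠ 0) : Over (inclusion hA) ψ φ := by
  have := Fintype.ofFinite A
  rw [over_iff, show ψ ∘ inclusion hA = η 1 • φ from funext fun x => (h.left hA x).trans (mul_comm _ _),
    classInner_smul_left, classInner_irr_self hφ, mul_one]
  exact hη

theorem Pr.over_right [Finite T] {K : Subgroup T} {ψ : K → ℂ} {φ : A → ℂ} {η : B → ℂ} (h : Pr A B K ψ φ η)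
    (hB : B ≤ K) (hη : IsIrrCharacter B η) (hφ : φ 1 ≠ 0) : Over (inclusion hB) ψ η := by
  have := Fintype.ofFinite B
  rw [over_iff, show ψ ∘ inclusion hB = φ 1 • η from funext fun x => h.right hB x,
    classInner_smul_left, classInner_irr_self hη, mul_one]
  exact hφ

/-- **central products** -/
theorem cn_cp [Finite T] [Fact p.Prime] {K : Subgroup T} (hA : A ≤ K) (hB : B ≤ K)
    (hK : ∀ k ∈ K, ∃ x ∈ A, ∃ y ∈ B, k = x * y) (hc : ∀ x ∈ A, ∀ y ∈ B, x * y = y * x)
    (hzz : z * z = 1) (hi : ∀ x ∈ A, x ∈ B → x = 1 ∨ x = z)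
    {r : (K → ℂ) → Prop} {r1 : (A → ℂ) → Prop} {r2 : (B → ℂ) → Prop}
    (s1 : ∀ φ, IsIrrCharacter A φ → r1 φ → Sp z A φ) (s2 : ∀ η, IsIrrCharacter B η → r2 η → Sp z B η)
    (h : ∀ ψ φ η, IsIrrCharacter K ψ → IsIrrCharacter A φ → IsIrrCharacter B η → Pr A B K ψ φ η →
      (r ψ ↔ r1 φ ∧ r2 η)) : cn p K r = cn p A r1 * cn p B r2 := by
  let m : A × B →* K := MonoidHom.noncommCoprod (inclusion hA) (inclusion hB) fun x y =>
    Subtype.ext (hc x x.2 y y.2)
  have hm : ∀ x y, ((m (x, y) : K) : T) = x * y := fun _ _ => rfl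
  have hs : Function.Surjective m := fun k => by
    obtain ⟨x, hx, y, hy, e⟩ := hK k k.2
    exact ⟨(⟨x, hx⟩, ⟨y, hy⟩), Subtype.ext e.symm⟩
  have ex : ∀ φ η, PI p A φ ∧ r1 φ → PI p B η ∧ r2 η → ∃ ψ, (PI p K ψ ∧ r ψ) ∧ Pr A B K ψ φ η := by
    intro φ η h1 h2
    obtain ⟨ψ, h3, h4⟩ := exists_quot m hs (S0188.isIrr_outer h1.1.1 h2.1.1) fun w hw => by
      have h5 : (w.1 : T) * w.2 = 1 := congrArg Subtype.val hw
      have h6 : (w.1 : T) = (w.2 : T)⁻¹ := eq_inv_of_mul_eq_one_left h5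
      show φ w.1 * η w.2 = φ 1 * η 1
      rcases hi w.1 w.1.2 (h6 ▸ inv_mem w.2.2) with h7 | h7
      · rw [h7, one_mul] at h5
        rw [show w.1 = 1 from Subtype.ext h7, show w.2 = 1 from Subtype.ext h5]
      · rw [h7] at h5
        rw [s1 φ h1.1.1 h1.2 _ h7, s2 η h2.1.1 h2.2 _ (mul_left_cancel (h5.trans hzz.symm)), neg_mul_neg]
    have h5 : Pr A B K ψ φ η := fun x y k hk => by
      rw [show k = m (x, y) from Subtype.ext hk]
      exact h4 (x, y)
    refine ⟨ψ, ⟨⟨h3, ?_⟩, (h ψ φ η h3 h1.1.1 h2.1.1 h5).2 ⟨h1.2, h2.2⟩⟩, h5⟩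
    rw [charDegree_congr (ψ := fun x : A × B => φ x.1 * η x.2) (h5 1 1 1 (mul_one _).symm), deg_prod h1.1.1 h2.1.1]
    exact nd_mul' h1.1.2 h2.1.2
  choose f f1 f2 using ex
  rw [cn, cn, cn, ← Nat.card_prod]
  refine (Nat.card_eq_of_bijective (fun x => ⟨f x.1.1 x.2.1 x.1.2 x.2.2, f1 _ _ _ _⟩) ⟨fun x y e => ?_, fun ψ => ?_⟩).symm
  · have e1 : f x.1.1 x.2.1 x.1.2 x.2.2 = f y.1.1 y.2.1 y.1.2 y.2.2 := congrArg Subtype.val e
    have k : ∀ u v, x.1.1 u * x.2.1 v = y.1.1 u * y.2.1 v := fun u v => by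
      rw [← f2 _ _ x.1.2 x.2.2 u v (m (u, v)) rfl, e1, f2 _ _ y.1.2 y.2.2 u v (m (u, v)) rfl]
    exact Prod.ext (Subtype.ext (eq_of_prop x.1.2.1.1 y.1.2.1.1 x.2.2.1.one_ne fun g => k g 1))
      (Subtype.ext (eq_of_prop x.2.2.1.1 y.2.2.1.1 x.1.2.1.one_ne fun g => by
        rw [mul_comm, mul_comm (y.2.1 g)]; exact k 1 g))
  · obtain ⟨φ, η, hφ, hη, e⟩ := (S0188.result _).1 (isIrr_comp m hs ψ.2.1.1)
    have h5 : Pr A B K ψ.1 φ η := fun x y k hk => by
      rw [show k = m (x, y) from Subtype.ext hk]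
      exact congrFun e (x, y)
    have h6 := ψ.2.1.2
    rw [charDegree_congr (ψ := fun x : A × B => φ x.1 * η x.2) (h5 1 1 1 (mul_one _).symm), deg_prod hφ hη,
      nd_mul] at h6
    have h7 := (h _ φ η ψ.2.1.1 hφ hη h5).1 ψ.2.2
    refine ⟨(⟨φ, ⟨hφ, h6.1⟩, h7.1⟩, ⟨η, ⟨hη, h6.2⟩, h7.2⟩), Subtype.ext (funext fun k => ?_)⟩
    obtain ⟨⟨x, y⟩, rfl⟩ := hs k
    exact (f2 _ _ _ _ x y _ rfl).trans (h5 x y _ rfl).symm

end cp

/-! ### twisted products -/

/-- the product of two commuting subgroups -/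
def mulS (A B : Subgroup T) (hc : ∀ x ∈ A, ∀ y ∈ B, x * y = y * x) : Subgroup T where
  carrier := {k | ∃ x ∈ A, ∃ y ∈ B, k = x * y}
  one_mem' := ⟨1, one_mem _, 1, one_mem _, (mul_one _).symm⟩
  mul_mem' := by
    rintro _ _ ⟨x, hx, y, hy, rfl⟩ ⟨u, hu, v, hv, rfl⟩
    exact ⟨x * u, mul_mem hx hu, y * v, mul_mem hy hv, by
      rw [mul_assoc, ← mul_assoc y, ← hc u hu y hy, mul_assoc, mul_assoc]⟩
  inv_mem' := by
    rintro _ ⟨x, hx, y, hy, rfl⟩
    exact ⟨x⁻¹, inv_mem hx, y⁻¹, inv_mem hy, by rw [hc x hx y hy, mul_inv_rev]⟩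

theorem le_mulS_left {A B : Subgroup T} (hc : ∀ x ∈ A, ∀ y ∈ B, x * y = y * x) : A ≤ mulS A B hc :=
  fun x hx => ⟨x, hx, 1, one_mem _, (mul_one _).symm⟩

theorem le_mulS_right {A B : Subgroup T} (hc : ∀ x ∈ A, ∀ y ∈ B, x * y = y * x) : B ≤ mulS A B hc :=
  fun y hy => ⟨1, one_mem _, y, hy, (one_mul _).symm⟩

theorem mulS_le {A B K : Subgroup T} (hc : ∀ x ∈ A, ∀ y ∈ B, x * y = y * x) (hA : A ≤ K) (hB : B ≤ K) :
    mulS A B hc ≤ K := by
  rintro _ ⟨x, hx, y, hy, rfl⟩
  exact mul_mem (hA hx) (hB hy)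

/-- `K` is the twisted product of `A` and `B` -/
structure Tw (s : T →* ℤˣ) (z : T) (A B K : Subgroup T) : Prop where
  zc : ∀ x ∈ K, x * z = z * x
  zz : z * z = 1
  sz : s z = 1
  zA : z ∈ A
  zB : z ∈ B
  lA : A ≤ K
  lB : B ≤ K
  dec : ∀ k ∈ K, ∃ x ∈ A, ∃ y ∈ B, k = x * y
  inf : ∀ x ∈ A, x ∈ B → x = 1 ∨ x = z
  even : ∀ x ∈ A, ∀ y ∈ B, s x = 1 ∨ s y = 1 → x * y = y * x
  odd : ∀ x ∈ A, ∀ y ∈ B, s x = -1 → s y = -1 → x * y = z * (y * x)

namespace Tw

variable {s : T →* ℤˣ} {z : T} {A B K : Subgroup T} (h : Tw s z A B K)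
include h

theorem odd' {x y : T} (hx : x ∈ A) (hy : y ∈ B) (h1 : s x = -1) (h2 : s y = -1) : y * x = z * (x * y) := by
  rw [h.odd x hx y hy h1 h2, ← mul_assoc, h.zz, one_mul]

theorem symm : Tw s z B A K where
  zc := h.zc
  zz := h.zz
  sz := h.sz
  zA := h.zB
  zB := h.zA
  lA := h.lB
  lB := h.lA
  dec k hk := by
    obtain ⟨x, hx, y, hy, rfl⟩ := h.dec k hk
    rcases sg_or s x with h1 | h1
    · exact ⟨y, hy, x, hx, h.even x hx y hy (Or.inl h1)⟩
    rcases sg_or s y with h2 | h2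
    · exact ⟨y, hy, x, hx, h.even x hx y hy (Or.inr h2)⟩
    · exact ⟨z * y, mul_mem h.zB hy, x, hx, by rw [h.odd x hx y hy h1 h2, mul_assoc]⟩
  inf x hx hy := h.inf x hy hx
  even x hx y hy e := (h.even y hy x hx e.symm).symm
  odd x hx y hy h1 h2 := h.odd' hy hx h2 h1

theorem sg_inf {x : T} (hx : x ∈ A) (hy : x ∈ B) : s x = 1 := by
  rcases h.inf x hx hy with rfl | rfl
  · exact map_one s
  · exact h.sz

variable [Finite T] [Fact p.Prime] {r1 r2 : ∀ K : Subgroup T, (K → ℂ) → Prop} {a1 b1 a2 b2 : ℕ}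
  (F1 : Flt r1 (A ⊓ s.ker) K) (F2 : Flt r2 (B ⊓ s.ker) K)
  (s1 : ∀ (L : Subgroup T) (ψ : L → ℂ), IsIrrCharacter L ψ → r1 L ψ → Sp z L ψ)
  (s2 : ∀ (L : Subgroup T) (ψ : L → ℂ), IsIrrCharacter L ψ → r2 L ψ → Sp z L ψ)
include F1 F2 s1 s2

/-- the count for a central product inside of `K`, with side conditions -/
theorem cn_mul {A' B' L : Subgroup T} (h1 : A ⊓ s.ker ≤ A') (h2 : A' ≤ A) (h3 : B ⊓ s.ker ≤ B') (h4 : B' ≤ B)
    (h5 : A' ≤ L) (h6 : B' ≤ L) (h7 : ∀ k ∈ L, ∃ x ∈ A', ∃ y ∈ B', k = x * y)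
    (hc : ∀ x ∈ A', ∀ y ∈ B', x * y = y * x) {q : (L → ℂ) → Prop} {q1 : (A' → ℂ) → Prop} {q2 : (B' → ℂ) → Prop}
    (hq : ∀ ψ φ η, IsIrrCharacter L ψ → IsIrrCharacter A' φ → IsIrrCharacter B' η → Pr A' B' L ψ φ η → Sp z A' φ →
      (q ψ ↔ q1 φ ∧ q2 η)) :
    cn p L (fun ψ => (r1 L ψ ∧ r2 L ψ) ∧ q ψ) =
      cn p A' (fun φ => r1 A' φ ∧ q1 φ) * cn p B' fun η => r2 B' η ∧ q2 η := by
  have hL : L ≤ K := fun k hk => by
    obtain ⟨x, hx, y, hy, rfl⟩ := h7 k hk
    exact mul_mem (h.lA (h2 hx)) (h.lB (h4 hy))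
  refine cn_cp h5 h6 h7 hc h.zz (fun x hx hy => h.inf x (h2 hx) (h4 hy)) (fun φ k1 k2 => s1 _ φ k1 k2.1)
    (fun η k1 k2 => s2 _ η k1 k2.1) fun ψ φ η k1 k2 k3 k4 => ?_
  rw [F1 A' L h5 h1 hL ψ φ k1 k2 (k4.over_left h5 k2 (isIrr_apply_one_ne_zero k3)),
    F2 B' L h6 h3 hL ψ η k1 k3 (k4.over_right h6 k3 (isIrr_apply_one_ne_zero k2))]
  exact ⟨fun k => ⟨⟨k.1.1, ((hq ψ φ η k1 k2 k3 k4 (s1 _ φ k2 k.1.1)).1 k.2).1⟩, k.1.2,
      ((hq ψ φ η k1 k2 k3 k4 (s1 _ φ k2 k.1.1)).1 k.2).2⟩,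
    fun k => ⟨⟨k.1.1, k.2.1⟩, (hq ψ φ η k1 k2 k3 k4 (s1 _ φ k2 k.1.1)).2 ⟨k.1.2, k.2.2⟩⟩⟩

theorem cn_mul' {A' B' L : Subgroup T} (h1 : A ⊓ s.ker ≤ A') (h2 : A' ≤ A) (h3 : B ⊓ s.ker ≤ B') (h4 : B' ≤ B)
    (h5 : A' ≤ L) (h6 : B' ≤ L) (h7 : ∀ k ∈ L, ∃ x ∈ A', ∃ y ∈ B', k = x * y)
    (hc : ∀ x ∈ A', ∀ y ∈ B', x * y = y * x) :
    cn p L (fun ψ => r1 L ψ ∧ r2 L ψ) = cn p A' (r1 A') * cn p B' (r2 B') := by
  have k := h.cn_mul (p := p) F1 F2 s1 s2 h1 h2 h3 h4 h5 h6 h7 hc (q := fun _ => True) (q1 := fun _ => True)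
    (q2 := fun _ => True) fun _ _ _ _ _ _ _ _ => by simp only [and_self]
  simpa only [and_true] using k

theorem ty_even (hB : ∀ y ∈ B, s y = 1) (t1 : Ty p s r1 A a1 b1) (t2 : Ty p s r2 B a2 b2) :
    Ty p s (fun L ψ => r1 L ψ ∧ r2 L ψ) K (a1 * a2 + b1 * b2) (a1 * b2 + b1 * a2) := by
  obtain rfl := t2.zero hB
  have hc : ∀ x ∈ A, ∀ y ∈ B, x * y = y * x := fun x hx y hy => h.even x hx y hy (Or.inr (hB y hy))
  refine ⟨?_, ?_⟩
  · rw [h.cn_mul' F1 F2 s1 s2 inf_le_left le_rfl inf_le_left le_rfl h.lA h.lB h.dec hc, t1.all, t2.all]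
    ring
  · rw [h.cn_mul F1 F2 s1 s2 inf_le_left le_rfl inf_le_left le_rfl h.lA h.lB h.dec hc
      (q1 := fun φ => ∀ x : A, s x = -1 → φ x = 0) (q2 := fun _ => True) fun ψ φ η _ _ k3 k4 _ => ?_, t1.van]
    · simp only [and_true]
      rw [t2.all]
      ring
    · rw [and_true]
      refine ⟨fun k x hx => ?_, fun k x hx => ?_⟩
      · exact (mul_eq_zero.1 ((k4.left h.lA x).symm.trans (k _ hx))).resolve_right (isIrr_apply_one_ne_zero k3)
      · obtain ⟨u, hu, v, hv, e⟩ := h.dec x x.2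
        rw [e, map_mul, hB v hv, mul_one] at hx
        rw [k4 ⟨u, hu⟩ ⟨v, hv⟩ x e, k ⟨u, hu⟩ hx, zero_mul]

theorem ty_odd (h2 : p ≠ 2) {g1 g2 : T} (m1 : g1 ∈ A) (m2 : g2 ∈ B) (o1 : s g1 = -1) (o2 : s g2 = -1)
    (t1 : Ty p s r1 A a1 b1) (t2 : Ty p s r2 B a2 b2) :
    Ty p s (fun L ψ => r1 L ψ ∧ r2 L ψ) K (a1 * a2 + b1 * b2) (a1 * b2 + b1 * a2) := by
  obtain ⟨e1, f1⟩ := t1.even h2 (F1.mono le_rfl h.lA) m1 o1
  obtain ⟨e2, f2⟩ := t2.even h2 (F2.mono le_rfl h.lB) m2 o2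
  have c1 : ∀ x ∈ A, ∀ y ∈ B ⊓ s.ker, x * y = y * x := fun x hx y hy => h.even x hx y hy.1 (Or.inr hy.2)
  have c0 : ∀ x ∈ A ⊓ s.ker, ∀ y ∈ B ⊓ s.ker, x * y = y * x := fun x hx => c1 x hx.1
  have F : Flt (fun L ψ => r1 L ψ ∧ r2 L ψ) (mulS _ _ c0) K :=
    (F1.mono (le_mulS_left c0) le_rfl).and (F2.mono (le_mulS_right c0) le_rfl)
  have l1 : mulS _ _ c1 ≤ K := mulS_le c1 h.lA (inf_le_left.trans h.lB)
  have l0 : mulS _ _ c0 ≤ K ⊓ s.ker := mulS_le c0 (inf_le_inf_right _ h.lA) (inf_le_inf_right _ h.lB)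
  have l01 : mulS _ _ c0 ≤ mulS _ _ c1 := mulS_le c0 (inf_le_left.trans (le_mulS_left c1)) (le_mulS_right c1)
  have j2 : ∀ y : (B ⊓ s.ker : Subgroup T), g2 * y * g2⁻¹ ∈ B ⊓ s.ker := fun y =>
    ⟨B.mul_mem (B.mul_mem m2 y.2.1) (B.inv_mem m2), (inferInstance : s.ker.Normal).conj_mem _ y.2.2 _⟩
  have j1 : ∀ y : (A ⊓ s.ker : Subgroup T), g1 * y * g1⁻¹ ∈ A ⊓ s.ker := fun y =>
    ⟨A.mul_mem (A.mul_mem m1 y.2.1) (A.inv_mem m1), (inferInstance : s.ker.Normal).conj_mem _ y.2.2 _⟩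
  obtain ⟨a, b, k1, -, k2, k3⟩ := two_le (p := p) h2 l1 (h.lB m2) (by
      rintro ⟨x, hx, y, hy, e⟩
      have k := h.sg_inf hx (by rw [← mul_inv_eq_iff_eq_mul.2 e]; exact mul_mem m2 (inv_mem hy.1))
      rw [e, map_mul, k, show s y = 1 from hy.2] at o2
      exact absurd o2 (by decide)) (fun k hk => by
      obtain ⟨x, hx, y, hy, rfl⟩ := h.dec k hk
      rcases sg_or s y with e | e
      · exact Or.inr ⟨x, hx, y, ⟨hy, e⟩, rfl⟩
      · exact Or.inl ⟨x, hx, y * g2, ⟨mul_mem hy m2, MonoidHom.mem_ker.2 (by rw [map_mul, e, o2]; decide)⟩,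
          mul_assoc _ _ _⟩) (F _ _ l1 l01 le_rfl)
  obtain ⟨a', b', k4, -, k5, k6⟩ := two_le (p := p) h2 l0 (g := g1 * g2)
    ⟨mul_mem (h.lA m1) (h.lB m2), MonoidHom.mem_ker.2 (by rw [map_mul, o1, o2]; decide)⟩ (by
      rintro ⟨x, hx, y, hy, e⟩
      have k := h.sg_inf (mul_mem (inv_mem hx.1) m1) (by
        rw [show x⁻¹ * g1 = y * g2⁻¹ by rw [inv_mul_eq_iff_eq_mul, ← mul_assoc, ← e, mul_inv_cancel_right]]
        exact mul_mem hy.1 (inv_mem m2))
      rw [map_mul, map_inv, show s x = 1 from hx.2, o1] at k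
      exact absurd k (by decide)) (fun k hk => by
      obtain ⟨x, hx, y, hy, rfl⟩ := h.dec k hk.1
      have k : s x * s y = 1 := (map_mul s x y).symm.trans hk.2
      rcases sg_or s y with e | e
      · exact Or.inr ⟨x, ⟨hx, by rwa [e, mul_one] at k⟩, y, ⟨hy, e⟩, rfl⟩
      · have e' : s x = -1 := (sg_or s x).resolve_left fun e' => by
          rw [e, e'] at k
          exact absurd k (by decide)
        refine Or.inl ⟨x * z * g1, ⟨mul_mem (mul_mem hx h.zA) m1, MonoidHom.mem_ker.2 ?_⟩, y * g2,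
          ⟨mul_mem hy m2, MonoidHom.mem_ker.2 (by rw [map_mul, e, o2]; decide)⟩, ?_⟩
        · rw [map_mul, map_mul, e', h.sz, o1]
          decide
        · rw [mul_assoc, ← mul_assoc y, h.odd' m1 hy o1 e]
          simp only [mul_assoc]) (F _ _ l0 le_rfl inf_le_left)
  rw [h.cn_mul' F1 F2 s1 s2 inf_le_left le_rfl le_rfl inf_le_left (le_mulS_left c1) (le_mulS_right c1)
    (fun _ k => k) c1, t1.all, e2] at k2
  rw [h.cn_mul' F1 F2 s1 s2 le_rfl inf_le_left le_rfl inf_le_left (le_mulS_left c0) (le_mulS_right c0)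
    (fun _ k => k) c0, e1, e2] at k5
  rw [h.cn_mul F1 F2 s1 s2 inf_le_left le_rfl le_rfl inf_le_left (le_mulS_left c1) (le_mulS_right c1)
    (fun _ k => k) c1 (q1 := fun φ => ∀ x : A, s x = -1 → φ x = 0) (q2 := Fx _ g2) ?_, t1.van, f2] at k3
  rw [h.cn_mul F1 F2 s1 s2 le_rfl inf_le_left le_rfl inf_le_left (le_mulS_left c0) (le_mulS_right c0)
    (fun _ k => k) c0 (q1 := Fx _ g1) (q2 := Fx _ g2) ?_, f1, f2] at k6
  · refine ty_of_even h2 (F.mono l0 le_rfl) (h.lA m1) o1 ?_ ?_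
    · rw [k1]
      linarith only [k2, k3]
    · rw [k4]
      linarith only [k5, k6]
  · intro ψ φ η _ n2 n3 n4 _
    have key : ∀ (x : (A ⊓ s.ker : Subgroup T)) (y : (B ⊓ s.ker : Subgroup T)),
        g1 * g2 * (x * y) * (g1 * g2)⁻¹ = g1 * x * g1⁻¹ * (g2 * y * g2⁻¹) := fun x y => by
      have n5 := h.even _ x.2.1 _ m2 (Or.inl x.2.2)
      have n6 := c1 _ (inv_mem m1) _ (j2 y)
      calc g1 * g2 * (x * y) * (g1 * g2)⁻¹ = g1 * (g2 * x) * g2⁻¹ * (g2 * y * g2⁻¹ * g1⁻¹) := by group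
        _ = g1 * x * g1⁻¹ * (g2 * y * g2⁻¹) := by rw [← n5, ← n6]; group
    refine ⟨fun k => ⟨fun x x' e => ?_, fun y y' e => ?_⟩, fun k u u' e => ?_⟩
    · refine mul_right_cancel₀ (isIrr_apply_one_ne_zero n3) ?_
      rw [← n4.left (le_mulS_left c0), ← n4.left (le_mulS_left c0)]
      refine k _ _ ?_
      have n5 := key x 1
      rw [OneMemClass.coe_one, mul_one, mul_one, mul_inv_cancel, mul_one] at n5
      exact e.trans n5.symm
    · refine mul_left_cancel₀ (isIrr_apply_one_ne_zero n2) ?_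
      rw [← n4.right (le_mulS_right c0), ← n4.right (le_mulS_right c0)]
      refine k _ _ ?_
      have n5 := key 1 y
      rw [OneMemClass.coe_one, one_mul, mul_one, mul_inv_cancel, one_mul] at n5
      exact e.trans n5.symm
    · obtain ⟨x, hx, y, hy, e'⟩ := u.2
      rw [n4 ⟨x, hx⟩ ⟨y, hy⟩ u e', n4 ⟨_, j1 ⟨x, hx⟩⟩ ⟨_, j2 ⟨y, hy⟩⟩ u' (by rw [e, e']; exact key ⟨x, hx⟩ ⟨y, hy⟩),
        k.1 ⟨x, hx⟩ _ rfl, k.2 ⟨y, hy⟩ _ rfl]
  · intro ψ φ η _ n2 n3 n4 n5
    have hz : ∀ x : A, φ (⟨z, h.zA⟩ * x) = -φ x := fun x => by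
      obtain ⟨c, hc, -⟩ := exists_central n2 (z := ⟨z, h.zA⟩)
        (mem_center_iff.2 fun u => Subtype.ext (h.zc _ (h.lA u.2)))
      have n6 := hc 1
      rw [mul_one, n5 _ rfl, ← neg_one_mul] at n6
      rw [hc, ← mul_right_cancel₀ (isIrr_apply_one_ne_zero n2) n6, neg_one_mul]
    have ko : ∀ x ∈ A, s x = -1 → g2 * x * g2⁻¹ = z * x := fun x hx e => by
      rw [h.odd' hx m2 e o2]
      group
    have ke : ∀ x ∈ A, s x = 1 → g2 * x * g2⁻¹ = x := fun x hx e => by
      rw [← h.even x hx g2 m2 (Or.inl e), mul_inv_cancel_right]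
    refine ⟨fun k => ⟨fun x e => ?_, fun y y' e => ?_⟩, fun k u u' e => ?_⟩
    · have n6 := k (inclusion (le_mulS_left c1) x) (inclusion (le_mulS_left c1) ((⟨z, h.zA⟩ : A) * x))
        (ko x x.2 e).symm
      rw [n4.left, n4.left, hz, mul_left_inj' (isIrr_apply_one_ne_zero n3)] at n6
      linear_combination -n6 / 2
    · refine mul_left_cancel₀ (isIrr_apply_one_ne_zero n2) ?_
      rw [← n4.right (le_mulS_right c1), ← n4.right (le_mulS_right c1)]
      exact k _ _ e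
    · obtain ⟨x, hx, y, hy, e'⟩ := u.2
      have n6 : (u' : T) = g2 * x * g2⁻¹ * (g2 * y * g2⁻¹) := by
        rw [e, e']
        group
      rw [n4 ⟨x, hx⟩ ⟨y, hy⟩ u e']
      rcases sg_or s x with n7 | n7
      · rw [ke x hx n7] at n6
        rw [n4 ⟨x, hx⟩ ⟨_, j2 ⟨y, hy⟩⟩ u' n6, k.2 ⟨y, hy⟩ _ rfl]
      · rw [ko x hx n7] at n6
        rw [n4 (⟨z, h.zA⟩ * ⟨x, hx⟩) ⟨_, j2 ⟨y, hy⟩⟩ u' n6, hz, k.1 ⟨x, hx⟩ n7, neg_zero, zero_mul, zero_mul]

/-- **twisted products** -/
theorem ty (h2 : p ≠ 2) (t1 : Ty p s r1 A a1 b1) (t2 : Ty p s r2 B a2 b2) :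
    Ty p s (fun L ψ => r1 L ψ ∧ r2 L ψ) K (a1 * a2 + b1 * b2) (a1 * b2 + b1 * a2) := by
  by_cases hB : ∀ y ∈ B, s y = 1
  · exact h.ty_even F1 F2 s1 s2 hB t1 t2
  by_cases hA : ∀ y ∈ A, s y = 1
  · have k := h.symm.ty_even F2 F1 s2 s1 hA t2 t1
    rw [mul_comm a2, mul_comm b2, add_comm (a2 * b1), mul_comm a2, mul_comm b2] at k
    exact ⟨(cn_iff fun _ _ => and_comm).trans k.all, (cn_iff fun _ _ => and_congr_left' and_comm).trans k.van⟩
  push Not at hA hB
  obtain ⟨g1, m1, o1⟩ := hA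
  obtain ⟨g2, m2, o2⟩ := hB
  exact h.ty_odd F1 F2 s1 s2 h2 m1 m2 ((sg_or s g1).resolve_left o1) ((sg_or s g2).resolve_left o2) t1 t2

end Tw

theorem Un.sp [Finite T] {N : Subgroup T} {q : (N → ℂ) → Prop} {z : T} (hz : z ∈ N) (hc : ∀ x, x * z = z * x)
    (hq : ∀ θ, IsIrrCharacter N θ → q θ → θ ⟨z, hz⟩ = -θ 1) (L : Subgroup T) (ψ : L → ℂ) (hψ : IsIrrCharacter L ψ)
    (h : Un N q L ψ) : Sp z L ψ := by
  obtain ⟨h1, θ, h2, h3, h4⟩ := h
  intro k hk
  have k1 := (over_cen (inclusion h1) hψ h2 h4 (z := ⟨z, hz⟩) (c := -1)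
    (mem_center_iff.2 fun x => Subtype.ext (hc _)) (mem_center_iff.2 fun x => Subtype.ext (hc _))).2
    (by rw [hq θ h2 h3, neg_one_mul])
  rw [neg_one_mul] at k1
  rw [show k = inclusion h1 ⟨z, hz⟩ from Subtype.ext hk, k1]

end Cfsg.Agent.MO.A
end

-- part: MO/A/SpinU
section
/-!
# MO, the double covers `Sc` of the symmetric groups: uniqueness and existence (helper42)

* `Sc.map_z`, `Sc.z_mul`, `Sc.eq_or`, `Sc.finite`, `Sc.card` : the basic facts;
* `Sc.of_inj`, `Sc.congr`, `Sc.equiv`, `Sc.pull`, `Sc.sub` : transport, and the preimage of a smaller symmetric group;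
* `Sc.exists_gen`, `Sc.exists_hom` : the presentation;
* `Sc.unique` : two covers of the same symmetric group are isomorphic over it; `exists_sc` : there is one;
* `Sc.isCover`, `Sc.cv`, `Sc.exists_equiv_cv`, `exists_sc_of_cv` : the even part is the cover `2.A_n`.
-/

set_option autoImplicit false

namespace Cfsg.Agent.MO.A

open Cfsg Subgroup Equiv Cfsg.Agent.MO.S
open Cfsg.Agent.SporadicRecognition.AltCover (IsCover)
open scoped commutatorElement

section central

variable {T : Type*} [Group T] {z : T}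

theorem sq_of_or (hc : ∀ x, x * z = z * x) (hz : z * z = 1) {s s' : T} (h : s' = s ∨ s' = z * s) : s' * s' = s * s := by
  rcases h with rfl | rfl
  · rfl
  · rw [mul_assoc, ← mul_assoc s, hc s, ← mul_assoc, ← mul_assoc, hz, one_mul]

theorem anti_left (hc : ∀ x, x * z = z * x) {s s' t : T} (h : s' = s ∨ s' = z * s) (h1 : s * t = z * (t * s)) :
    s' * t = z * (t * s') := by
  rcases h with rfl | rfl
  · exact h1
  · rw [mul_assoc, h1, ← mul_assoc t, hc t, mul_assoc]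

theorem anti_right (hc : ∀ x, x * z = z * x) {s t t' : T} (h : t' = t ∨ t' = z * t) (h1 : s * t = z * (t * s)) :
    s * t' = z * (t' * s) := by
  rcases h with rfl | rfl
  · exact h1
  · rw [← mul_assoc, hc s, mul_assoc, h1, mul_assoc]

end central

theorem ne_of_disjoint_swap {α : Type*} [DecidableEq α] {i j k l : α} (hij : i ≠ j) (hkl : k ≠ l)
    (h : (swap i j).Disjoint (swap k l)) : i ≠ k ∧ i ≠ l ∧ j ≠ k ∧ j ≠ l := by
  have h1 := (h i).resolve_left (by rw [swap_apply_left]; exact hij.symm)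
  have h2 := (h j).resolve_left (by rw [swap_apply_right]; exact hij)
  refine ⟨?_, ?_, ?_, ?_⟩
  · rintro rfl
    rw [swap_apply_left] at h1
    exact hkl h1.symm
  · rintro rfl
    rw [swap_apply_right] at h1
    exact hkl h1
  · rintro rfl
    rw [swap_apply_left] at h2
    exact hkl h2.symm
  · rintro rfl
    rw [swap_apply_right] at h2
    exact hkl h2

theorem disjoint_swap {α : Type*} [DecidableEq α] {i j k l : α} (h1 : i ≠ k) (h2 : i ≠ l) (h3 : j ≠ k) (h4 : j ≠ l) :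
    (swap i j).Disjoint (swap k l) := by
  intro x
  by_cases hi : x = i
  · exact Or.inr (by rw [hi]; exact swap_apply_of_ne_of_ne h1 h2)
  · by_cases hj : x = j
    · exact Or.inr (by rw [hj]; exact swap_apply_of_ne_of_ne h3 h4)
    · exact Or.inl (swap_apply_of_ne_of_ne hi hj)

/-- the preimage of the image of `f` -/
def pull {T A B : Type} [Group T] [Group A] [Group B] (P : T →* A) (f : B →* A) : Subgroup T := f.range.comap P

theorem mem_pull {T A B : Type} [Group T] [Group A] [Group B] {P : T →* A} {f : B →* A} {x : T} :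
    x ∈ pull P f ↔ ∃ b, f b = P x := Iff.rfl

/-- the projection of `pull P f` -/
noncomputable def pullP {T A B : Type} [Group T] [Group A] [Group B] (P : T →* A) {f : B →* A}
    (hf : Function.Injective f) : pull P f →* B :=
  (MonoidHom.ofInjective hf).symm.toMonoidHom.comp (P.subgroupComap f.range)

theorem pullP_spec {T A B : Type} [Group T] [Group A] [Group B] (P : T →* A) {f : B →* A}
    (hf : Function.Injective f) (x : pull P f) : f (pullP P hf x) = P x :=
  congrArg Subtype.val ((MonoidHom.ofInjective hf).apply_symm_apply (P.subgroupComap f.range x))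

/-- the relations of the lifts of the adjacent transpositions -/
structure SRel {H : Type*} [Group H] (n : ℕ) (t : ℕ → H) (ζ : H) : Prop where
  sq : ∀ i, i < n → t i * t i = ζ
  braid : ∀ i, i + 1 < n → t i * t (i + 1) * t i = t (i + 1) * t i * t (i + 1)
  anti : ∀ i j, i + 1 < j → j < n → t i * t j = ζ * (t j * t i)

theorem perm_hom_ext {n : ℕ} {H : Type*} [Group H] {f g : Perm (Fin (n + 1)) →* H}
    (h : ∀ i : Fin n, f (swap i.castSucc i.succ) = g (swap i.castSucc i.succ)) : f = g :=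
  MonoidHom.eq_of_eqOn_denseM (Perm.mclosure_swap_castSucc_succ n) (by rintro _ ⟨i, rfl⟩; exact h i)

namespace Sc

section basic

variable {α β T T' : Type} [Fintype α] [DecidableEq α] [Fintype β] [DecidableEq β] [Group T] [Group T']
  {P : T →* Perm α} {z : T}

theorem map_z (h : Sc P z) : P z = 1 := (h.ker z).2 (Or.inr rfl)

theorem z_mul (h : Sc P z) : z * z = 1 :=
  ((h.ker _).1 (by rw [map_mul, h.map_z, mul_one])).resolve_right fun e => h.z_ne (mul_eq_left.1 e)

theorem z_inv (h : Sc P z) : z⁻¹ = z := inv_eq_of_mul_eq_one_right h.z_mul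

theorem z_mem_center (h : Sc P z) : z ∈ center T := mem_center_iff.2 h.z_comm

theorem mem_ker (h : Sc P z) {x : T} : x ∈ P.ker ↔ x = 1 ∨ x = z := h.ker x

theorem ker_le_center (h : Sc P z) : P.ker ≤ center T := fun _ hx =>
  (h.mem_ker.1 hx).elim (fun e => e ▸ one_mem _) fun e => e ▸ h.z_mem_center

theorem eq_or (h : Sc P z) {x y : T} (hxy : P x = P y) : x = y ∨ x = z * y := by
  rcases (h.ker (x * y⁻¹)).1 (by rw [map_mul, map_inv, hxy, mul_inv_cancel]) with e | e
  · exact Or.inl (mul_inv_eq_one.1 e)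
  · exact Or.inr (mul_inv_eq_iff_eq_mul.1 e)

theorem card_ker (h : Sc P z) : Nat.card P.ker = 2 := by
  rw [Nat.card_eq_two_iff]
  refine ⟨1, ⟨z, h.map_z⟩, fun e => h.z_ne (congrArg Subtype.val e).symm, ?_⟩
  rw [Set.eq_univ_iff_forall]
  rintro ⟨x, hx⟩
  rcases h.mem_ker.1 hx with rfl | rfl
  · exact Or.inl rfl
  · exact Or.inr rfl

theorem card (h : Sc P z) : Nat.card T = 2 * (Fintype.card α).factorial := by
  rw [← P.ker.card_mul_index, index_ker, MonoidHom.range_eq_top.2 h.surj, card_top, h.card_ker, Nat.card_eq_fintype_card,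
    Fintype.card_perm]

theorem finite (h : Sc P z) : Finite T :=
  Nat.finite_of_card_ne_zero (by rw [h.card]; exact mul_ne_zero two_ne_zero (Nat.factorial_ne_zero _))

/-- the lifts of a product of two disjoint transpositions have order four -/
theorem sq_double (h : Sc P z) {i j k l : α} (hij : i ≠ j) (hkl : k ≠ l) (hd : (swap i j).Disjoint (swap k l)) {x : T}
    (hx : P x = swap i j * swap k l) : x * x = z := by
  obtain ⟨s, hs⟩ := h.surj (swap i j)
  obtain ⟨t, ht⟩ := h.surj (swap k l)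
  have hs' : (P s).IsSwap := ⟨i, j, hij, hs⟩
  have ht' : (P t).IsSwap := ⟨k, l, hkl, ht⟩
  rw [sq_of_or h.z_comm h.z_mul (h.eq_or (y := s * t) (by rw [map_mul, hs, ht, hx]))]
  have h1 := h.anti t s ht' hs' (by rw [hs, ht]; exact hd.symm)
  calc s * t * (s * t) = s * (t * s) * t := by group
    _ = (s * z) * s * (t * t) := by rw [h1]; group
    _ = z * (s * s) * (t * t) := by rw [h.z_comm s]; group
    _ = z := by rw [h.sq s hs', h.sq t ht', h.z_mul, one_mul]

/-- a subgroup over a smaller symmetric group -/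
theorem of_inj (h : Sc P z) {P' : T' →* Perm β} {z' : T'} (f : Perm β →* Perm α) (hf : Function.Injective f)
    (hs : ∀ i j, i ≠ j → (f (swap i j)).IsSwap)
    (hd : ∀ i j k l, i ≠ j → k ≠ l → (swap i j).Disjoint (swap k l) → (f (swap i j)).Disjoint (f (swap k l)))
    (φ : T' →* T) (hφ : Function.Injective φ) (hP : ∀ x, f (P' x) = P (φ x)) (hP' : Function.Surjective P')
    (hz : φ z' = z) : Sc P' z' where
  surj := hP'
  z_ne := fun e => h.z_ne (by rw [← hz, e, map_one])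
  z_comm := fun x => hφ (by rw [map_mul, map_mul, hz, h.z_comm])
  ker := fun x => by
    rw [← map_eq_one_iff f hf, hP, h.ker, map_eq_one_iff φ hφ, ← hz, hφ.eq_iff]
  sq := by
    rintro t ⟨i, j, hij, ht⟩
    exact hφ (by rw [map_mul, hz, h.sq _ (by rw [← hP, ht]; exact hs i j hij)])
  anti := by
    rintro s t ⟨i, j, hij, hs'⟩ ⟨k, l, hkl, ht'⟩ h1
    rw [hs', ht'] at h1
    refine hφ ?_
    rw [map_mul, map_mul, map_mul, hz]
    refine h.anti _ _ ?_ ?_ ?_
    · rw [← hP, hs']; exact hs i j hij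
    · rw [← hP, ht']; exact hs k l hkl
    · rw [← hP, ← hP, hs', ht']; exact hd i j k l hij hkl h1

/-- transport along an isomorphism of the covers -/
theorem equiv (h : Sc P z) (e : T' ≃* T) : Sc (P.comp e.toMonoidHom) (e.symm z) :=
  h.of_inj (MonoidHom.id _) Function.injective_id (fun i j hij => ⟨i, j, hij, rfl⟩) (fun _ _ _ _ _ _ h1 => h1)
    e.toMonoidHom e.injective (fun _ => rfl) (h.surj.comp e.surjective) (e.apply_symm_apply z)

/-- a homomorphism which is induced by an injective map on the transpositions -/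
theorem of_map (h : Sc P z) {P' : T' →* Perm β} {z' : T'} (f : Perm β →* Perm α) (hf : Function.Injective f)
    (u : β → α) (hu : Function.Injective u) (hfu : ∀ i j, f (swap i j) = swap (u i) (u j))
    (φ : T' →* T) (hφ : Function.Injective φ) (hP : ∀ x, f (P' x) = P (φ x)) (hP' : Function.Surjective P')
    (hz : φ z' = z) : Sc P' z' :=
  h.of_inj f hf (fun i j hij => ⟨u i, u j, hu.ne hij, hfu i j⟩) (fun i j k l hij hkl h1 => by
    obtain ⟨a, b, c, d⟩ := ne_of_disjoint_swap hij hkl h1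
    rw [hfu, hfu]
    exact disjoint_swap (hu.ne a) (hu.ne b) (hu.ne c) (hu.ne d)) φ hφ hP hP' hz

/-- transport along a bijection of the points -/
theorem congr (h : Sc P z) (e : α ≃ β) : Sc ((permCongrHom e).toMonoidHom.comp P) z :=
  h.of_map (permCongrHom e).symm.toMonoidHom (permCongrHom e).symm.injective e.symm e.symm.injective
    (fun i j => (permCongrHom e).symm_apply_eq.2 (by
      change _ = e.permCongr _
      rw [permCongr_def, symm_trans_swap_trans, e.apply_symm_apply, e.apply_symm_apply]))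
    (MonoidHom.id T) Function.injective_id (fun x => (permCongrHom e).symm_apply_apply _)
    ((permCongrHom e).surjective.comp h.surj) rfl

theorem z_mem_pull (h : Sc P z) {B : Type} [Group B] (f : B →* Perm α) : z ∈ pull P f :=
  ⟨1, by rw [map_one, h.map_z]⟩

theorem pullP_surj (h : Sc P z) {B : Type} [Group B] {f : B →* Perm α} (hf : Function.Injective f) :
    Function.Surjective (pullP P hf) := fun b => by
  obtain ⟨x, hx⟩ := h.surj (f b)
  exact ⟨⟨x, b, hx.symm⟩, hf (by rw [pullP_spec]; exact hx)⟩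

/-- **the preimage of a smaller symmetric group** -/
theorem pull (h : Sc P z) {f : Perm β →* Perm α} (hf : Function.Injective f) (u : β → α) (hu : Function.Injective u)
    (hfu : ∀ i j, f (swap i j) = swap (u i) (u j)) : Sc (pullP P hf) ⟨z, h.z_mem_pull f⟩ :=
  h.of_map f hf u hu hfu (A.pull P f).subtype Subtype.val_injective (pullP_spec P hf) (h.pullP_surj hf) rfl

/-- the preimage of the symmetric group of a subset -/
theorem sub (h : Sc P z) {q : α → Prop} [DecidablePred q] (e : β ≃ Subtype q) :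
    Sc (pullP P (Perm.extendDomainHom_injective e)) ⟨z, h.z_mem_pull _⟩ :=
  h.pull _ (fun i => (e i : α)) (Subtype.val_injective.comp e.injective)
    fun i j => H686.Spin.extendDomain_swap' e i j

theorem bijective (h : Sc P z) {P' : T' →* Perm α} {z' : T'} (h' : Sc P' z') (Φ : T →* T')
    (hP : ∀ x, P' (Φ x) = P x) (hz : Φ z = z') : Function.Bijective Φ := by
  refine ⟨(injective_iff_map_eq_one Φ).2 fun x hx => ?_, fun y => ?_⟩
  · refine ((h.ker x).1 (by rw [← hP, hx, map_one])).resolve_right fun e => h'.z_ne ?_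
    rw [← hz, ← e, hx]
  · obtain ⟨x, hx⟩ := h.surj (P' y)
    rcases h'.eq_or (x := y) (y := Φ x) (by rw [hP, hx]) with e | e
    · exact ⟨x, e.symm⟩
    · exact ⟨z * x, by rw [map_mul, hz, e]⟩

end basic

section pres

variable {n : ℕ} {T : Type} [Group T] {P : T →* Perm (Fin (n + 1))} {z : T}

/-- lifts of the adjacent transpositions which satisfy the braid relations -/
theorem exists_gen (h : Sc P z) : ∃ t : ℕ → T, (∀ i : Fin n, P (t i) = swap i.castSucc i.succ) ∧ SRel n t z := by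
  classical
  let σ : ℕ → Perm (Fin (n + 1)) := fun i => if hi : i < n then swap (Fin.castSucc ⟨i, hi⟩) (Fin.succ ⟨i, hi⟩) else 1
  have σ_eq : ∀ (i : ℕ) (hi : i < n), σ i = swap ⟨i, by omega⟩ ⟨i + 1, by omega⟩ := fun i hi => dif_pos hi
  choose u hu using fun i => h.surj (σ i)
  let t : ℕ → T := fun i => Nat.rec (u 0)
    (fun i a => if a * u (i + 1) * a = u (i + 1) * a * u (i + 1) then u (i + 1) else z * u (i + 1)) i
  have t_succ : ∀ i, t (i + 1) =
      if t i * u (i + 1) * t i = u (i + 1) * t i * u (i + 1) then u (i + 1) else z * u (i + 1) := fun _ => rfl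
  have ht : ∀ i, P (t i) = σ i := by
    intro i
    cases i with
    | zero => exact hu 0
    | succ i =>
      rw [t_succ]
      split_ifs
      · exact hu _
      · rw [map_mul, h.map_z, one_mul, hu]
  have hsw : ∀ i, i < n → (P (t i)).IsSwap := fun i hi =>
    ⟨_, _, by simp [Fin.ext_iff], (ht i).trans (σ_eq i hi)⟩
  refine ⟨t, fun i => (ht i).trans (σ_eq i i.2), fun i hi => h.sq _ (hsw i hi), fun i hi => ?_, fun i j hij hj => ?_⟩
  · rw [t_succ]
    split_ifs with h1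
    · exact h1
    · have h2 : P (t i * u (i + 1) * t i) = P (u (i + 1) * t i * u (i + 1)) := by
        simp only [map_mul, ht, hu]
        rw [σ_eq i (by omega), σ_eq (i + 1) hi]
        have e1 := swap_mul_swap_mul_swap (x := (⟨i + 1 + 1, by omega⟩ : Fin (n + 1))) (y := ⟨i + 1, by omega⟩)
          (z := ⟨i, by omega⟩) (by simp [Fin.ext_iff]) (by simp [Fin.ext_iff]; omega)
        have e2 := swap_mul_swap_mul_swap (x := (⟨i, by omega⟩ : Fin (n + 1))) (y := ⟨i + 1, by omega⟩)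
          (z := ⟨i + 1 + 1, by omega⟩) (by simp [Fin.ext_iff]) (by simp [Fin.ext_iff]; omega)
        rw [swap_comm (⟨i + 1, by omega⟩ : Fin (n + 1)) ⟨i, by omega⟩,
          swap_comm (⟨i + 1 + 1, by omega⟩ : Fin (n + 1)) ⟨i + 1, by omega⟩] at e1
        rw [e1, e2, swap_comm]
      have h3 := (h.eq_or h2).resolve_left h1
      calc t i * (z * u (i + 1)) * t i = (t i * z) * u (i + 1) * t i := by group
        _ = z * (t i * u (i + 1) * t i) := by rw [h.z_comm]; group
        _ = z * (u (i + 1) * t i * z) * u (i + 1) := by rw [h3, h.z_comm]; group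
        _ = z * u (i + 1) * t i * (z * u (i + 1)) := by group
  · refine h.anti _ _ (hsw i (by omega)) (hsw j hj) ?_
    rw [ht, ht, σ_eq i (by omega), σ_eq j hj]
    refine disjoint_swap ?_ ?_ ?_ ?_ <;> simp [Fin.ext_iff] <;> omega

theorem eq_top (h : Sc P z) {t : ℕ → T} (ht : ∀ i : Fin n, P (t i) = swap i.castSucc i.succ) (S : Subgroup T)
    (hz : z ∈ S) (hS : ∀ i : Fin n, t i ∈ S) : S = ⊤ := by
  have h1 : Submonoid.closure (Set.range fun i : Fin n => swap i.castSucc i.succ) ≤ (S.map P).toSubmonoid := by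
    rw [Submonoid.closure_le]
    rintro _ ⟨i, rfl⟩
    exact ⟨t i, hS i, ht i⟩
  rw [Perm.mclosure_swap_castSucc_succ] at h1
  refine eq_top_iff.2 fun x _ => ?_
  obtain ⟨y, hy, e⟩ := h1 (Submonoid.mem_top (P x))
  rcases h.eq_or (x := x) (y := y) e.symm with e' | e'
  · exact e' ▸ hy
  · exact e' ▸ mul_mem hz hy

theorem hom_ext (h : Sc P z) {t : ℕ → T} (ht : ∀ i : Fin n, P (t i) = swap i.castSucc i.succ) {H : Type*} [Group H]
    {f g : T →* H} (hz : f z = g z) (hS : ∀ i : Fin n, f (t i) = g (t i)) : f = g :=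
  MonoidHom.ext fun x => (h.eq_top ht (f.eqLocus g) hz hS ▸ mem_top x : x ∈ f.eqLocus g)

/-- **the presentation** -/
theorem exists_hom (h : Sc P z) {t : ℕ → T} (ht : ∀ i : Fin n, P (t i) = swap i.castSucc i.succ) (hr : SRel n t z)
    {H : Type*} [Group H] {Y : ℕ → H} {ζ : H} (hζ : ζ * ζ = 1) (hζc : ∀ x, x * ζ = ζ * x) (hY : SRel n Y ζ) :
    ∃ Φ : T →* H, (∀ i : Fin n, Φ (t i) = Y i) ∧ Φ z = ζ := by
  classical
  set! N : Subgroup (T × H) := zpowers (z, ζ) with hN
  have hNz : (z, ζ) * (z, ζ) = (1 : T × H) := Prod.ext h.z_mul hζ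
  have hmemN : ∀ p : T × H, p ∈ N ↔ p = 1 ∨ p = (z, ζ) := by
    intro p
    constructor
    · intro hp
      obtain ⟨k, hk⟩ := mem_zpowers_iff.1 hp
      rcases Int.even_or_odd' k with ⟨l, hl | hl⟩
      · left
        rw [← hk, hl, zpow_mul, zpow_two, hNz, one_zpow]
      · right
        rw [← hk, hl, zpow_add, zpow_mul, zpow_two, hNz, one_zpow, one_mul, zpow_one]
    · rintro (rfl | rfl)
      · exact one_mem _
      · exact mem_zpowers _
  have hNn : N.Normal := by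
    refine ⟨fun p hp g => ?_⟩
    rcases (hmemN p).1 hp with rfl | rfl
    · rw [mul_one, mul_inv_cancel]; exact one_mem _
    · have : g * (z, ζ) * g⁻¹ = (z, ζ) := by
        refine Prod.ext ?_ ?_
        · change g.1 * z * g.1⁻¹ = z
          rw [h.z_comm, mul_inv_cancel_right]
        · change g.2 * ζ * g.2⁻¹ = ζ
          rw [hζc, mul_inv_cancel_right]
      rw [this]; exact mem_zpowers _
  let q : T × H →* (T × H) ⧸ N := QuotientGroup.mk' N
  have hq : ∀ p, q p = 1 ↔ p = 1 ∨ p = (z, ζ) := by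
    intro p
    rw [← hmemN]
    exact QuotientGroup.eq_one_iff p
  have hqz : q (z, ζ) = 1 := (hq _).2 (Or.inr rfl)
  have hrel : H346.CoxA.Rel n (fun k => q (t k, Y k)) := by
    refine ⟨fun i hi => ?_, fun i hi => ?_, fun i j hij hj => ?_⟩
    · rw [← map_mul, hq]
      exact Or.inr (Prod.ext (hr.sq i hi) (hY.sq i hi))
    · rw [← map_mul, ← map_mul, ← map_mul, ← map_mul]
      exact congrArg q (Prod.ext (hr.braid i hi) (hY.braid i hi))
    · rw [← one_mul (q (t j, Y j) * _), ← hqz, ← map_mul, ← map_mul, ← map_mul]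
      exact congrArg q (Prod.ext (hr.anti i j hij hj) (hY.anti i j hij hj))
  obtain ⟨s, hs⟩ := H346.CoxA.exists_hom n _ hrel
  have hN1 : N ≤ (P.comp (MonoidHom.fst T H)).ker := by
    intro p hp
    rw [MonoidHom.mem_ker]
    rcases (hmemN p).1 hp with rfl | rfl
    · exact map_one _
    · exact h.map_z
  have key1 : ∀ p g, q p = s g → P p.1 = g := by
    have hc : (QuotientGroup.lift N (P.comp (MonoidHom.fst T H)) hN1).comp s = MonoidHom.id _ := by
      refine perm_hom_ext fun k => ?_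
      rw [MonoidHom.comp_apply, hs]
      exact ht k
    intro p g hp
    have h1 := DFunLike.congr_fun hc g
    rw [MonoidHom.comp_apply, ← hp] at h1
    exact h1
  let Γ : Subgroup (T × H) := s.range.comap q
  have hΓz : (z, ζ) ∈ Γ := ⟨1, by rw [map_one]; exact hqz.symm⟩
  let f₁ : Γ →* T := (MonoidHom.fst T H).comp Γ.subtype
  let f₂ : Γ →* H := (MonoidHom.snd T H).comp Γ.subtype
  have hf₁ : Function.Bijective f₁ := by
    constructor
    · rw [injective_iff_map_eq_one]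
      rintro ⟨⟨a, b⟩, g, hg⟩ hab
      have ha : a = 1 := hab
      subst ha
      have h1 := key1 (1, b) g hg.symm
      rw [map_one] at h1
      rw [← h1, map_one] at hg
      rcases (hq (1, b)).1 hg.symm with h2 | h2
      · exact Subtype.ext h2
      · exact absurd (congrArg Prod.fst h2).symm h.z_ne
    · intro x
      obtain ⟨p, hp⟩ := QuotientGroup.mk'_surjective N (s (P x))
      have hp0 : p ∈ Γ := ⟨P x, hp.symm⟩
      rcases h.eq_or (key1 p _ hp).symm with h1 | h1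
      · exact ⟨⟨p, hp0⟩, h1.symm⟩
      · exact ⟨⟨(z, ζ) * p, mul_mem hΓz hp0⟩, h1.symm⟩
  let e₁ : Γ ≃* T := MulEquiv.ofBijective f₁ hf₁
  have he : ∀ p : Γ, (f₂.comp e₁.symm.toMonoidHom) p.1.1 = p.1.2 := by
    intro p
    have h1 : e₁.symm (p.1.1) = p := e₁.symm_apply_eq.2 rfl
    change f₂ (e₁.symm (p.1.1)) = p.1.2
    rw [h1]
    rfl
  exact ⟨f₂.comp e₁.symm.toMonoidHom, fun i => he ⟨(t i, Y i), _, hs i⟩, he ⟨(z, ζ), hΓz⟩⟩

theorem unique_succ (h : Sc P z) {T' : Type} [Group T'] {P' : T' →* Perm (Fin (n + 1))} {z' : T'} (h' : Sc P' z') :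
    ∃ e : T ≃* T', (∀ x, P' (e x) = P x) ∧ e z = z' := by
  obtain ⟨t, ht, hr⟩ := h.exists_gen
  obtain ⟨t', ht', hr'⟩ := h'.exists_gen
  obtain ⟨Φ, h1, h2⟩ := h.exists_hom ht hr h'.z_mul h'.z_comm hr'
  have h3 : P'.comp Φ = P := h.hom_ext ht (by rw [MonoidHom.comp_apply, h2, h'.map_z, h.map_z])
    fun i => by rw [MonoidHom.comp_apply, h1, ht', ht]
  have h4 : ∀ x, P' (Φ x) = P x := DFunLike.congr_fun h3
  exact ⟨MulEquiv.ofBijective Φ (h.bijective h' Φ h4 h2), h4, h2⟩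

end pres

variable {α T T' : Type} [Fintype α] [DecidableEq α] [Group T] [Group T'] {P : T →* Perm α} {z : T}

/-- at most one point -/
theorem of_subsingleton {β : Type} [Fintype β] [DecidableEq β] [Subsingleton α] [Subsingleton β] (h : Sc P z) :
    Sc (1 : T →* Perm β) z where
  surj := fun _ => ⟨1, Subsingleton.elim _ _⟩
  z_ne := h.z_ne
  z_comm := h.z_comm
  ker := fun x => ⟨fun _ => (h.ker x).1 (Subsingleton.elim _ _), fun _ => rfl⟩
  sq := fun _ ⟨_, _, hij, _⟩ => absurd (Subsingleton.elim _ _) hij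
  anti := fun _ _ ⟨_, _, hij, _⟩ => absurd (Subsingleton.elim _ _) hij

/-- **uniqueness** -/
theorem unique (h : Sc P z) {P' : T' →* Perm α} {z' : T'} (h' : Sc P' z') :
    ∃ e : T ≃* T', (∀ x, P' (e x) = P x) ∧ e z = z' := by
  obtain h0 | ⟨n, hn⟩ : Fintype.card α = 0 ∨ ∃ n, Fintype.card α = n + 1 := by
    cases Fintype.card α with
    | zero => exact Or.inl rfl
    | succ n => exact Or.inr ⟨n, rfl⟩
  · have : IsEmpty α := Fintype.card_eq_zero_iff.1 h0
    have : Subsingleton (Fin (0 + 1)) := inferInstanceAs (Subsingleton (Fin 1))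
    obtain ⟨e, -, h2⟩ := (h.of_subsingleton (β := Fin (0 + 1))).unique_succ h'.of_subsingleton
    exact ⟨e, fun _ => Subsingleton.elim _ _, h2⟩
  · let u := Fintype.equivFinOfCardEq hn
    obtain ⟨e, h1, h2⟩ := (h.congr u).unique_succ (h'.congr u)
    exact ⟨e, fun x => (permCongrHom u).injective (h1 x), h2⟩

end Sc

section exist

open Cfsg.Agent.SporadicRecognition Cfsg.Agent.SporadicRecognition.AltCover Cfsg.Agent.CharactersDeep.DoubleCover
  Cfsg.Agent.H686.Spin

theorem cover_or {N : ℕ} {x y : cover N} (h : proj N x = proj N y) : x = y ∨ x = zz N * y := by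
  rcases eq_one_or_eq_zz_of_proj_eq_one (x := x * y⁻¹) (by rw [map_mul, map_inv, h, mul_inv_cancel]) with e | e
  · exact Or.inl (mul_inv_eq_one.1 e)
  · exact Or.inr (mul_inv_eq_iff_eq_mul.1 e)

/-- the twisted cover in the Clifford model -/
theorem sc_TT {n : ℕ} (hG : IsCover (mproj (n + 2)) (mz (n + 2))) : Sc (TP (mproj (n + 2))) (Tz hG) := by
  have h01 : (0 : Fin (n + 2)) ≠ 1 := fun h => by simpa using congrArg Fin.val h
  have h0 : ∀ i : Fin n, (em n i : Fin (n + 2)) ≠ 0 := fun i h => by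
    have := congrArg Fin.val h
    rw [em_val] at this
    simp at this
  have h1 : ∀ i : Fin n, (em n i : Fin (n + 2)) ≠ 1 := fun i h => by
    have := congrArg Fin.val h
    rw [em_val] at this
    have e : ((1 : Fin (n + 2)) : ℕ) = 1 := rfl
    omega
  have hem : ∀ {i j : Fin n}, i ≠ j → (em n i : Fin (n + 2)) ≠ em n j := fun h e => h ((em n).injective (Subtype.ext e))
  have key : ∀ (x : TT (mproj (n + 2))) {i j : Fin n}, i ≠ j → TP _ x = swap i j →
      ((TG (mproj (n + 2)) x : model (n + 2)) : cover (n + 2)) =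
        AltCover.T (em n i : Fin (n + 2)) (em n j) * AltCover.T 0 1 ∨
      ((TG (mproj (n + 2)) x : model (n + 2)) : cover (n + 2)) = zz _ * (AltCover.T (em n i : Fin (n + 2)) (em n j) * AltCover.T 0 1) := by
    intro x i j hij hx
    refine cover_or ?_
    rw [← coe_mproj, TT_eq, coe_twA, hx, tw_def, Perm.sign_swap hij, tw2_neg, extendDomain_swap', map_mul,
      proj_T (hem hij), proj_T h01]
  have hc : ∀ {i j : Fin n}, i ≠ j → AltCover.T 0 1 * AltCover.T (em n i : Fin (n + 2)) (em n j) =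
      zz _ * (AltCover.T (em n i : Fin (n + 2)) (em n j) * AltCover.T 0 1) := fun hij =>
    T_mul_T_disjoint h01 (hem hij) (h0 _).symm (h0 _).symm (h1 _).symm (h1 _).symm
  have mP := (TP (mproj (n + 2))).map_mul
  have mG : ∀ x y : TT (mproj (n + 2)), ((TG (mproj (n + 2)) (x * y) : model (n + 2)) : cover (n + 2)) =
      ((TG (mproj (n + 2)) x : model (n + 2)) : cover (n + 2)) * ((TG (mproj (n + 2)) y : model (n + 2)) : cover (n + 2)) :=
    fun x y => congrArg Subtype.val ((TG (mproj (n + 2))).map_mul x y)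
  have gz : ((TG (mproj (n + 2)) (Tz hG) : model (n + 2)) : cover (n + 2)) = zz _ := by rw [TG_Tz, coe_mz]
  refine ⟨TP_surj hG, Tz_ne hG, Tz_comm hG, TP_ker hG, ?_, ?_⟩
  · rintro x ⟨i, j, hij, hx⟩
    refine TT_ext (Subtype.ext ((mG x x).trans (Eq.trans ?_ gz.symm)))
      ((mP x x).trans ((congrArg₂ (· * ·) hx hx).trans ((swap_mul_self i j).trans (TP_Tz hG).symm)))
    rw [sq_of_or zz_comm zz_mul_self (key x hij hx)]
    calc _ = AltCover.T (em n i : Fin (n + 2)) (em n j) * (AltCover.T 0 1 * AltCover.T (em n i : Fin (n + 2)) (em n j)) *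
          AltCover.T 0 1 := by group
      _ = (AltCover.T (em n i : Fin (n + 2)) (em n j) * zz _) * AltCover.T (em n i : Fin (n + 2)) (em n j) *
          (AltCover.T 0 1 * AltCover.T 0 1) := by rw [hc hij]; group
      _ = _ := by rw [zz_comm, T_mul_self h01, mul_one, mul_assoc, T_mul_self (hem hij), mul_one]
  · rintro x y ⟨i, j, hij, hx⟩ ⟨k, l, hkl, hy⟩ hd
    have hd' := hd
    simp only [hx, hy] at hd'
    obtain ⟨a, b, c, d⟩ := ne_of_disjoint_swap hij hkl hd'
    refine TT_ext (Subtype.ext ((mG x y).trans (Eq.trans ?_ ((mG _ _).trans (congrArg₂ (· * ·) gz (mG y x))).symm)))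
      ((mP x y).trans (hd.commute.eq.trans
        ((mP _ _).trans ((congrArg₂ (· * ·) (TP_Tz hG) (mP y x)).trans (one_mul _))).symm))
    refine anti_left zz_comm (key x hij hx) (anti_right zz_comm (key y hkl hy) ?_)
    have e1 := T_mul_T_disjoint (hem hij) (hem hkl) (hem a) (hem b) (hem c) (hem d)
    have e2 := hc hij
    have e3 := hc hkl
    generalize AltCover.T (em n i : Fin (n + 2)) (em n j) = s at e1 e2 ⊢
    generalize AltCover.T (em n k : Fin (n + 2)) (em n l) = t at e1 e3 ⊢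
    generalize AltCover.T (0 : Fin (n + 2)) 1 = u at e2 e3 ⊢
    calc s * u * (t * u) = s * (u * t) * u := by group
      _ = (s * zz _) * t * u * u := by rw [e3]; group
      _ = zz _ * (s * t) * u * u := by rw [zz_comm]; group
      _ = zz _ * ((zz _ * t) * s * u * u) := by rw [e1]; group
      _ = zz _ * (t * (zz _ * (s * u)) * u) := by rw [← zz_comm t]; group
      _ = zz _ * (t * u * (s * u)) := by rw [← e2]; group

/-- **existence** -/
theorem exists_sc (α : Type) [Fintype α] [DecidableEq α] :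
    ∃ (T : Type) (_ : Group T) (_ : Finite T) (P : T →* Perm α) (z : T), Sc P z := by
  have h := (sc_TT (isCover_model (n := Fintype.card α + 2 + 2) (by omega))).sub
    ((Fintype.equivFin α).trans (_root_.Cfsg.Agent.H686.Spin.em (Fintype.card α)))
  exact ⟨_, inferInstance, h.finite, _, _, h⟩

end exist

section even

variable {n : ℕ} {T : Type} [Group T] {P : T →* Perm (Fin n)} {z : T}

theorem Sc.z_mem_even (h : Sc P z) : z ∈ (alternatingGroup (Fin n)).comap P := by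
  rw [mem_comap, h.map_z]
  exact one_mem _

/-- the even part is a non-split double cover of the alternating group -/
theorem Sc.isCover (h : Sc P z) (hn : 4 ≤ n) :
    IsCover (P.subgroupComap (alternatingGroup (Fin n))) ⟨z, h.z_mem_even⟩ where
  z_ne := fun e => h.z_ne (congrArg Subtype.val e)
  z_mul := Subtype.ext h.z_mul
  z_comm := fun x => Subtype.ext (h.z_comm x)
  surj := P.subgroupComap_surjective_of_surjective _ h.surj
  ker := fun x => by
    rw [Subtype.ext_iff, Subtype.ext_iff, Subtype.ext_iff]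
    exact h.ker x
  nonsplit := fun s hs => by
    have hij : (⟨0, by omega⟩ : Fin n) ≠ ⟨1, by omega⟩ := by simp
    have hkl : (⟨2, by omega⟩ : Fin n) ≠ ⟨3, by omega⟩ := by simp
    have hd : (swap (⟨0, by omega⟩ : Fin n) ⟨1, by omega⟩).Disjoint (swap ⟨2, by omega⟩ ⟨3, by omega⟩) :=
      disjoint_swap (by simp) (by simp) (by simp) (by simp)
    let g : alternatingGroup (Fin n) := ⟨swap ⟨0, by omega⟩ ⟨1, by omega⟩ * swap ⟨2, by omega⟩ ⟨3, by omega⟩, by
      rw [Perm.mem_alternatingGroup, map_mul, Perm.sign_swap hij, Perm.sign_swap hkl]; rfl⟩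
    have hg : g * g = 1 := Subtype.ext (by
      change _ * _ * (_ * _) = (1 : Perm (Fin n))
      rw [hd.commute.symm.mul_mul_mul_comm, swap_mul_self, swap_mul_self, mul_one])
    have h1 := h.sq_double hij hkl hd (x := (s g : T)) (congrArg Subtype.val (hs g))
    rw [← Subgroup.coe_mul, ← map_mul, hg, map_one] at h1
    exact h.z_ne h1.symm

variable {X : Type} [Group X] {φ : X →* alternatingGroup (Fin n)}

theorem isCover_of_cv (c : Cv 2 φ) : ∃ w : X, IsCover φ w ∧ ∀ x, x ∈ center X ↔ x = 1 ∨ x = w := by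
  obtain ⟨w, hw1, hw2⟩ := (Nat.card_eq_two_iff' (1 : center X)).1 c.card
  have hw : (w : X) ≠ 1 := fun e => hw1 (Subtype.ext e)
  have hc : ∀ x, x ∈ center X ↔ x = 1 ∨ x = (w : X) := fun x => ⟨fun hx => by
    by_cases hx1 : x = 1
    · exact Or.inl hx1
    · exact Or.inr (congrArg Subtype.val (hw2 ⟨x, hx⟩ fun e => hx1 (congrArg Subtype.val e))),
    fun hx => hx.elim (fun e => e ▸ one_mem _) fun e => e ▸ w.2⟩
  have hk : ∀ x, φ x = 1 ↔ x = 1 ∨ x = (w : X) := fun x => by rw [← hc, ← c.ker, MonoidHom.mem_ker]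
  refine ⟨w, ⟨hw, ((hc _).1 (mul_mem w.2 w.2)).resolve_right fun e => hw (mul_eq_left.1 e),
    fun x => mem_center_iff.1 w.2 x, c.surj, hk, fun s hs => ?_⟩, hc⟩
  have h1 : ∀ x, x * (s (φ x))⁻¹ ∈ center X := fun x => by
    rw [← c.ker, MonoidHom.mem_ker, map_mul, map_inv, hs, mul_inv_cancel]
  have h2 : _root_.commutator X ≤ s.range := by
    rw [_root_.commutator, commutator_le]
    intro x _ y _
    refine ⟨⁅φ x, φ y⁆, ?_⟩
    obtain ⟨a, ha, hx⟩ : ∃ a ∈ center X, x = a * s (φ x) := ⟨_, h1 x, by group⟩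
    obtain ⟨b, hb, hy⟩ : ∃ b ∈ center X, y = b * s (φ y) := ⟨_, h1 y, by group⟩
    rw [map_commutatorElement]
    generalize s (φ x) = u at hx
    generalize s (φ y) = v at hy
    have ha' := mem_center_iff.1 ha
    have hb' := mem_center_iff.1 hb
    rw [hx, hy, commutatorElement_def, commutatorElement_def]
    calc u * v * u⁻¹ * v⁻¹ = a * (b * (u * v * u⁻¹ * v⁻¹) * b⁻¹) * a⁻¹ := by rw [← hb', ← ha']; group
      _ = a * ((b * u) * v * u⁻¹) * ((v⁻¹ * b⁻¹) * a⁻¹) := by group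
      _ = a * ((u * b) * v * u⁻¹) * (a⁻¹ * (v⁻¹ * b⁻¹)) := by rw [hb' u, mem_center_iff.1 (inv_mem ha)]
      _ = _ := by group
  rw [c.perf] at h2
  obtain ⟨g, hg⟩ := h2 (mem_top (w : X))
  have h3 := hs g
  rw [hg, (hk _).2 (Or.inr rfl)] at h3
  rw [← h3, map_one] at hg
  exact hw hg.symm

/-- **`2.A_n` is the even part** of any cover `Sc` -/
theorem Sc.exists_equiv_cv (h : Sc P z) (hn : 5 ≤ n) (c : Cv 2 φ) :
    ∃ e : X ≃* (alternatingGroup (Fin n)).comap P, (∀ x, P (e x) = φ x) ∧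
      ∀ x, x ∈ center X ↔ x = 1 ∨ (e x : T) = z := by
  obtain ⟨w, hw, hc⟩ := isCover_of_cv c
  obtain ⟨e, h1, h2⟩ := SporadicRecognition.AltCover.exists_mulEquiv hn hw (h.isCover (by omega))
  refine ⟨e, fun x => congrArg Subtype.val (h1 x), fun x => ?_⟩
  rw [hc, ← e.injective.eq_iff (b := w), h2, Subtype.ext_iff]

theorem exists_sc_of_cv (hn : 5 ≤ n) (c : Cv 2 φ) :
    ∃ (T : Type) (_ : Group T) (_ : Finite T) (P : T →* Perm (Fin n)) (z : T)
      (e : X ≃* (alternatingGroup (Fin n)).comap P), Sc P z ∧ (∀ x, P (e x) = φ x) ∧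
      ∀ x, x ∈ center X ↔ x = 1 ∨ (e x : T) = z := by
  obtain ⟨T, _, _, P, z, h⟩ := exists_sc (Fin n)
  obtain ⟨e, h1⟩ := h.exists_equiv_cv hn c
  exact ⟨T, inferInstance, inferInstance, P, z, e, h, h1⟩

end even

end Cfsg.Agent.MO.A
end

-- part: MO/A/Yg
section
/-!
# MO, double covers of the symmetric groups: disjoint permutations, the Young step (helper92)

* `Sc.comm`, `Sc.comm_even`, `Sc.comm_odd` : lifts of disjoint permutations; `Sc.tw` : twisted products;
* `Tw.ty_ov` : the twisted product step for the central character;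
* `SpinT.ty`, `SpinT.ty_pull` : the types of the whole group and of the preimage of a smaller symmetric group;
* `ty_young` : the type of the preimage of a Young subgroup.
-/

set_option autoImplicit false

namespace Cfsg.Agent.MO.A

open Cfsg Subgroup Equiv Cfsg.Agent.MO.T
open Cfsg.Agent.MK (Ov)

variable {p : ℕ} {α β γ T : Type} [Fintype α] [DecidableEq α] [Fintype β] [DecidableEq β] [Fintype γ] [DecidableEq γ]
  [Group T] {P : T →* Perm α} {z : T}

/-- the sign of the commutator -/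
def ez (z : T) (a b : ℤˣ) : T := if a = -1 ∧ b = -1 then z else 1

theorem ez_symm (z : T) (a b : ℤˣ) : ez z a b = ez z b a := by simp only [ez, and_comm]

theorem ez_one (z : T) (b : ℤˣ) : ez z 1 b = 1 := if_neg fun h => absurd h.1 (by decide)

theorem ez_neg (z : T) : ez z (-1) (-1) = z := if_pos ⟨rfl, rfl⟩

theorem ez_mul (hz : z * z = 1) (a a' b : ℤˣ) : ez z (a * a') b = ez z a b * ez z a' b := by
  rcases Int.units_eq_one_or b with rfl | rfl
  · rw [ez_symm, ez_symm z a, ez_symm z a', ez_one, ez_one, ez_one, mul_one]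
  · rcases Int.units_eq_one_or a with rfl | rfl
    · rw [one_mul, ez_one, one_mul]
    · rcases Int.units_eq_one_or a' with rfl | rfl
      · rw [mul_one, ez_one, mul_one]
      · rw [neg_mul_neg, mul_one, ez_one, ez_neg, hz]

theorem ez_comm (hc : ∀ x, x * z = z * x) (a b : ℤˣ) (x : T) : x * ez z a b = ez z a b * x := by
  unfold ez
  split_ifs
  · exact hc x
  · rw [mul_one, one_mul]

namespace Sc

theorem comm_aux (h : Sc P z) {q : α → Prop} [DecidablePred q] {y : T} {b : ℤˣ}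
    (hy : ∀ t i j, q i → q j → i ≠ j → P t = swap i j → t * y = ez z (-1) b * (y * t)) (σ : Perm (Subtype q)) :
    ∀ x, P x = Perm.ofSubtype σ → x * y = ez z (Perm.sign (P x)) b * (y * x) := by
  induction σ using Perm.swap_induction_on with
  | one =>
    intro x hx
    rw [map_one] at hx
    rw [hx, map_one, ez_one, one_mul]
    rcases (h.ker x).1 hx with rfl | rfl
    · rw [mul_one, one_mul]
    · exact (h.z_comm y).symm
  | swap_mul f i j hij ih =>
    intro x hx
    obtain ⟨t, ht⟩ := h.surj (swap (i : α) j)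
    have hne : (i : α) ≠ j := fun e => hij (Subtype.ext e)
    obtain ⟨u, rfl⟩ : ∃ u, x = t * u := ⟨t⁻¹ * x, (mul_inv_cancel_left _ _).symm⟩
    rw [map_mul, map_mul, Perm.ofSubtype_swap_eq, ht, mul_right_inj] at hx
    rw [map_mul, map_mul, ht, Perm.sign_swap hne, ez_mul h.z_mul, mul_assoc, ih u hx, ← mul_assoc,
      ez_comm h.z_comm, mul_assoc, ← mul_assoc t, hy t i j i.2 j.2 hne ht, ← ez_comm h.z_comm (-1) b (ez z _ b)]
    simp only [mul_assoc]

theorem comm_sub (h : Sc P z) {y : T} {b : ℤˣ} {x : T}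
    (hy : ∀ t i j, P x i ≠ i → P x j ≠ j → i ≠ j → P t = swap i j → t * y = ez z (-1) b * (y * t)) :
    x * y = ez z (Perm.sign (P x)) b * (y * x) :=
  h.comm_aux (q := fun i => P x i ≠ i) hy ((P x).subtypePerm fun _ => not_congr (P x).injective.eq_iff) x
    (Perm.ofSubtype_subtypePerm _ fun _ => id).symm

/-- **lifts of disjoint permutations** -/
theorem comm (h : Sc P z) {x y : T} (hd : (P x).Disjoint (P y)) :
    x * y = ez z (Perm.sign (P x)) (Perm.sign (P y)) * (y * x) := by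
  refine h.comm_sub fun t i j hi hj hij ht => ?_
  have k : y * t = ez z (Perm.sign (P y)) (-1) * (t * y) := h.comm_sub fun u k l hk hl hkl hu => by
    have k1 : ∀ {a b}, P x a ≠ a → P y b ≠ b → b ≠ a := fun {a b} ha hb e => by
      subst e
      exact (hd b).elim ha hb
    rw [ez_neg]
    exact h.anti u t ⟨k, l, hkl, hu⟩ ⟨i, j, hij, ht⟩ (by
      rw [hu, ht]
      exact disjoint_swap (k1 hi hk) (k1 hj hk) (k1 hi hl) (k1 hj hl))
  rw [k, ez_symm, ← mul_assoc, ← ez_mul h.z_mul, Int.units_mul_self, ez_one, one_mul]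

theorem comm_even (h : Sc P z) {x y : T} (hd : (P x).Disjoint (P y))
    (he : Perm.sign (P x) = 1 ∨ Perm.sign (P y) = 1) : x * y = y * x := by
  rw [h.comm hd]
  rcases he with e | e
  · rw [e, ez_one, one_mul]
  · rw [e, ez_symm, ez_one, one_mul]

theorem comm_odd (h : Sc P z) {x y : T} (hd : (P x).Disjoint (P y)) (hx : Perm.sign (P x) = -1)
    (hy : Perm.sign (P y) = -1) : x * y = z * (y * x) := by
  rw [h.comm hd, hx, hy, ez_neg]

/-- **twisted products** in a double cover -/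
theorem tw (h : Sc P z) {A B K : Subgroup T} (zA : z ∈ A) (zB : z ∈ B) (lA : A ≤ K) (lB : B ≤ K)
    (dec : ∀ k ∈ K, ∃ x ∈ A, ∃ y ∈ B, k = x * y) (hd : ∀ x ∈ A, ∀ y ∈ B, (P x).Disjoint (P y)) :
    Tw (Perm.sign.comp P) z A B K where
  zc x _ := h.z_comm x
  zz := h.z_mul
  sz := by rw [MonoidHom.comp_apply, h.map_z, map_one]
  zA := zA
  zB := zB
  lA := lA
  lB := lB
  dec := dec
  inf x hx hy := (h.ker x).1 (Perm.disjoint_refl_iff.1 (hd x hx x hy))
  even x hx y hy e := h.comm_even (hd x hx y hy) e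
  odd x hx y hy e e' := h.comm_odd (hd x hx y hy) e e'

end Sc

/-- the twisted product step for the central character -/
theorem Tw.ty_ov [Finite T] [Fact p.Prime] {s : T →* ℤˣ} {A B K Z : Subgroup T} (h : Tw s z A B K) (h2 : p ≠ 2)
    (hZ : ∀ x, x ∈ Z ↔ x = 1 ∨ x = z) {l : T → ℂ} (hl : l z = -1) {a1 b1 a2 b2 : ℕ}
    (t1 : Ty p s (fun L => Ov L Z l) A a1 b1) (t2 : Ty p s (fun L => Ov L Z l) B a2 b2) :
    Ty p s (fun L => Ov L Z l) K (a1 * a2 + b1 * b2) (a1 * b2 + b1 * a2) := by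
  have F : Flt (fun L => Ov L Z l) Z K := flt_ov (fun w hw x hx => by
    rcases (hZ w).1 hw with rfl | rfl
    · rw [mul_one, one_mul]
    · exact h.zc x hx) l
  have k : ∀ C : Subgroup T, z ∈ C → Z ≤ C ⊓ s.ker := fun C hC w hw => by
    rcases (hZ w).1 hw with rfl | rfl
    · exact one_mem _
    · exact ⟨hC, h.sz⟩
  have sp : ∀ (L : Subgroup T) (ψ : L → ℂ), IsIrrCharacter L ψ → Ov L Z l ψ → Sp z L ψ := fun L ψ _ ho k hk => by
    rw [ho k ((hZ _).2 (Or.inr hk)), hk, hl, neg_one_mul]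
  have t := h.ty (F.mono (k A h.zA) le_rfl) (F.mono (k B h.zB) le_rfl) sp sp h2 t1 t2
  exact ⟨(cn_iff fun _ _ => and_self_iff.symm).trans t.all,
    (cn_iff fun _ _ => and_congr_left' and_self_iff.symm).trans t.van⟩

/-! ### small values -/

theorem strict_small {L : List ℤ} (h : H614.Spin.Strict L) {n : ℕ} (hn : n ≤ 1) (hs : L.sum = n) : L.length = n := by
  rcases L with _ | ⟨a, _ | ⟨b, L⟩⟩
  · simp only [List.sum_nil, List.length_nil] at hs ⊢
    omega
  · have := h.2 a (by simp)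
    simp only [List.sum_cons, List.sum_nil, List.length_cons, List.length_nil] at hs ⊢
    omega
  · have h1 := h.2 a (by simp)
    have h2 := h.2 b (by simp)
    have h3 : 0 ≤ L.sum := List.sum_nonneg fun x hx => (h.2 x (by simp [hx])).le
    simp only [List.sum_cons] at hs
    omega

theorem sn_small {n : ℕ} (hn : n ≤ 1) : sn p n = 0 := by
  have : IsEmpty {L : List ℤ // H614.Spin.Strict L ∧ L.sum = n ∧
      ¬ (p : ℤ) ∣ H614.Spin.X (Multiset.replicate n 1) L ∧ Odd (n + L.length)} := ⟨fun L => by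
    have h1 := L.2.2.2.2
    rw [strict_small L.2.1 hn L.2.2.1, Nat.odd_iff] at h1
    omega⟩
  exact Nat.card_of_isEmpty

theorem sp_zero (hp : p.Prime) : sp p 0 = 1 :=
  Nat.card_eq_one_iff_exists.2 ⟨⟨[], ⟨List.Pairwise.nil, by simp⟩, rfl, by
    rw [Multiset.replicate_zero, H614.Spin.X_zero, H614.Spin.V_nil]
    exact fun h => hp.not_dvd_one (by exact_mod_cast h), by simp only [_root_.List.length_nil, _root_.add_zero, _root_.Even.zero]⟩,
    fun L => Subtype.ext (List.length_eq_zero_iff.1 (strict_small L.2.1 zero_le_one L.2.2.1))⟩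

/-- the Young rule for the numbers -/
theorem GlobT.young (h : GlobT) {k a r : ℕ} (hp : p.Prime) (h2 : p ≠ 2) (ha : a < p) (hr : r < p ^ k) :
    sp p (a * p ^ k + r) = sp p (a * p ^ k) * sp p r + sn p (a * p ^ k) * sn p r ∧
      sn p (a * p ^ k + r) = sp p (a * p ^ k) * sn p r + sn p (a * p ^ k) * sp p r := by
  obtain ⟨h3, h4⟩ := h p k a 0 hp h2 ha (by omega)
  rw [add_zero, sp_zero hp, sn_small zero_le_one, mul_one, mul_zero] at h3 h4
  rw [h3, h4, add_zero, zero_add]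
  exact h p k a r hp h2 ha hr

/-! ### the types -/

theorem sign_map {f : Perm β →* Perm α} {u : β → α} (hu : Function.Injective u)
    (hfu : ∀ i j, f (swap i j) = swap (u i) (u j)) (σ : Perm β) : Perm.sign (f σ) = Perm.sign σ := by
  induction σ using Perm.swap_induction_on with
  | one => rw [map_one, map_one, map_one]
  | swap_mul g i j hij ih => rw [map_mul, map_mul, map_mul, ih, hfu, Perm.sign_swap hij, Perm.sign_swap (hu.ne hij)]

/-- **the type of a double cover** -/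
theorem SpinT.ty [Finite T] (hT : SpinT) (hp : p.Prime) (h2 : p ≠ 2) (h : Sc P z) {l : T → ℂ} (h1 : l 1 = 1)
    (hl : l z = -1) : Ty p (Perm.sign.comp P) (fun L => Ov L P.ker l) ⊤ (sp p (Fintype.card α))
      (sn p (Fintype.card α)) := by
  let e := Fintype.equivFin α
  obtain ⟨h3, h4⟩ := hT p _ hp h2 T _ z (h.congr e) l h1 hl
  have k1 : ((permCongrHom e).toMonoidHom.comp P).ker = P.ker :=
    Subgroup.ext fun x => (h.congr e).mem_ker.trans h.mem_ker.symm
  have k2 : Perm.sign.comp ((permCongrHom e).toMonoidHom.comp P) = Perm.sign.comp P :=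
    MonoidHom.ext fun x => Perm.sign_permCongr e (P x)
  rw [k1] at h3 h4
  rw [k2] at h4
  refine ⟨?_, h4⟩
  rcases Nat.lt_or_ge (Fintype.card α) 2 with hn | hn
  · rw [sn_small (by omega), ← h4, bb_eq_cn]
    have := Fintype.card_le_one_iff_subsingleton.1 (by omega : Fintype.card α ≤ 1)
    exact cn_iff fun ψ _ => (and_iff_left fun x hx => by
      rw [MonoidHom.comp_apply, Subsingleton.elim (P x) 1, map_one] at hx
      exact absurd hx (by decide)).symm
  · exact h3 hn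

/-- **the type of the preimage of a smaller symmetric group** -/
theorem SpinT.ty_pull [Finite T] (hT : SpinT) (hp : p.Prime) (h2 : p ≠ 2) (h : Sc P z) {l : T → ℂ} (h1 : l 1 = 1)
    (hl : l z = -1) {f : Perm β →* Perm α} (hf : Function.Injective f) (u : β → α) (hu : Function.Injective u)
    (hfu : ∀ i j, f (swap i j) = swap (u i) (u j)) :
    Ty p (Perm.sign.comp P) (fun L => Ov L P.ker l) (pull P f) (sp p (Fintype.card β)) (sn p (Fintype.card β)) := by
  have t := hT.ty hp h2 (h.pull hf u hu hfu) (l := fun x => l x) h1 hl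
  have k1 : ∀ x : pull P f, x ∈ (pullP P hf).ker ↔ (x : T) ∈ P.ker := fun x => by
    rw [MonoidHom.mem_ker, MonoidHom.mem_ker, ← pullP_spec P hf, map_eq_one_iff f hf]
  have k2 : ∀ x : pull P f, Perm.sign (pullP P hf x) = Perm.sign (P x) := fun x => by
    rw [← pullP_spec P hf, sign_map hu hfu]
  have k3 : ∀ χ : pull P f → ℂ, Ov ⊤ (pullP P hf).ker (fun x => l x) (fun x => χ (topEquiv x)) ↔
      Ov (pull P f) P.ker l χ := fun χ =>
    ⟨fun k x hx => k ⟨x, trivial⟩ ((k1 x).2 hx), fun k x hx => k x ((k1 x).1 hx)⟩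
  refine ⟨(cn_congr topEquiv fun χ _ => k3 χ).symm.trans t.all,
    Eq.trans (cn_congr topEquiv fun χ _ => and_congr (k3 χ) ?_).symm t.van⟩
  exact ⟨fun k x hx => k ⟨x, trivial⟩ ((k2 x).trans hx), fun k x hx => k x.1 ((k2 x.1).symm.trans hx)⟩

/-- **the Young step** -/
theorem ty_young {P : T →* Perm (β ⊕ γ)} [Finite T] (hT : SpinT) (hp : p.Prime) (h2 : p ≠ 2) (h : Sc P z) {l : T → ℂ}
    (h1 : l 1 = 1) (hl : l z = -1) :
    Ty p (Perm.sign.comp P) (fun L => Ov L P.ker l) ((Yg β γ).comap P)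
      (sp p (Fintype.card β) * sp p (Fintype.card γ) + sn p (Fintype.card β) * sn p (Fintype.card γ))
      (sp p (Fintype.card β) * sn p (Fintype.card γ) + sn p (Fintype.card β) * sp p (Fintype.card γ)) := by
  have := Fact.mk hp
  let f := (Perm.sumCongrHom β γ).comp (MonoidHom.inl _ _)
  let g := (Perm.sumCongrHom β γ).comp (MonoidHom.inr _ _)
  have hf : Function.Injective f := Perm.sumCongrHom_injective.comp fun _ _ e => congrArg Prod.fst e
  have hg : Function.Injective g := Perm.sumCongrHom_injective.comp fun _ _ e => congrArg Prod.snd e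
  refine (h.tw (h.z_mem_pull f) (h.z_mem_pull g) ?_ ?_ ?_ ?_).ty_ov h2 h.ker hl
    (hT.ty_pull hp h2 h h1 hl hf Sum.inl Sum.inl_injective fun i j => Perm.sumCongr_swap_one i j)
    (hT.ty_pull hp h2 h h1 hl hg Sum.inr Sum.inr_injective fun i j => Perm.sumCongr_one_swap i j)
  · rintro x ⟨a, e⟩
    exact ⟨_, e⟩
  · rintro x ⟨a, e⟩
    exact ⟨_, e⟩
  · rintro x ⟨⟨a, b⟩, e⟩
    obtain ⟨u, hu⟩ := h.surj (f a)
    refine ⟨u, ⟨a, hu.symm⟩, u⁻¹ * x, ⟨b, ?_⟩, (mul_inv_cancel_left _ _).symm⟩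
    rw [map_mul, map_inv, hu, ← e, eq_inv_mul_iff_mul_eq]
    exact ((Perm.sumCongrHom β γ).map_mul _ _).symm.trans (congrArg _ (Prod.ext (mul_one _) (one_mul _)))
  · rintro x ⟨a, e⟩ y ⟨b, e'⟩ (i | i)
    · exact Or.inr (by rw [← e']; rfl)
    · exact Or.inl (by rw [← e]; rfl)

end Cfsg.Agent.MO.A
end

-- part: MO/A/Syl
section
/-!
# MO, symmetric groups: overgroups of the normaliser of a Sylow subgroup (helper92)

* `card_Wr`, `card_Yg`, `nd_index_Wr`, `nd_index_Yg` : orders and indices;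
* `sylW : SylW`, `sylY : SylY`;
* `exists_odd` : the normaliser of a Sylow subgroup contains an odd permutation; `card_lt_alt`, `Wr_ne_top`, `Yg_ne_top`.
-/

set_option autoImplicit false

namespace Cfsg.Agent.MO.A.Syl

open Cfsg Subgroup Equiv
open scoped Nat

variable {p : ℕ} [hp : Fact p.Prime]

theorem val_mul (a : ℕ) : ∀ k : ℕ, padicValNat p (a * p ^ k)! = padicValNat p a ! + a * padicValNat p (p ^ k)!
  | 0 => by simp
  | k + 1 => by
    rw [pow_succ', mul_left_comm, padicValNat_factorial_mul, padicValNat_factorial_mul, val_mul a k]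
    ring

theorem val_add (a : ℕ) : ∀ k r : ℕ, r < p ^ k →
    padicValNat p (a * p ^ k + r)! = padicValNat p (a * p ^ k)! + padicValNat p r !
  | 0, r, h => by
    obtain rfl : r = 0 := by simpa using h
    simp
  | k + 1, r, h => by
    have h1 : r / p < p ^ k := Nat.div_lt_of_lt_mul (by rwa [← pow_succ'])
    rw [← padicValNat_mul_div_factorial r, pow_succ', mul_left_comm, ← padicValNat_mul_div_factorial,
      Nat.mul_add_div hp.out.pos, padicValNat_factorial_mul, padicValNat_factorial_mul, padicValNat_factorial_mul,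
      val_add a k _ h1]
    ring

theorem nd_index {G : Type} [Group G] [Finite G] {H : Subgroup G}
    (h : padicValNat p (Nat.card G) = padicValNat p (Nat.card H)) : ¬ p ∣ H.index := by
  rw [← H.index_mul_card, padicValNat.mul index_ne_zero_of_finite Nat.card_pos.ne', add_eq_right] at h
  exact fun e => absurd h (by
    have := one_le_padicValNat_of_dvd index_ne_zero_of_finite e
    omega)

theorem exists_between {G : Type} [Group G] [Finite G] {D H : Subgroup G} (hD : IsPGroup p D) (h1 : D ≤ H)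
    (h2 : ¬ p ∣ H.index) : ∃ Q : Sylow p G, D ≤ Q ∧ (Q : Subgroup G) ≤ H := by
  obtain ⟨S, hS⟩ := (hD.comap_subtype (K := H)).exists_le_sylow
  obtain ⟨Q, hQ⟩ := exists_sylow (P := (S : Subgroup H).map H.subtype) (S.isPGroup'.map _) (by
    rw [index_map_subtype]
    exact nd_mul' S.not_dvd_index h2)
  exact ⟨Q, hQ ▸ fun x hx => ⟨⟨x, h1 hx⟩, hS hx, rfl⟩, hQ ▸ map_subtype_le _⟩

variable {α β γ : Type} [Fintype α] [DecidableEq α] [Fintype β] [DecidableEq β] [Fintype γ] [DecidableEq γ]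

omit hp [DecidableEq β] [DecidableEq γ] in
theorem exists_shear [Nonempty γ] {σ : Perm (β × γ)} (h : σ ∈ Wr β γ) :
    ∃ (τ : Perm β) (f : β → Perm γ), σ = prodShear τ f := by
  obtain ⟨x⟩ := ‹Nonempty γ›
  refine ⟨Equiv.ofBijective (fun i => (σ (i, x)).1)
    (Finite.injective_iff_bijective.1 fun i j e => (h (i, x) (j, x)).1 e),
    fun i => Equiv.ofBijective (fun y => (σ (i, y)).2) (Finite.injective_iff_bijective.1 fun y w e =>
      congrArg Prod.snd (σ.injective (Prod.ext ((h (i, y) (i, w)).2 rfl) e))), ?_⟩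
  ext ⟨i, y⟩
  · exact (h (i, y) (i, x)).2 rfl
  · rfl

omit hp [Fintype β] [Fintype γ] [DecidableEq β] [DecidableEq γ] in
theorem shear_mem (τ : Perm β) (f : β → Perm γ) : (prodShear τ f : Perm (β × γ)) ∈ Wr β γ :=
  fun _ _ => τ.injective.eq_iff

omit hp in
theorem card_Wr [Nonempty γ] : Nat.card (Wr β γ) = (Fintype.card β)! * (Fintype.card γ)! ^ Fintype.card β := by
  obtain ⟨x⟩ := id ‹Nonempty γ›
  rw [← Nat.card_eq_of_bijective (fun y : Perm β × (β → Perm γ) => (⟨prodShear y.1 y.2, shear_mem _ _⟩ : Wr β γ))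
    ⟨fun a b e => ?_, fun σ => ?_⟩, Nat.card_prod, Nat.card_fun, Nat.card_eq_fintype_card, Nat.card_eq_fintype_card,
    Nat.card_eq_fintype_card, Fintype.card_perm, Fintype.card_perm]
  · have e1 : ∀ y, prodShear a.1 a.2 y = prodShear b.1 b.2 y := Equiv.congr_fun (congrArg Subtype.val e)
    exact Prod.ext (Equiv.ext fun i => congrArg Prod.fst (e1 (i, x)))
      (funext fun i => Equiv.ext fun y => congrArg Prod.snd (e1 (i, y)))
  · obtain ⟨τ, f, e⟩ := exists_shear σ.2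
    exact ⟨(τ, f), Subtype.ext e.symm⟩

omit hp in
theorem card_Yg : Nat.card (Yg β γ) = (Fintype.card β)! * (Fintype.card γ)! := by
  rw [Yg, ← Nat.card_congr (MonoidHom.ofInjective Perm.sumCongrHom_injective).toEquiv, Nat.card_prod,
    Nat.card_eq_fintype_card, Nat.card_eq_fintype_card, Fintype.card_perm, Fintype.card_perm]

theorem nd_index_Wr {k : ℕ} (h : Fintype.card γ = p ^ k) : ¬ p ∣ (Wr β γ).index := by
  have : Nonempty γ := Fintype.card_pos_iff.1 (h ▸ pow_pos hp.out.pos k)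
  refine nd_index ?_
  rw [card_Wr, Nat.card_eq_fintype_card, Fintype.card_perm, Fintype.card_prod, h, val_mul,
    padicValNat.mul (Nat.factorial_ne_zero _) (pow_ne_zero _ (Nat.factorial_ne_zero _)),
    padicValNat.pow]

theorem nd_index_Yg {a k : ℕ} (h : Fintype.card β = a * p ^ k) (h' : Fintype.card γ < p ^ k) :
    ¬ p ∣ (Yg β γ).index := by
  refine nd_index ?_
  rw [card_Yg, Nat.card_eq_fintype_card, Fintype.card_perm, Fintype.card_sum, h, val_add a k _ h',
    padicValNat.mul (Nat.factorial_ne_zero _) (Nat.factorial_ne_zero _)]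

/-- the translations in the blocks -/
def act (β γ : Type) [AddCommGroup γ] : Multiplicative (β → γ) →* Perm (β × γ) :=
  MonoidHom.mk' (fun f => prodShear (Equiv.refl β) fun i => Equiv.addLeft (f.toAdd i)) fun _ _ =>
    Equiv.ext fun _ => Prod.ext rfl (add_assoc _ _ _)

omit hp [DecidableEq γ] in
theorem pgroup_act [AddCommGroup γ] {k : ℕ} (h : Fintype.card γ = p ^ k) : IsPGroup p (Multiplicative (β → γ)) :=
  IsPGroup.of_card (n := k * Fintype.card β) (by
    rw [Nat.card_eq_fintype_card, Fintype.card_multiplicative, Fintype.card_fun, h, pow_mul])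

omit hp [Fintype β] [Fintype γ] [DecidableEq γ] in
theorem act_single [AddCommGroup γ] (i : β) (s t : γ) :
    act β γ (Multiplicative.ofAdd (Pi.single i (t - s))) (i, s) = (i, t) :=
  Prod.ext rfl (by simp [act])

omit hp [Fintype β] [Fintype γ] [DecidableEq γ] in
theorem act_single_ne [AddCommGroup γ] {i j : β} (h : j ≠ i) (s t : γ) :
    act β γ (Multiplicative.ofAdd (Pi.single i t)) (j, s) = (j, s) :=
  Prod.ext rfl (by simp [act, h])

theorem eq_one_of_fix {τ : Perm β} {m : ℕ} (h : τ ^ p ^ m = 1) {i : β} (hi : τ i = i) (hc : Fintype.card β ≤ p) :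
    τ = 1 := by
  have h1 := Perm.card_compl_support_modEq h
  rw [Nat.modEq_iff_dvd' (Finset.card_le_univ _), ← Finset.card_compl, compl_compl] at h1
  have h2 : τ.support.card < Fintype.card β :=
    Finset.card_lt_univ_of_notMem (Perm.notMem_support.2 hi)
  exact Perm.card_support_eq_zero.1 (Nat.eq_zero_of_dvd_of_lt h1 (by omega))

theorem exists_W [AddCommGroup γ] {k : ℕ} (h : Fintype.card γ = p ^ k) (h2 : 2 ≤ Fintype.card β)
    (h3 : Fintype.card β ≤ p) : ∃ Q : Sylow p (Perm (β × γ)),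
      normalizer ((Q : Subgroup (Perm (β × γ))) : Set (Perm (β × γ))) ≤ Wr β γ := by
  have := Fintype.one_lt_card_iff_nontrivial.1 h2
  obtain ⟨Q, k1, k2⟩ := exists_between (D := (act β γ).range) (H := Wr β γ)
    ((pgroup_act h).of_surjective _ (act β γ).rangeRestrict_surjective)
    (by rintro _ ⟨f, rfl⟩; exact fun _ _ => Iff.rfl) (nd_index_Wr h)
  have key : ∀ x y : β × γ, (∃ σ ∈ (Q : Subgroup (Perm (β × γ))), (∃ w, σ w = w) ∧ σ x = y) ↔ x.1 = y.1 := by
    rintro ⟨i, s⟩ ⟨j, t⟩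
    constructor
    · rintro ⟨σ, k3, ⟨w, k4⟩, k5⟩
      obtain ⟨τ, f, e⟩ := exists_shear (k2 k3)
      have k6 : ∀ n x, ((σ ^ n) x).1 = (τ ^ n) x.1 := fun n => by
        induction n with
        | zero => exact fun _ => rfl
        | succ n ih =>
          intro x
          rw [pow_succ, pow_succ, Perm.mul_apply, Perm.mul_apply, ih, e]
          rfl
      obtain ⟨m, hm⟩ := Q.isPGroup' ⟨σ, k3⟩
      have k7 : σ ^ p ^ m = 1 := congrArg Subtype.val hm
      have k8 : τ = 1 := eq_one_of_fix (m := m) (Equiv.ext fun i => by rw [← k6 _ (i, s), k7]; rfl) (i := w.1)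
        (by rw [← pow_one τ, ← k6, pow_one, k4]) h3
      have k9 := k6 1 (i, s)
      rw [pow_one, k5, k8, one_pow] at k9
      exact k9.symm
    · rintro (rfl : i = j)
      obtain ⟨j, hj⟩ := exists_ne i
      exact ⟨_, k1 ⟨_, rfl⟩, ⟨_, act_single_ne hj s _⟩, act_single i s t⟩
  have k3 : ∀ g ∈ normalizer ((Q : Subgroup (Perm (β × γ))) : Set (Perm (β × γ))), ∀ x y : β × γ, x.1 = y.1 →
      (g x).1 = (g y).1 := fun g hg x y e => by
    obtain ⟨σ, k3, ⟨w, k4⟩, k5⟩ := (key x y).2 e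
    exact (key _ _).1 ⟨g * σ * g⁻¹, (mem_normalizer_iff.1 hg σ).1 k3, ⟨g w, by simp only [k4, _root_.Equiv.Perm.coe_mul, _root_.Equiv.Perm.coe_inv, _root_.Function.comp_apply, _root_.Equiv.symm_apply_apply]⟩, by simp only [k5, _root_.Equiv.Perm.coe_mul, _root_.Equiv.Perm.coe_inv, _root_.Function.comp_apply, _root_.Equiv.symm_apply_apply]⟩
  exact ⟨Q, fun g hg x y => ⟨fun e => by simpa using k3 g⁻¹ (inv_mem hg) _ _ e, k3 g hg x y⟩⟩

theorem exists_Y {a k : ℕ} (h : Fintype.card β = a * p ^ k) (h' : Fintype.card γ < p ^ k) :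
    ∃ Q : Sylow p (Perm (β ⊕ γ)), normalizer ((Q : Subgroup (Perm (β ⊕ γ))) : Set (Perm (β ⊕ γ))) ≤ Yg β γ := by
  have : NeZero (p ^ k) := ⟨pow_ne_zero _ hp.out.ne_zero⟩
  let e : Fin a × Fin (p ^ k) ≃ β := Fintype.equivOfCardEq (by simp only [h, _root_.Fintype.card_prod, _root_.Fintype.card_fin])
  let f := ((Perm.sumCongrHom β γ).comp (MonoidHom.inl _ _)).comp
    ((permCongrHom e).toMonoidHom.comp (act (Fin a) (Fin (p ^ k))))
  obtain ⟨Q, k1, k2⟩ := exists_between (D := f.range) (H := Yg β γ)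
    ((pgroup_act (Fintype.card_fin _)).of_surjective _ f.rangeRestrict_surjective)
    (by rintro _ ⟨f, rfl⟩; exact ⟨_, rfl⟩) (nd_index_Yg h h')
  have key : ∀ x : β ⊕ γ, (∃ u : Fin (p ^ k) → β ⊕ γ, Function.Injective u ∧
      ∀ t, ∃ σ ∈ (Q : Subgroup (Perm (β ⊕ γ))), σ x = u t) ↔ x ∈ Set.range Sum.inl := by
    intro x
    constructor
    · rintro ⟨u, k3, k4⟩
      rcases x with x | x
      · exact ⟨x, rfl⟩
      · have k5 : ∀ t, ∃ y, u t = Sum.inr y := fun t => by
          obtain ⟨σ, k5, k6⟩ := k4 t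
          obtain ⟨⟨a, b⟩, rfl⟩ := k2 k5
          exact ⟨b x, k6.symm⟩
        choose v hv using k5
        have k6 := Fintype.card_le_of_injective v fun s t e => k3 (by rw [hv, hv, e])
        rw [Fintype.card_fin] at k6
        omega
    · rintro ⟨x, rfl⟩
      obtain ⟨⟨i, s⟩, rfl⟩ := e.surjective x
      refine ⟨fun t => Sum.inl (e (i, t)), fun s t k => congrArg Prod.snd (e.injective (Sum.inl_injective k)),
        fun t => ⟨f (Multiplicative.ofAdd (Pi.single i (t - s))), k1 ⟨_, rfl⟩, ?_⟩⟩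
      change Sum.inl (e (act _ _ _ (e.symm (e (i, s))))) = _
      rw [e.symm_apply_apply, act_single]
  refine ⟨Q, fun g hg => Perm.mem_sumCongrHom_range_of_perm_mapsTo_inl fun x hx => ?_⟩
  obtain ⟨u, k3, k4⟩ := (key x).2 hx
  refine (key _).1 ⟨fun t => g (u t), g.injective.comp k3, fun t => ?_⟩
  obtain ⟨σ, k5, k6⟩ := k4 t
  exact ⟨g * σ * g⁻¹, (mem_normalizer_iff.1 hg σ).1 k5, by simp only [k6, _root_.Equiv.Perm.coe_mul, _root_.Equiv.Perm.coe_inv, _root_.Function.comp_apply, _root_.Equiv.symm_apply_apply]⟩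

theorem sylW : SylW := fun p k a _ h1 h2 =>
  have : NeZero (p ^ k) := ⟨pow_ne_zero _ (Fact.out : p.Prime).ne_zero⟩
  exists_W (Fintype.card_fin _) (by rwa [Fintype.card_fin]) (by rwa [Fintype.card_fin])

theorem sylY : SylY := fun _ _ _ _ _ _ h => exists_Y (Fintype.card_fin _) (by rwa [Fintype.card_fin])

theorem le_alt (h2 : p ≠ 2) {Q : Subgroup (Perm α)} (hQ : IsPGroup p Q) : Q ≤ alternatingGroup α := fun σ hσ => by
  obtain ⟨m, hm⟩ := hQ ⟨σ, hσ⟩
  have h1 : Perm.sign σ ^ p ^ m = 1 := by rw [← map_pow, show σ ^ p ^ m = 1 from congrArg Subtype.val hm, map_one]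
  refine (Int.units_eq_one_or _).resolve_right fun e => ?_
  rw [e, ((hp.out.odd_of_ne_two h2).pow (n := m)).neg_one_pow] at h1
  exact absurd h1 (by decide)

/-- the normaliser of a Sylow subgroup contains an odd permutation -/
theorem exists_odd [Nontrivial α] (h2 : p ≠ 2) (Q : Sylow p (Perm α)) :
    ∃ g ∈ normalizer ((Q : Subgroup (Perm α)) : Set (Perm α)), Perm.sign g = -1 := by
  by_contra h
  have h1 : normalizer ((Q : Subgroup (Perm α)) : Set (Perm α)) ≤ alternatingGroup α := fun g hg =>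
    (Int.units_eq_one_or _).resolve_right fun e => h ⟨g, hg, e⟩
  have h3 := Q.normalizer_sup_eq_top' (le_alt h2 Q.isPGroup')
  rw [sup_eq_right.2 (by exact h1)] at h3
  have h4 := alternatingGroup.index_eq_two (α := α)
  rw [h3, index_top] at h4
  omega

omit hp in
theorem card_lt_alt [Nontrivial α] {H : Subgroup (Perm α)} (h : H ≠ ⊤) {g : Perm α} (hg : g ∈ H)
    (ho : Perm.sign g = -1) : Nat.card H < Nat.card (alternatingGroup α) := by
  have h1 : H.index ≠ 2 := fun e => by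
    rw [Perm.eq_alternatingGroup_of_index_eq_two e, Perm.mem_alternatingGroup, ho] at hg
    exact absurd hg (by decide)
  have h2 : H.index ≠ 1 := fun e => h (index_eq_one.1 e)
  have h3 : H.index ≠ 0 := index_ne_zero_of_finite
  have h4 := H.index_mul_card
  rw [← two_mul_nat_card_alternatingGroup] at h4
  have h5 : 0 < Nat.card H := Nat.card_pos
  have h6 : 3 * Nat.card H ≤ H.index * Nat.card H := Nat.mul_le_mul_right _ (by omega)
  omega

omit hp [Fintype β] [Fintype γ] in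
theorem Wr_ne_top [Nontrivial β] [Nontrivial γ] : Wr β γ ≠ ⊤ := fun e => by
  obtain ⟨i, j, hij⟩ := exists_pair_ne β
  obtain ⟨s, t, hst⟩ := exists_pair_ne γ
  have h1 := ((e ▸ mem_top _ : swap (i, s) (j, s) ∈ Wr β γ) (i, s) (i, t)).2 rfl
  rw [swap_apply_left, swap_apply_of_ne_of_ne (fun e => hst (congrArg Prod.snd e).symm)
    fun e => hij (congrArg Prod.fst e)] at h1
  exact hij h1.symm

omit hp [Fintype β] [Fintype γ] in
theorem Yg_ne_top [Nonempty β] [Nonempty γ] : Yg β γ ≠ ⊤ := fun e => by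
  obtain ⟨i⟩ := ‹Nonempty β›
  obtain ⟨s⟩ := ‹Nonempty γ›
  obtain ⟨⟨a, b⟩, h1⟩ := (e ▸ mem_top _ : swap (Sum.inl i) (Sum.inr s) ∈ Yg β γ)
  have h2 := Equiv.congr_fun h1 (Sum.inl i)
  rw [swap_apply_left] at h2
  exact Sum.inl_ne_inr h2

end Cfsg.Agent.MO.A.Syl
end

-- part: MO/A/RS/Cl
section
/-!
# MO, alternating groups, local side: the theorems of Clifford and Gallagher along homomorphisms (helper67)

* `Inr n h θ` : `h : D → G` embeds the inertia group of the character `θ` of `N`; `Inr.up`, `Inr.deg`, `Inr.eq_of`, `Inr.uniq`;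
* `exists_conj` : two constituents on a normal subgroup are conjugate;
* `Gal n π Θ θ` : `Θ` extends `θ`, `π` is the quotient map; `Gal.mul`, `Gal.ov`, `Gal.all`, `Gal.inj`, `Gal.lin`.
-/

set_option autoImplicit false

namespace Cfsg.Agent.MO.A.RS

open Cfsg Subgroup Cfsg.Agent.Characters.Core Cfsg.Agent.H672 Cfsg.Agent.OddOrderCharacters

variable {G D N Q : Type} [Group G] [Group D] [Group N] [Group Q] [Finite G] [Finite D] [Finite N]

/-- a function on the range of an injective homomorphism -/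
noncomputable def rg {h : D →* G} (hi : Function.Injective h) (ψ : D → ℂ) : h.range → ℂ :=
  fun x => ψ ((MonoidHom.ofInjective hi).symm x)

omit [Finite G] [Finite D] in
theorem rg_apply {h : D →* G} (hi : Function.Injective h) (ψ : D → ℂ) (x : D) (y : h.range) (e : (y : G) = h x) :
    rg hi ψ y = ψ x := by
  rw [show y = MonoidHom.ofInjective hi x from Subtype.ext e, rg, MulEquiv.symm_apply_apply]

omit [Finite G] [Finite D] in
theorem rg_irr {h : D →* G} (hi : Function.Injective h) {ψ : D → ℂ} (hψ : IsIrrCharacter D ψ) :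
    IsIrrCharacter h.range (rg hi ψ) :=
  ODD.Red.isIrr_comp' (MonoidHom.ofInjective hi).symm.toMonoidHom (MonoidHom.ofInjective hi).symm.surjective hψ

theorem over_rg {h : D →* G} (hi : Function.Injective h) (χ : G → ℂ) (ψ : D → ℂ) :
    Over h.range.subtype χ (rg hi ψ) ↔ Over h χ ψ := by
  rw [← over_comp_equiv h.range.subtype (MonoidHom.ofInjective hi)]
  have e2 : rg hi ψ ∘ MonoidHom.ofInjective hi = ψ := funext fun x => rg_apply hi ψ x _ rfl
  rw [e2]
  rfl

/-- two constituents are conjugate -/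
theorem exists_conj {n : N →* G} (hi : Function.Injective n) (hn : n.range.Normal) {χ : G → ℂ}
    (hχ : IsIrrCharacter G χ) {θ θ' : N → ℂ} (hθ : IsIrrCharacter N θ) (hθ' : IsIrrCharacter N θ') (h : Over n χ θ)
    (h' : Over n χ θ') : ∃ g : G, ∀ x y, n y = g * n x * g⁻¹ → θ' x = θ y := by
  have := Fintype.ofFinite G
  have := Fintype.ofFinite n.range
  obtain ⟨g, hg⟩ := Characters.Clifford.exists_conj_of_constituents n.range hχ (rg_irr hi hθ) (rg_irr hi hθ')
    ((over_subtype_iff _ _ _).1 ((over_rg hi χ θ).2 h)) ((over_subtype_iff _ _ _).1 ((over_rg hi χ θ').2 h'))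
  refine ⟨g, fun x y e => ?_⟩
  rw [← rg_apply hi θ' x ⟨_, x, rfl⟩ rfl, hg]
  exact rg_apply hi θ y _ e.symm

/-- `D` is the inertia group of `θ` -/
structure Inr (n : N →* D) (h : D →* G) (θ : N → ℂ) : Prop where
  inj : Function.Injective h
  injn : Function.Injective n
  nrm : (h.comp n).range.Normal
  irr : IsIrrCharacter N θ
  stab : ∀ g, g ∈ h.range ↔ ∀ x y, h (n y) = g * h (n x) * g⁻¹ → θ y = θ x

namespace Inr

variable {n : N →* D} {h : D →* G} {θ : N → ℂ} (I : Inr n h θ)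

include I

omit [Finite G] [Finite D] [Finite N] in
theorem inj2 : Function.Injective (h.comp n) := I.inj.comp I.injn

omit I [Finite G] [Finite D] [Finite N] in
theorem le : (h.comp n).range ≤ h.range := fun _ ⟨x, e⟩ => ⟨n x, e⟩

omit [Finite G] [Finite D] [Finite N] in
theorem mem (g : G) : g ∈ h.range ↔ haveI := I.nrm; NormalInduced.conjFn _ (rg I.inj2 θ) g = rg I.inj2 θ := by
  have := I.nrm
  rw [I.stab, funext_iff]
  refine ⟨fun h1 z => ?_, fun h1 x y e => ?_⟩
  · obtain ⟨x, hx⟩ := z.2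
    obtain ⟨y, hy⟩ := I.nrm.conj_mem _ z.2 g
    rw [NormalInduced.conjFn_apply, rg_apply I.inj2 θ x z hx.symm, rg_apply I.inj2 θ y _ hy.symm]
    exact h1 x y (hy.trans (by rw [← hx]; rfl))
  · have h2 := h1 ⟨_, x, rfl⟩
    rwa [NormalInduced.conjFn_apply, rg_apply I.inj2 θ x ⟨_, x, rfl⟩ rfl, rg_apply I.inj2 θ y _ e.symm] at h2

omit [Finite D] in
theorem res [Fintype (h.comp n).range] {ψ : D → ℂ} (ho : Over n ψ θ) :
    classInner (PF9.CliffGen.resTo le (rg I.inj ψ)) (rg I.inj2 θ) ≠ 0 := by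
  rw [← RM.over_resTo, ← over_comp_equiv _ (MonoidHom.ofInjective I.inj2)]
  have := Fintype.ofFinite N
  rw [over_iff] at ho ⊢
  convert ho using 2
  · exact funext fun x => rg_apply I.inj ψ (n x) _ rfl
  · exact funext fun x => rg_apply I.inj2 θ x _ rfl

theorem eq_ind [Fintype G] {ψ : D → ℂ} (hψ : IsIrrCharacter D ψ) (ho : Over n ψ θ) {χ : G → ℂ}
    (hχ : IsIrrCharacter G χ) (h1 : Over h χ ψ) : χ = indFun h.range (rg I.inj ψ) := by
  have := I.nrm
  have := Fintype.ofFinite (h.comp n).range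
  have := Fintype.ofFinite h.range
  have h2 := PF9.CliffGen.irr_ind (rg_irr I.inj2 I.irr) I.mem le (rg_irr I.inj hψ) (I.res ho)
  by_contra hne
  have h3 := classInner_irr_ne hχ h2 hne
  rw [IndRes.classInner_indFun_right _ _ (isIrr_isClassFunction hχ)] at h3
  exact (RM.over_res _ _).1 ((over_rg I.inj χ ψ).2 h1) h3

omit [Finite N] in
theorem up {ψ : D → ℂ} (hψ : IsIrrCharacter D ψ) : ∃ χ, IsIrrCharacter G χ ∧ Over h χ ψ := by
  obtain ⟨χ, h1, h2⟩ := exists_over_subtype h.range (rg_irr I.inj hψ)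
  exact ⟨χ, h1, (over_rg I.inj χ ψ).1 h2⟩

theorem deg {ψ : D → ℂ} (hψ : IsIrrCharacter D ψ) (ho : Over n ψ θ) {χ : G → ℂ} (hχ : IsIrrCharacter G χ)
    (h1 : Over h χ ψ) : charDegree χ = h.range.index * charDegree ψ := by
  have := Fintype.ofFinite G
  rw [charDegree_indFun _ (rg_irr I.inj hψ) (I.eq_ind hψ ho hχ h1).symm,
    ODD.Red.charDegree_congr (rg_apply I.inj ψ 1 1 (map_one h).symm)]

theorem eq_of {ψ : D → ℂ} (hψ : IsIrrCharacter D ψ) (ho : Over n ψ θ) {χ χ' : G → ℂ} (hχ : IsIrrCharacter G χ)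
    (hχ' : IsIrrCharacter G χ') (h1 : Over h χ ψ) (h1' : Over h χ' ψ) : χ = χ' := by
  have := Fintype.ofFinite G
  rw [I.eq_ind hψ ho hχ h1, I.eq_ind hψ ho hχ' h1']

theorem uniq {ψ ψ' : D → ℂ} (hψ : IsIrrCharacter D ψ) (hψ' : IsIrrCharacter D ψ') (ho : Over n ψ θ)
    (ho' : Over n ψ' θ) {χ : G → ℂ} (hχ : IsIrrCharacter G χ) (h1 : Over h χ ψ) (h1' : Over h χ ψ') : ψ = ψ' := by
  have := Fintype.ofFinite G
  have := I.nrm
  have := Fintype.ofFinite (h.comp n).range
  have := Fintype.ofFinite h.range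
  have h2 := PF9.CliffGen.ind_inj (rg_irr I.inj2 I.irr) I.mem le (rg_irr I.inj hψ) (rg_irr I.inj hψ') (I.res ho)
    (I.res ho') ((I.eq_ind hψ ho hχ h1).symm.trans (I.eq_ind hψ' ho' hχ h1'))
  funext x
  rw [← rg_apply I.inj ψ x ⟨_, x, rfl⟩ rfl, h2, rg_apply I.inj ψ' x _ rfl]

end Inr

/-- `Θ` extends `θ`, and `π` is the quotient map -/
structure Gal (n : N →* D) (π : D →* Q) (Θ : D → ℂ) (θ : N → ℂ) : Prop where
  injn : Function.Injective n
  surj : Function.Surjective π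
  ker : π.ker = n.range
  chr : IsCharacter D Θ
  irr : IsIrrCharacter N θ
  ext : ∀ x, Θ (n x) = θ x

namespace Gal

variable {n : N →* D} {π : D →* Q} {Θ : D → ℂ} {θ : N → ℂ} (g : Gal n π Θ θ)

include g

omit [Finite D] in
theorem irr' : IsIrrCharacter D Θ := MK.E.isIrr_of_comp n g.chr (funext g.ext ▸ g.irr)

omit [Finite D] [Finite N] in
theorem pn (x : N) : π (n x) = 1 := g.ker.ge ⟨x, rfl⟩

omit [Finite D] [Finite N] in
theorem irrK : IsIrrCharacter π.ker fun k : π.ker => Θ k := by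
  have h1 := ODD.Red.isIrr_comp' (MulEquiv.subgroupCongr g.ker).toMonoidHom (MulEquiv.subgroupCongr g.ker).surjective
    (rg_irr g.injn g.irr)
  convert h1 using 2 with k
  obtain ⟨x, hx⟩ := g.ker.le k.2
  rw [← hx, g.ext]
  exact (rg_apply g.injn θ x _ hx.symm).symm

theorem mul {β : Q → ℂ} (hβ : IsIrrCharacter Q β) : IsIrrCharacter D fun x => Θ x * β (π x) := by
  have := Fintype.ofFinite D
  have := Fintype.ofFinite π.ker
  have key := S0856.result π.ker (fun _ => 1) (fun k : π.ker => Θ k) isIrr_one g.irrK (fun _ _ => rfl)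
    (fun x k => isIrr_isClassFunction g.irr' k x) (by convert g.irrK using 2; simp) Θ g.irr' fun _ => rfl
  have h1 := ODD.Red.isIrr_comp' π g.surj hβ
  have h2 := (key.mapsTo (x := fun x => β (π x)) ⟨h1, by
    rw [CharactersDeep.NormalInd.classInner_indFun _ _ _ (isIrr_isClassFunction h1),
      show (fun k : π.ker => β (π k)) = β 1 • fun _ : π.ker => (1 : ℂ) from funext fun k => by
        rw [show π k = 1 from k.2, Pi.smul_apply, smul_eq_mul, mul_one], classInner_smul_right]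
    exact mul_ne_zero ((map_ne_zero _).2 (isIrr_apply_one_ne_zero hβ))
      ((classInner_irr_self isIrr_one).trans_ne one_ne_zero)⟩).1
  convert h2 using 2
  exact mul_comm _ _

omit [Finite D] in
theorem ov {β : Q → ℂ} (hβ : IsIrrCharacter Q β) : Over n (fun x => Θ x * β (π x)) θ := by
  have := Fintype.ofFinite N
  rw [over_iff, show (fun x => Θ x * β (π x)) ∘ n = β 1 • θ from funext fun x => by
    rw [Function.comp_apply, g.pn, g.ext, mul_comm]; rfl, classInner_smul_left, classInner_irr_self g.irr, mul_one]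
  exact isIrr_apply_one_ne_zero hβ

theorem all {ψ : D → ℂ} (hψ : IsIrrCharacter D ψ) (ho : Over n ψ θ) :
    ∃ β, IsIrrCharacter Q β ∧ ∀ x, ψ x = Θ x * β (π x) := by
  have := Fintype.ofFinite D
  have := Fintype.ofFinite π.ker
  have := Fintype.ofFinite N
  obtain ⟨η, h1, h2, h3⟩ := CharactersDeep.CosetAverage.exists_irr_mul π.ker Θ g.irr' g.irrK ψ hψ (by
    rw [← Characters.Clifford.classInner_comp_mulEquiv
      ((MonoidHom.ofInjective g.injn).trans (MulEquiv.subgroupCongr g.ker.symm))]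
    rw [over_iff] at ho
    convert ho using 2
    · rfl
    · exact funext g.ext)
  obtain ⟨β, h4, h5⟩ := ODD.Red.exists_quot π g.surj h1 fun z hz => by simpa using h2 ⟨z, hz⟩ 1
  exact ⟨β, h4, fun x => by rw [h5, h3]; rfl⟩

theorem inj {β β' : Q → ℂ} (h : ∀ x, Θ x * β (π x) = Θ x * β' (π x)) : β = β' := by
  funext y
  obtain ⟨x, rfl⟩ := g.surj y
  exact ODD.Red.gall_inj π.ker g.irr' g.irrK (η := fun x => β (π x)) (η' := fun x => β' (π x))
    (fun k x => by rw [map_mul, show π k = 1 from k.2, one_mul])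
    (fun k x => by rw [map_mul, show π k = 1 from k.2, one_mul]) h x

theorem lin {Θ' : D → ℂ} (g' : Gal n π Θ' θ) : ∃ l : D →* ℂˣ, (∀ x, π x = 1 → l x = 1) ∧ ∀ x, Θ' x = l x * Θ x :=
  ODD.Red.exists_lin π.ker g.irr' g.irrK g'.irr' fun k => by
    obtain ⟨x, hx⟩ := g.ker.le k.2
    rw [← hx, g.ext, g'.ext]

end Gal

end Cfsg.Agent.MO.A.RS
end

-- part: MO/A/Glob/Ab
section
/-!
# MO, alternating groups: the abacus (helper41)

Finite sets of natural numbers as sets of beads.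

* `sz X` : the size of the partition; `run q i X`, `join q f` : the runners; `wt q X` : the weight; `core q X`;
* `sz_eq : sz X = q * wt q X + sz (core q X)`, `wt_of_dvd`;
* `refl N X` : the conjugate partition;
* `card_conv`, `card_cp` : counts of tuples.
-/

set_option autoImplicit false

namespace Cfsg.Agent.MO.A.Glob

open Finset

/-! ### sizes -/

/-- the number of pairs (bead, empty place below it) -/
def sz (X : Finset ℕ) : ℕ := ∑ x ∈ X, #{y ∈ range x | y ∉ X}

/-- `0 + 1 + ⋯ + (m - 1)` -/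
def tri (m : ℕ) : ℕ := ∑ i ∈ range m, i

theorem tri_mul (m : ℕ) : tri m * 2 = m * (m - 1) := sum_range_id_mul_two m

theorem tri_add (m : ℕ) : 2 * tri m + m = m * m := by
  have h := tri_mul m
  rcases m with _ | m
  · rfl
  · rw [Nat.add_sub_cancel] at h
    linarith only [h]

theorem sum_below (X : Finset ℕ) : ∑ x ∈ X, #{y ∈ range x | y ∈ X} = tri #X := by
  induction X using Finset.induction_on_max with
  | empty => rfl
  | insert a s h ih =>
    have ha : a ∉ s := fun h1 => lt_irrefl _ (h a h1)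
    rw [sum_insert ha, card_insert_of_notMem ha, tri, sum_range_succ, ← tri, ← ih, add_comm]
    congr 1
    · refine sum_congr rfl fun x hx => congrArg card (filter_congr fun y hy => ?_)
      have h1 := h x hx
      have h2 := mem_range.1 hy
      rw [mem_insert]
      exact ⟨fun h3 => h3.resolve_left (by omega), Or.inr⟩
    · congr 1
      ext y
      rw [mem_filter, mem_range, mem_insert]
      exact ⟨fun h1 => h1.2.resolve_left h1.1.ne, fun h1 => ⟨h y h1, Or.inr h1⟩⟩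

theorem below_add (X : Finset ℕ) (x : ℕ) : #{y ∈ range x | y ∈ X} + #{y ∈ range x | y ∉ X} = x := by
  rw [card_filter_add_card_filter_not, card_range]

theorem sum_eq (X : Finset ℕ) : ∑ x ∈ X, x = sz X + tri #X := by
  rw [← sum_below, sz, ← sum_add_distrib]
  exact sum_congr rfl fun x _ => by rw [add_comm, below_add]

theorem sz_range (m : ℕ) : sz (range m) = 0 := by
  have h := sum_eq (range m)
  rw [card_range, tri] at h
  omega

theorem lt_of_mem {X : Finset ℕ} {x : ℕ} (h : x ∈ X) : x < #X + sz X := by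
  have h1 := below_add X x
  have h2 : #{y ∈ range x | y ∉ X} ≤ sz X :=
    single_le_sum (f := fun x => #{y ∈ range x | y ∉ X}) (fun _ _ => Nat.zero_le _) h
  have h3 : #{y ∈ range x | y ∈ X} < #X :=
    card_lt_card ⟨fun y hy => (mem_filter.1 hy).2, fun h4 => lt_irrefl _ (mem_range.1 (mem_filter.1 (h4 h)).1)⟩
  omega

theorem mem_of_lt {X : Finset ℕ} {y : ℕ} (h : y + sz X < #X) : y ∈ X := by
  by_contra hy
  have h1 : #{x ∈ X | y < x} ≤ sz X := by
    rw [card_filter]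
    refine sum_le_sum fun x _ => ?_
    split_ifs with h2
    · exact card_pos.2 ⟨y, mem_filter.2 ⟨mem_range.2 h2, hy⟩⟩
    · exact Nat.zero_le _
  have h2 : #{x ∈ X | ¬ y < x} ≤ #(range y) := card_le_card fun x hx => by
    have h3 := mem_filter.1 hx
    have h4 : x ≠ y := fun e => hy (e ▸ h3.1)
    exact mem_range.2 (by omega)
  have h3 := card_filter_add_card_filter_not (s := X) (fun x => y < x)
  rw [card_range] at h2
  omega

theorem eq_range {X : Finset ℕ} (h : sz X = 0) : X = range #X := by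
  ext x
  rw [mem_range]
  exact ⟨fun h1 => by have := lt_of_mem h1; omega, fun h1 => mem_of_lt (by omega)⟩

/-! ### runners -/

/-- the beads on the runner `i` -/
def run (q i : ℕ) (X : Finset ℕ) : Finset ℕ := {x ∈ X | x % q = i}.image (· / q)

/-- the set with the given runners -/
def join (q : ℕ) (f : ℕ → Finset ℕ) : Finset ℕ := (range q).biUnion fun i => (f i).image (q * · + i)

/-- the weight -/
def wt (q : ℕ) (X : Finset ℕ) : ℕ := ∑ i ∈ range q, sz (run q i X)

/-- the core -/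
def core (q : ℕ) (X : Finset ℕ) : Finset ℕ := join q fun i => range #(run q i X)

/-- the same numbers of beads on the runners -/
def Col (q : ℕ) (X Y : Finset ℕ) : Prop := ∀ i < q, #(run q i X) = #(run q i Y)

variable {q : ℕ}

theorem mem_run {i y : ℕ} {X : Finset ℕ} (hi : i < q) : y ∈ run q i X ↔ q * y + i ∈ X := by
  rw [run, mem_image]
  refine ⟨?_, fun h => ⟨_, mem_filter.2 ⟨h, by rw [Nat.mul_add_mod, Nat.mod_eq_of_lt hi]⟩, ?_⟩⟩
  · rintro ⟨x, hx, rfl⟩
    rw [← (mem_filter.1 hx).2, Nat.div_add_mod]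
    exact (mem_filter.1 hx).1
  · rw [Nat.mul_add_div (by omega), Nat.div_eq_of_lt hi, add_zero]

theorem mem_join (hq : 0 < q) {x : ℕ} {f : ℕ → Finset ℕ} : x ∈ join q f ↔ x / q ∈ f (x % q) := by
  rw [join, mem_biUnion]
  refine ⟨?_, fun h => ⟨_, mem_range.2 (Nat.mod_lt x hq), mem_image.2 ⟨_, h, Nat.div_add_mod x q⟩⟩⟩
  rintro ⟨i, hi, hx⟩
  obtain ⟨y, hy, rfl⟩ := mem_image.1 hx
  rwa [Nat.mul_add_mod, Nat.mod_eq_of_lt (mem_range.1 hi), Nat.mul_add_div hq, Nat.div_eq_of_lt (mem_range.1 hi), add_zero]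

theorem run_join {i : ℕ} (hi : i < q) (f : ℕ → Finset ℕ) : run q i (join q f) = f i := by
  ext y
  rw [mem_run hi, mem_join (by omega), Nat.mul_add_mod, Nat.mod_eq_of_lt hi, Nat.mul_add_div (by omega),
    Nat.div_eq_of_lt hi, add_zero]

theorem run_ext (hq : 0 < q) {X Y : Finset ℕ} (h : ∀ i < q, run q i X = run q i Y) : X = Y := by
  ext x
  rw [← Nat.div_add_mod x q, ← mem_run (Nat.mod_lt x hq), ← mem_run (Nat.mod_lt x hq), h _ (Nat.mod_lt x hq)]

theorem sum_run_one (i : ℕ) (X : Finset ℕ) (g : ℕ → ℕ) : ∑ y ∈ run q i X, g y = ∑ x ∈ X with x % q = i, g (x / q) :=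
  sum_image fun x hx y hy h => by
    rw [← Nat.div_add_mod x q, ← Nat.div_add_mod y q, (mem_filter.1 hx).2, (mem_filter.1 hy).2, show x / q = y / q from h]

theorem card_run (i : ℕ) (X : Finset ℕ) : #(run q i X) = #{x ∈ X | x % q = i} := by
  rw [card_eq_sum_ones, sum_run_one, card_eq_sum_ones]

theorem sum_run (hq : 0 < q) (X : Finset ℕ) (g : ℕ → ℕ → ℕ) :
    ∑ x ∈ X, g (x / q) (x % q) = ∑ i ∈ range q, ∑ y ∈ run q i X, g y i := by
  rw [← sum_fiberwise_of_maps_to (g := (· % q)) (t := range q) fun x _ => mem_range.2 (Nat.mod_lt x hq)]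
  refine sum_congr rfl fun i _ => ?_
  rw [sum_run_one]
  exact sum_congr rfl fun x hx => by rw [(mem_filter.1 hx).2]

theorem sum_mod (hq : 0 < q) (X : Finset ℕ) (g : ℕ → ℕ) : ∑ x ∈ X, g (x % q) = ∑ i ∈ range q, #(run q i X) * g i := by
  rw [sum_run hq X fun _ i => g i]
  exact sum_congr rfl fun i _ => by rw [sum_const, smul_eq_mul]

theorem sum_div (hq : 0 < q) (X : Finset ℕ) : ∑ x ∈ X, x / q = wt q X + ∑ i ∈ range q, tri #(run q i X) := by
  rw [sum_run hq X fun y _ => y, wt, ← sum_add_distrib]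
  exact sum_congr rfl fun i _ => sum_eq _

theorem Col.symm {X Y : Finset ℕ} (h : Col q X Y) : Col q Y X := fun i hi => (h i hi).symm

theorem Col.trans {X Y Z : Finset ℕ} (h : Col q X Y) (h' : Col q Y Z) : Col q X Z := fun i hi => (h i hi).trans (h' i hi)

theorem Col.sum_mod (hq : 0 < q) {X Y : Finset ℕ} (h : Col q X Y) (g : ℕ → ℕ) :
    ∑ x ∈ X, g (x % q) = ∑ x ∈ Y, g (x % q) := by
  rw [Glob.sum_mod hq, Glob.sum_mod hq]
  exact sum_congr rfl fun i hi => by rw [h i (mem_range.1 hi)]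

theorem Col.card (hq : 0 < q) {X Y : Finset ℕ} (h : Col q X Y) : #X = #Y := by
  rw [card_eq_sum_ones, card_eq_sum_ones]
  exact h.sum_mod hq fun _ => 1

theorem Col.of_dvd {e : ℕ} (he : 0 < e) (hq : q ∣ e) {X Y : Finset ℕ} (h : Col e X Y) : Col q X Y := fun i _ => by
  have h1 := h.sum_mod he fun x => if x % q = i then 1 else 0
  simp only [Nat.mod_mod_of_dvd _ hq] at h1
  rw [card_run, card_run, card_filter, card_filter, h1]

/-- the size of the core only depends on the numbers of beads on the runners -/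
theorem Col.sz (hq : 0 < q) {X Y : Finset ℕ} (h : Col q X Y) : sz X + q * wt q Y = sz Y + q * wt q X := by
  have k : ∀ Z : Finset ℕ, Glob.sz Z + tri #Z =
      q * (wt q Z + ∑ i ∈ range q, tri #(run q i Z)) + ∑ x ∈ Z, x % q := fun Z => by
    rw [← sum_eq, ← sum_div hq, mul_sum, ← sum_add_distrib]
    exact sum_congr rfl fun x _ => (Nat.div_add_mod x q).symm
  have h1 := k X
  have h2 := k Y
  rw [h.card hq, h.sum_mod hq fun x => x, sum_congr rfl fun i hi => by rw [h i (mem_range.1 hi)]] at h1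
  rw [mul_add] at h1 h2
  omega

theorem run_core {i : ℕ} (hi : i < q) (X : Finset ℕ) : run q i (core q X) = range #(run q i X) := run_join hi _

theorem col_core (X : Finset ℕ) : Col q (core q X) X := fun i hi => by rw [run_core hi, card_range]

theorem wt_core (X : Finset ℕ) : wt q (core q X) = 0 :=
  sum_eq_zero fun i hi => by rw [run_core (mem_range.1 hi), sz_range]

theorem sz_eq (hq : 0 < q) (X : Finset ℕ) : sz X = q * wt q X + sz (core q X) := by
  have h := (col_core (q := q) X).sz hq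
  rw [wt_core] at h
  omega

theorem wt_le (hq : 0 < q) (X : Finset ℕ) : wt q X ≤ sz X / q := by
  rw [Nat.le_div_iff_mul_le hq, sz_eq hq X, mul_comm]
  exact Nat.le_add_right _ _

theorem core_eq_iff (hq : 0 < q) {X T : Finset ℕ} (hT : wt q T = 0) : core q X = T ↔ Col q X T := by
  refine ⟨fun h => h ▸ (col_core X).symm, fun h => run_ext hq fun i hi => ?_⟩
  rw [run_core hi, h i hi, ← eq_range (sum_eq_zero_iff.1 hT i (mem_range.2 hi))]

/-! ### reflection -/

/-- the reflected complement in `range N` -/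
def refl (N : ℕ) (X : Finset ℕ) : Finset ℕ := {b ∈ range N | N - 1 - b ∉ X}

theorem mem_refl {N b : ℕ} {X : Finset ℕ} : b ∈ refl N X ↔ b < N ∧ N - 1 - b ∉ X := by rw [refl, mem_filter, mem_range]

theorem refl_sub (N : ℕ) (X : Finset ℕ) : refl N X ⊆ range N := filter_subset _ _

theorem refl_refl {N : ℕ} {X : Finset ℕ} (h : X ⊆ range N) : refl N (refl N X) = X := by
  ext b
  rw [mem_refl, mem_refl]
  refine ⟨fun h1 => by_contra fun h2 => h1.2 ⟨by omega, ?_⟩, fun h1 => ⟨mem_range.1 (h h1), fun h2 => h2.2 ?_⟩⟩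
  · rwa [show N - 1 - (N - 1 - b) = b by omega]
  · have := mem_range.1 (h h1)
    rwa [show N - 1 - (N - 1 - b) = b by omega]

theorem sum_refl {N : ℕ} {X : Finset ℕ} (h : X ⊆ range N) (g : ℕ → ℕ) :
    ∑ b ∈ refl N X, g b + ∑ x ∈ X, g (N - 1 - x) = ∑ b ∈ range N, g b := by
  rw [← sum_filter_not_add_sum_filter (range N) (fun b => N - 1 - b ∈ X), refl]
  congr 1
  refine sum_bij' (fun x _ => N - 1 - x) (fun x _ => N - 1 - x) (fun x hx => ?_) (fun x hx => (mem_filter.1 hx).2)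
    (fun x hx => ?_) (fun x hx => ?_) fun _ _ => rfl
  · have := mem_range.1 (h hx)
    exact mem_filter.2 ⟨mem_range.2 (by omega), by rwa [show N - 1 - (N - 1 - x) = x by omega]⟩
  · have := mem_range.1 (h hx)
    omega
  · have := mem_range.1 (mem_filter.1 hx).1
    omega

theorem card_refl {N : ℕ} {X : Finset ℕ} (h : X ⊆ range N) : #(refl N X) + #X = N := by
  have h1 := sum_refl h fun _ => 1
  rwa [← card_eq_sum_ones, ← card_eq_sum_ones, ← card_eq_sum_ones, card_range] at h1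

theorem sz_refl {N : ℕ} {X : Finset ℕ} (h : X ⊆ range N) : sz (refl N X) = sz X := by
  have h1 := sum_refl h fun b => b
  have h2 : ∑ x ∈ X, (N - 1 - x) + ∑ x ∈ X, x + #X = #X * N := by
    rw [card_eq_sum_ones, ← sum_add_distrib, ← sum_add_distrib, sum_mul]
    exact sum_congr rfl fun x hx => by have := mem_range.1 (h hx); omega
  have h3 := card_refl h
  rw [sum_eq, ← tri] at h1
  rw [sum_eq] at h2
  have h4 := tri_add N
  have h5 := tri_add #X
  have h6 := tri_add #(refl N X)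
  generalize #(refl N X) = a at *
  generalize #X = b at *
  subst h3
  linarith only [h6, h5, h4, h1, h2]

theorem refl_range {N m : ℕ} (h : m ≤ N) : refl N (range m) = range (N - m) := by
  ext b
  rw [mem_refl, mem_range, mem_range]
  omega

theorem run_refl {M i : ℕ} (hi : i < q) (X : Finset ℕ) : run q (q - 1 - i) (refl (q * M) X) = refl M (run q i X) := by
  ext y
  rw [mem_run (by omega), mem_refl, mem_refl, mem_run hi]
  have h1 : q * y + (q - 1 - i) < q * M ↔ y < M := by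
    refine ⟨fun h => Nat.lt_of_mul_lt_mul_left (a := q) (by omega), fun h => ?_⟩
    have := Nat.mul_le_mul_left q (Nat.succ_le_of_lt h)
    rw [Nat.mul_succ] at this
    omega
  rw [h1]
  refine and_congr_right fun h => ?_
  obtain ⟨c, rfl⟩ := Nat.exists_eq_add_of_lt h
  rw [show y + c + 1 - 1 - y = c by omega, show q * (y + c + 1) - 1 - (q * y + (q - 1 - i)) = q * c + i by
    rw [mul_add, mul_add, mul_one]; omega]

theorem refl_iff (hq : 0 < q) {M : ℕ} {X : Finset ℕ} :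
    refl (q * M) X = X ↔ ∀ i < q, run q (q - 1 - i) X = refl M (run q i X) := by
  refine ⟨fun h i hi => by rw [← run_refl hi, h], fun h => run_ext hq fun i hi => ?_⟩
  have h1 := h (q - 1 - i) (by omega)
  rw [← run_refl (by omega), show q - 1 - (q - 1 - i) = i by omega] at h1
  exact h1.symm

theorem refl_core (hq : 0 < q) {M : ℕ} {X : Finset ℕ} (h : refl (q * M) X = X) :
    refl (q * M) (core q X) = core q X := by
  rw [refl_iff hq] at h ⊢
  intro i hi
  have h1 : run q i X ⊆ range M := by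
    have h2 := h (q - 1 - i) (by omega)
    rw [show q - 1 - (q - 1 - i) = i by omega] at h2
    rw [h2]
    exact refl_sub _ _
  have h2 := card_refl h1
  rw [run_core hi, run_core (by omega), refl_range (by omega), h i hi]
  congr 1
  omega

/-! ### counts -/

theorem card_fib {A B : Type} [Finite B] (f : A → B) (c : ℕ) (hf : ∀ b, Finite {a // f a = b})
    (h : ∀ b, Nat.card {a // f a = b} = c) : Nat.card A = c * Nat.card B := by
  have := Fintype.ofFinite B
  rw [← Nat.card_congr (Equiv.sigmaFiberEquiv f), Nat.card_sigma, sum_congr rfl fun b _ => h b, sum_const, card_univ,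
    smul_eq_mul, Nat.card_eq_fintype_card, mul_comm]

/-- convolution -/
theorem card_conv {A B C : Type} (s : A → ℕ) (t : B → ℕ) (S : Finset (ℕ × ℕ)) (f : C → A × B)
    (hf : Function.Injective f) (hr : ∀ x, x ∈ Set.range f ↔ (s x.1, t x.2) ∈ S)
    (hA : ∀ x ∈ S, Finite {a // s a = x.1}) (hB : ∀ x ∈ S, Finite {b // t b = x.2}) :
    Finite C ∧ Nat.card C = ∑ x ∈ S, Nat.card {a // s a = x.1} * Nat.card {b // t b = x.2} := by
  have h1 : ∀ x : S, Finite ({a // s a = x.1.1} × {b // t b = x.1.2}) := fun x =>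
    have := hA x.1 x.2
    have := hB x.1 x.2
    inferInstance
  let e : C ≃ Σ x : S, {a // s a = x.1.1} × {b // t b = x.1.2} := (Equiv.ofInjective f hf).trans
    { toFun := fun x => ⟨⟨_, (hr x.1).1 x.2⟩, ⟨x.1.1, rfl⟩, ⟨x.1.2, rfl⟩⟩
      invFun := fun y => ⟨(y.2.1.1, y.2.2.1), (hr _).2 (by rw [y.2.1.2, y.2.2.2]; exact y.1.2)⟩
      left_inv := fun _ => rfl
      right_inv := by
        rintro ⟨⟨⟨i, j⟩, h⟩, ⟨a, ha⟩, ⟨b, hb⟩⟩
        dsimp only at ha hb
        subst ha hb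
        rfl }
  refine ⟨Finite.of_equiv _ e.symm, ?_⟩
  rw [Nat.card_congr e, Nat.card_sigma, ← sum_coe_sort S]
  exact sum_congr rfl fun x _ => Nat.card_prod _ _

/-- tuples of total weight `a` -/
theorem card_cp (f : ℕ → ℕ) (n : ℕ) : ∀ (e : ℕ) (T : Fin e → Type) (s : ∀ i, T i → ℕ),
    (∀ i, ∀ j ≤ n, Finite {t // s i t = j} ∧ Nat.card {t // s i t = j} = f j) → ∀ a ≤ n,
    Finite {g : ∀ i, T i // ∑ i, s i (g i) = a} ∧ Nat.card {g : ∀ i, T i // ∑ i, s i (g i) = a} = cp f e a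
  | 0, T, s, _, a, _ => by
    refine ⟨inferInstance, ?_⟩
    rw [cp]
    split_ifs with h
    · exact Nat.card_eq_one_iff_unique.2 ⟨inferInstance, ⟨⟨fun i => i.elim0, h.symm⟩⟩⟩
    · exact Nat.card_eq_zero.2 (Or.inl ⟨fun g => h g.2.symm⟩)
  | e + 1, T, s, h, a, ha => by
    have ih := card_cp f n e (fun i => T i.succ) (fun i => s i.succ) fun i => h i.succ
    have k : ∀ x ∈ _root_.Finset.HasAntidiagonal.antidiagonal a, x.1 ≤ n ∧ x.2 ≤ n := fun x hx => by
      have := HasAntidiagonal.mem_antidiagonal.1 hx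
      omega
    have h1 := card_conv (s 0) (fun g : ∀ i : Fin e, T i.succ => ∑ i, s i.succ (g i)) (_root_.Finset.HasAntidiagonal.antidiagonal a)
      (fun g : {g : ∀ i, T i // ∑ i, s i (g i) = a} => (g.1 0, Fin.tail g.1))
      (fun g g' e => Subtype.ext (by
        rw [← Fin.cons_self_tail g.1, ← Fin.cons_self_tail g'.1, show g.1 0 = g'.1 0 from (Prod.ext_iff.1 e).1,
          show Fin.tail g.1 = Fin.tail g'.1 from (Prod.ext_iff.1 e).2]))
      (fun x => by
        rw [HasAntidiagonal.mem_antidiagonal]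
        refine ⟨?_, fun h2 => ⟨⟨Fin.cons x.1 x.2, by rw [Fin.sum_univ_succ]; exact h2⟩, rfl⟩⟩
        rintro ⟨g, rfl⟩
        exact (Fin.sum_univ_succ fun i => s i (g.1 i)).symm.trans g.2)
      (fun x hx => (h 0 _ (k x hx).1).1) fun x hx => (ih _ (k x hx).2).1
    refine ⟨h1.1, h1.2.trans ?_⟩
    rw [cp]
    exact sum_congr rfl fun x hx => by rw [(h 0 _ (k x hx).1).2, (ih _ (k x hx).2).2]

end Cfsg.Agent.MO.A.Glob
end

-- part: MO/A/Glob/Main
section
/-!
# MO, alternating groups: the characters of `p'`-degree of the symmetric groups (helper41)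

* `good p X` : all weights are maximal; `val_eq`, `good_iff` : this is the condition for `p'`-degree;
* `K_eq`, `B_eq` : the numbers `K p n`, `B p n` as numbers of sets of beads;
* `globS : GlobS`.
-/

set_option autoImplicit false

namespace Cfsg.Agent.MO.A.Glob

open Cfsg Finset Equiv Cfsg.Agent.H614 Cfsg.Agent.H615 Cfsg.Agent.Characters.Core

/-- all weights are maximal -/
def good (p : ℕ) (X : Finset ℕ) : Prop := ∀ j, wt (p ^ j) X = sz X / p ^ j

theorem wt_one (X : Finset ℕ) : wt 1 X = sz X := by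
  rw [wt, sum_range_one]
  congr 1
  ext y
  rw [mem_run one_pos, one_mul, add_zero]

theorem wt_zero {q : ℕ} {X : Finset ℕ} (h : sz X < q) : wt q X = 0 := by
  have h1 := wt_le (q := q) (by omega) X
  rw [Nat.div_eq_of_lt h] at h1
  omega

theorem good_of_lt {p : ℕ} {X : Finset ℕ} (h : sz X < p) : good p X := fun j => by
  rcases j with _ | j
  · rw [pow_zero, wt_one, Nat.div_one]
  · have h1 : sz X < p ^ (j + 1) := h.trans_le (Nat.le_self_pow (by omega) p)
    rw [wt_zero h1, Nat.div_eq_of_lt h1]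

theorem sum_pairs {q : ℕ} (hq : 0 < q) (X : Finset ℕ) :
    ∑ x ∈ X, ∑ y ∈ X, (if x ≠ y ∧ x % q = y % q then 1 else 0) = 2 * ∑ i ∈ range q, tri #(run q i X) := by
  have h1 : ∀ x ∈ X, ∑ y ∈ X, (if x ≠ y ∧ x % q = y % q then 1 else 0) + 1 = #(run q (x % q) X) := fun x hx => by
    rw [card_run, ← card_filter, ← card_erase_add_one (s := {y ∈ X | y % q = x % q}) (mem_filter.2 ⟨hx, rfl⟩)]
    congr 2
    ext y
    rw [mem_filter, mem_erase, mem_filter]
    exact ⟨fun h => ⟨h.2.1.symm, h.1, h.2.2.symm⟩, fun h => ⟨h.2.1, h.1.symm, h.2.2.symm⟩⟩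
  have h2 := sum_congr rfl h1
  rw [sum_add_distrib, sum_mod hq X fun _ => 1, sum_mod hq X fun i => #(run q i X),
    sum_congr rfl fun i _ => (tri_add #(run q i X)).symm, sum_add_distrib, ← mul_sum] at h2
  simp only [mul_one] at h2
  omega

variable {p : ℕ} [hp : Fact p.Prime]

theorem vd_eq {x y b : ℕ} (hx : x < p ^ b) (hy : y < p ^ b) :
    vd p x y = ∑ j ∈ Ico 1 b, if x ≠ y ∧ x % p ^ j = y % p ^ j then 1 else 0 := by
  by_cases h : x = y
  · rw [h, vd_self]
    exact (sum_eq_zero fun _ _ => if_neg fun h1 => h1.1 rfl).symm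
  rw [vd, ← Nat.factorization_def _ hp.out, Nat.factorization_eq_card_pow_dvd_of_lt hp.out (b := b) (by omega) (by omega),
    card_filter]
  refine sum_congr rfl fun j _ => if_congr ?_ rfl rfl
  rw [and_iff_right h, ← Int.natCast_dvd, eq_comm]
  exact Nat.modEq_iff_dvd.symm

variable {m : ℕ}

theorem sum_im {β : Fin m → ℕ} (h : Function.Injective β) (g : ℕ → ℕ) : ∑ i, g (β i) = ∑ x ∈ univ.image β, g x :=
  (sum_image fun _ _ _ _ e => h e).symm

theorem card_im {β : Fin m → ℕ} (h : Function.Injective β) : #(univ.image β) = m := by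
  rw [card_image_of_injective _ h, card_univ, Fintype.card_fin]

theorem sz_im {β : Fin m → ℕ} (h : Function.Injective β) {n : ℕ} :
    ∑ i, β i = n + ∑ i : Fin m, (i : ℕ) ↔ sz (univ.image β) = n := by
  rw [sum_im h fun x => x, sum_eq, card_im h, Fin.sum_univ_eq_sum_range (fun i => i) m, ← tri, Nat.add_right_cancel_iff]

/-- **the valuation of the degree** -/
theorem val_eq {n b : ℕ} {β : Fin m → ℕ} (h : Function.Injective β) (hs : sz (univ.image β) = n) (hb : m + n < p ^ b) :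
    padicValNat p (FM (Multiset.replicate n 1) β).natAbs + ∑ j ∈ Ico 1 b, wt (p ^ j) (univ.image β) =
      ∑ j ∈ Ico 1 b, n / p ^ j := by
  have h0 : ∀ x, x < p ^ b → padicValNat p x.factorial = ∑ j ∈ Ico 1 b, x / p ^ j := fun x hx => by
    rcases Nat.eq_zero_or_pos x with rfl | h1
    · simp
    · exact padicValNat_factorial (Nat.log_lt_of_lt_pow h1.ne' hx)
  have hlt : ∀ x ∈ univ.image β, x < p ^ b := fun x hx => by
    have := lt_of_mem hx
    rw [card_im h] at this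
    omega
  have hq : ∀ j, 0 < p ^ j := fun j => pow_pos hp.out.pos j
  have h1 := val_formula (p := p) h ((sz_im h).2 hs)
  rw [sum_im h fun x => padicValNat p x.factorial, sum_congr rfl fun i _ => sum_im h fun y => vd p (β i) y,
    sum_im h fun x => ∑ y ∈ univ.image β, vd p x y, h0 n (by omega), sum_congr rfl fun x hx => h0 x (hlt x hx),
    sum_congr rfl fun x hx => sum_congr rfl fun y hy => vd_eq (hlt x hx) (hlt y hy), sum_comm,
    sum_congr rfl fun j _ => sum_div (hq j) _, sum_add_distrib, sum_congr rfl fun x _ => sum_comm,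
    sum_comm (s := univ.image β), sum_congr rfl fun j _ => sum_pairs (hq j) _, ← mul_sum] at h1
  omega

theorem good_iff {n : ℕ} {β : Fin m → ℕ} (h : StrictMono β) (hs : sz (univ.image β) = n) :
    ¬ p ∣ charDegree (ch (Fin n) β) ↔ good p (univ.image β) := by
  have hs' := (sz_im h.injective).2 hs
  have h1 := FM_ones_pos n h hs'
  have h2 : charDegree (ch (Fin n) β) = (FM (Multiset.replicate n 1) β).natAbs :=
    Blocks.Knorr.charDegree_of_natCast (by
      rw [ch_apply, ty_one, Fintype.card_fin, ← Int.cast_natCast, Int.natAbs_of_nonneg h1.le])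
  have hb : m + n < p ^ (m + n) := Nat.lt_pow_self hp.out.one_lt
  have h3 := val_eq (p := p) h.injective hs hb
  have h4 : ∀ j, wt (p ^ j) (univ.image β) ≤ n / p ^ j := fun j => hs ▸ wt_le (pow_pos hp.out.pos j) _
  have h5 := sum_le_sum (s := Ico 1 (m + n)) fun j _ => h4 j
  rw [h2, dvd_iff_padicValNat_ne_zero (by omega), not_not]
  refine ⟨fun h6 j => ?_, fun h6 => ?_⟩
  · rw [hs]
    by_cases h7 : j ∈ Ico 1 (m + n)
    · exact (sum_eq_sum_iff_of_le fun j _ => h4 j).1 (by omega) j h7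
    rcases Nat.eq_zero_or_pos j with rfl | h8
    · rw [pow_zero, wt_one, Nat.div_one, hs]
    · rw [mem_Ico] at h7
      have h9 : n < p ^ j := lt_of_le_of_lt (by omega) (Nat.lt_pow_self hp.out.one_lt)
      rw [wt_zero (hs ▸ h9), Nat.div_eq_of_lt h9]
  · rw [sum_congr rfl fun j _ => h6 j, hs] at h3
    omega

omit hp in
theorem card_irr {n : ℕ} (hn : n ≤ m) (P : (Perm (Fin n) → ℂ) → Prop) (Q : Finset ℕ → Prop)
    (h : ∀ β : Fin m → ℕ, StrictMono β → sz (univ.image β) = n → (P (ch (Fin n) β) ↔ Q (univ.image β))) :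
    Nat.card {χ : Perm (Fin n) → ℂ // IsIrrCharacter _ χ ∧ P χ} =
      Nat.card {X : Finset ℕ // #X = m ∧ sz X = n ∧ Q X} := by
  have k : ∀ β : Fin m → ℕ, StrictMono β → sz (univ.image β) = n →
      ∑ i, β i = Fintype.card (Fin n) + ∑ i : Fin m, (i : ℕ) := fun β h1 h2 => by
    rw [Fintype.card_fin]
    exact (sz_im h1.injective).2 h2
  let T := {β : Fin m → ℕ // StrictMono β ∧ sz (univ.image β) = n ∧ Q (univ.image β)}
  have h1 : Nat.card T = Nat.card {χ : Perm (Fin n) → ℂ // IsIrrCharacter _ χ ∧ P χ} := by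
    refine Nat.card_eq_of_bijective (fun β => ⟨ch _ β.1, isIrr_ch β.2.1 (k _ β.2.1 β.2.2.1), (h _ β.2.1 β.2.2.1).2 β.2.2.2⟩)
      ⟨fun β γ e => Subtype.ext (ch_inj β.2.1 γ.2.1 (k _ β.2.1 β.2.2.1) (congrArg Subtype.val e)), fun χ => ?_⟩
    obtain ⟨β, h1, h2, h3⟩ := irr_eq (m := m) (by rwa [Fintype.card_fin]) χ.2.1
    rw [Fintype.card_fin, sz_im h1.injective] at h2
    exact ⟨⟨β, h1, h2, (h β h1 h2).1 (h3 ▸ χ.2.2)⟩, Subtype.ext h3.symm⟩
  rw [← h1]
  refine Nat.card_eq_of_bijective (fun β => ⟨univ.image β.1, card_im β.2.1.injective, β.2.2⟩) ⟨fun β γ e => ?_, fun X => ?_⟩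
  · refine Subtype.ext ((β.2.1.range_inj γ.2.1).1 ?_)
    rw [← Set.image_univ, ← Set.image_univ, ← coe_univ, ← coe_image, ← coe_image]
    exact congrArg (fun X : {X : Finset ℕ // #X = m ∧ sz X = n ∧ Q X} => (X.1 : Set ℕ)) e
  · have h2 : univ.image (X.1.orderEmbOfFin X.2.1) = X.1 := image_orderEmbOfFin_univ _ _
    exact ⟨⟨X.1.orderEmbOfFin X.2.1, (X.1.orderEmbOfFin X.2.1).strictMono, by rw [h2]; exact X.2.2⟩, Subtype.ext h2⟩

theorem K_eq {n : ℕ} (hn : n ≤ m) : K p n = Nat.card {X : Finset ℕ // #X = m ∧ sz X = n ∧ good p X} :=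
  card_irr hn (fun χ => ¬ p ∣ charDegree χ) _ fun _ h1 h2 => good_iff h1 h2

omit hp in
theorem self_iff {n : ℕ} (hn : n ≤ m) {β : Fin m → ℕ} (h : StrictMono β) (hs : sz (univ.image β) = n) :
    (∀ g, Perm.sign g = -1 → ch (Fin n) β g = 0) ↔ refl (m + m) (univ.image β) = univ.image β := by
  have hs' : ∑ i, β i = Fintype.card (Fin n) + ∑ i : Fin m, (i : ℕ) := by
    rw [Fintype.card_fin]
    exact (sz_im h.injective).2 hs
  have hlt := AltConj.lt_of_strictMono (m' := m) h hs' (by rwa [Fintype.card_fin])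
  obtain ⟨γ, h1, h2⟩ := AltConj.exists_refl h hlt
  have h3 := AltConj.ch_refl (α := Fin n) h2 h h1 hs'
  have h4 : refl (m + m) (univ.image β) = univ.image γ := by
    ext b
    rw [mem_refl, mem_image, mem_image]
    simp only [mem_univ, true_and]
    refine ⟨fun h5 => by_contra fun h6 => h5.2 ((h2.iff _ (by omega)).2 ?_), ?_⟩
    · rwa [show m + m - 1 - (m + m - 1 - b) = b by omega]
    · rintro ⟨i, rfl⟩
      have h5 := h2.lt' i
      refine ⟨h5, fun h6 => (h2.iff _ (by omega)).1 h6 ?_⟩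
      rw [show m + m - 1 - (m + m - 1 - γ i) = γ i by omega]
      exact ⟨i, rfl⟩
  rw [h4]
  refine ⟨fun h5 => ?_, fun h5 g hg => ?_⟩
  · rw [ch_inj h h1 hs' (funext fun g => ?_)]
    rcases Int.units_eq_one_or (Perm.sign g) with e | e
    · rw [h3 g, AltConj.sgn, e]
      simp
    · have h6 := h3 g
      rw [h5 g e, AltConj.sgn, e] at h6
      rw [h5 g e, eq_comm]
      simpa using h6
  · have h6 : γ = β := (h1.range_inj h).1 (by
      rw [← Set.image_univ, ← Set.image_univ, ← coe_univ, ← coe_image, ← coe_image, h5])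
    have h7 := h3 g
    rw [h6, AltConj.sgn, hg] at h7
    push_cast at h7
    linear_combination (1 / 2 : ℂ) * h7

theorem B_eq {n : ℕ} (hn : n ≤ m) :
    B p n = Nat.card {X : Finset ℕ // #X = m ∧ sz X = n ∧ good p X ∧ refl (m + m) X = X} := by
  rw [← card_irr hn (fun χ => ¬ p ∣ charDegree χ ∧ ∀ g, Perm.sign g = -1 → χ g = 0) _
    fun _ h1 h2 => and_congr (good_iff h1 h2) (self_iff hn h1 h2)]
  exact Nat.card_congr (Equiv.subtypeEquivRight fun _ => and_assoc)

omit hp in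
theorem fin_sets (m n : ℕ) (Q : Finset ℕ → Prop) : Finite {X : Finset ℕ // #X = m ∧ sz X = n ∧ Q X} :=
  Finite.of_injective (fun X => (⟨X.1, mem_powerset.2 fun x hx => mem_range.2 (by
    have := lt_of_mem hx
    rwa [X.2.1, X.2.2.1] at this)⟩ : (range (m + n)).powerset)) fun _ _ e => Subtype.ext (congrArg Subtype.val e :)

theorem K_small {j : ℕ} (hj : j < p) (hm : j ≤ m) : Finite {Y : {Y : Finset ℕ // #Y = m} // sz Y.1 = j} ∧
    Nat.card {Y : {Y : Finset ℕ // #Y = m} // sz Y.1 = j} = K p j := by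
  have e : {Y : {Y : Finset ℕ // #Y = m} // sz Y.1 = j} ≃ {X : Finset ℕ // #X = m ∧ sz X = j ∧ good p X} :=
    ⟨fun Y => ⟨Y.1.1, Y.1.2, Y.2, good_of_lt (Y.2.symm ▸ hj)⟩, fun X => ⟨⟨X.1, X.2.1⟩, X.2.2.1⟩, fun _ => rfl, fun _ => rfl⟩
  have := fin_sets m j (good p)
  exact ⟨Finite.of_equiv _ e.symm, (Nat.card_congr e).trans (K_eq hm).symm⟩

theorem B_small {j : ℕ} (hj : j < p) (hm : j ≤ m) :
    Finite {Y : {Y : Finset ℕ // #Y = m ∧ refl (m + m) Y = Y} // sz Y.1 = j} ∧
    Nat.card {Y : {Y : Finset ℕ // #Y = m ∧ refl (m + m) Y = Y} // sz Y.1 = j} = B p j := by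
  have e : {Y : {Y : Finset ℕ // #Y = m ∧ refl (m + m) Y = Y} // sz Y.1 = j} ≃
      {X : Finset ℕ // #X = m ∧ sz X = j ∧ good p X ∧ refl (m + m) X = X} :=
    ⟨fun Y => ⟨Y.1.1, Y.1.2.1, Y.2, good_of_lt (Y.2.symm ▸ hj), Y.1.2.2⟩, fun X => ⟨⟨X.1, X.2.1, X.2.2.2.2⟩, X.2.2.1⟩,
      fun _ => rfl, fun _ => rfl⟩
  have := fin_sets m j fun X => good p X ∧ refl (m + m) X = X
  exact ⟨Finite.of_equiv _ e.symm, (Nat.card_congr e).trans (B_eq hm).symm⟩

/-! ### the step -/

section step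

variable {k a r : ℕ} {X T : Finset ℕ}

theorem good_col (ha : a < p) (hr : r < p ^ k) (h : Col (p ^ k) X T) (hX : sz X = a * p ^ k + r) (hT : sz T = r) :
    good p X ↔ good p T := by
  refine forall_congr' fun j => ?_
  have hq := pow_pos hp.out.pos j
  rcases le_or_gt j k with h1 | h1
  · obtain ⟨c, hc⟩ := pow_dvd_pow p h1
    have h2 := (h.of_dvd (pow_pos hp.out.pos k) ⟨c, hc⟩).sz hq
    rw [hX, hT, hc] at h2
    have h3 : wt (p ^ j) X = a * c + wt (p ^ j) T := Nat.eq_of_mul_eq_mul_left hq (by rw [mul_add]; linarith only [h2])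
    rw [hX, hT, h3, hc, show a * (p ^ j * c) + r = p ^ j * (a * c) + r by ring, Nat.mul_add_div hq, Nat.add_left_cancel_iff]
  · have h2 : p * p ^ k ≤ p ^ j := by
      rw [← pow_succ']
      exact Nat.pow_le_pow_right hp.out.pos h1
    have h3 : (a + 1) * p ^ k ≤ p * p ^ k := Nat.mul_le_mul_right _ ha
    rw [add_mul, one_mul] at h3
    have h4 : sz X < p ^ j := by omega
    have h5 : sz T < p ^ j := by omega
    rw [wt_zero h4, wt_zero h5, Nat.div_eq_of_lt h4, Nat.div_eq_of_lt h5]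

theorem good.wt_eq (hr : r < p ^ k) (hX : sz X = a * p ^ k + r) (h : good p X) : wt (p ^ k) X = a := by
  rw [h k, hX, mul_comm, Nat.mul_add_div (pow_pos hp.out.pos k), Nat.div_eq_of_lt hr, add_zero]

theorem good.core (ha : a < p) (hr : r < p ^ k) (hX : sz X = a * p ^ k + r) (h : good p X) :
    #(core (p ^ k) X) = #X ∧ sz (core (p ^ k) X) = r ∧ good p (core (p ^ k) X) := by
  have h1 := sz_eq (pow_pos hp.out.pos k) X
  rw [h.wt_eq hr hX, hX, mul_comm] at h1
  have h2 : sz (Glob.core (p ^ k) X) = r := by omega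
  exact ⟨(col_core X).card (pow_pos hp.out.pos k), h2, (good_col ha hr (col_core X).symm hX h2).1 h⟩

theorem of_col (ha : a < p) (hr : r < p ^ k) (hT : sz T = r) (hg : good p T) (h : Col (p ^ k) X T)
    (hw : wt (p ^ k) X = a) : #X = #T ∧ sz X = a * p ^ k + r ∧ good p X := by
  have h1 := h.sz (pow_pos hp.out.pos k)
  rw [wt_zero (hT ▸ hr), hw, hT, mul_comm _ a] at h1
  have h2 : sz X = a * p ^ k + r := by omega
  exact ⟨h.card (pow_pos hp.out.pos k), h2, (good_col ha hr h h2 hT).2 hg⟩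

omit hp in
theorem le_card_run {e i : ℕ} (hi : i < e) (h : a * e + sz T ≤ #T) : a ≤ #(run e i T) := by
  rw [← card_range a]
  refine card_le_card fun y hy => (mem_run hi).2 (mem_of_lt ?_)
  have h1 := Nat.mul_le_mul_right e (Nat.succ_le_of_lt (mem_range.1 hy))
  rw [Nat.succ_mul, mul_comm] at h1
  omega

theorem K_step (ha : a < p) (hr : r < p ^ k) : K p (a * p ^ k + r) = cp (K p) (p ^ k) a * K p r := by
  have he := pow_pos hp.out.pos k
  have := fin_sets (a * p ^ k + r) r (good p)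
  have := fin_sets (a * p ^ k + r) (a * p ^ k + r) (good p)
  rw [K_eq le_rfl, K_eq (m := a * p ^ k + r) (Nat.le_add_left r _)]
  refine card_fib (fun X => ⟨core (p ^ k) X.1, (X.2.2.2.core ha hr X.2.2.1).imp_left (·.trans X.2.1)⟩) _
    (fun _ => inferInstance) fun T => ?_
  have hT : wt (p ^ k) T.1 = 0 := wt_zero (T.2.2.1.symm ▸ hr)
  rw [← (card_cp (K p) a (p ^ k) (fun i => {Y : Finset ℕ // #Y = #(run (p ^ k) i T.1)}) (fun _ Y => sz Y.1)
    (fun i j hj => K_small (hj.trans_lt ha) (hj.trans (le_card_run i.2 (by rw [T.2.1, T.2.2.1])))) a le_rfl).2]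
  refine Nat.card_eq_of_bijective (fun X => ⟨fun i => ⟨run (p ^ k) i X.1.1,
    (core_eq_iff he hT).1 (congrArg Subtype.val X.2) i i.2⟩,
    (Fin.sum_univ_eq_sum_range (fun i => sz (run (p ^ k) i X.1.1)) _).trans (X.1.2.2.2.wt_eq hr X.1.2.2.1)⟩)
    ⟨fun X Y e => Subtype.ext (Subtype.ext (run_ext he fun i hi =>
      congrArg (fun g => (g.1 ⟨i, hi⟩).1) e)), fun g => ?_⟩
  obtain ⟨X, hX⟩ : ∃ X, ∀ i : Fin (p ^ k), run (p ^ k) i X = (g.1 i).1 :=
    ⟨join (p ^ k) fun i => if h : i < p ^ k then (g.1 ⟨i, h⟩).1 else ∅, fun i => by rw [run_join i.2, dif_pos i.2]⟩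
  have h1 : Col (p ^ k) X T.1 := fun i hi => (congrArg card (hX ⟨i, hi⟩)).trans (g.1 ⟨i, hi⟩).2
  have h2 : wt (p ^ k) X = a := by
    rw [wt, ← Fin.sum_univ_eq_sum_range (fun i => sz (run (p ^ k) i X)), ← g.2]
    exact sum_congr rfl fun i _ => by rw [hX]
  exact ⟨⟨⟨X, (of_col ha hr T.2.2.1 T.2.2.2 h1 h2).imp_left (·.trans T.2.1)⟩, Subtype.ext ((core_eq_iff he hT).2 h1)⟩,
    Subtype.ext (funext fun i => Subtype.ext (hX i))⟩

omit hp in
theorem sum_odd (h : ℕ) (f : ℕ → ℕ) :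
    ∑ i ∈ range (2 * h + 1), f i = ∑ i ∈ range h, f i + f h + ∑ i ∈ range h, f (2 * h + 1 - 1 - i) := by
  rw [show 2 * h + 1 = h + 1 + h by ring, sum_range_add, sum_range_succ, ← sum_range_reflect fun i => f (h + 1 + i)]
  congr 1
  exact sum_congr rfl fun i hi => congrArg f (by have := mem_range.1 hi; omega)

omit hp in
theorem run_sub {e M i : ℕ} (hi : i < e) (h : refl (e * M) X = X) : run e i X ⊆ range M := by
  have h2 := (refl_iff (by omega)).1 h (e - 1 - i) (by omega)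
  rw [show e - 1 - (e - 1 - i) = i by omega] at h2
  rw [h2]
  exact refl_sub _ _

omit hp in
theorem wt_refl {h M : ℕ} (hX : refl ((2 * h + 1) * M) X = X) :
    wt (2 * h + 1) X = 2 * ∑ i : Fin h, sz (run (2 * h + 1) i X) + sz (run (2 * h + 1) h X) := by
  rw [wt, sum_odd, Fin.sum_univ_eq_sum_range (fun i => sz (run (2 * h + 1) i X)),
    sum_congr rfl (f := fun i => sz (run (2 * h + 1) (2 * h + 1 - 1 - i) X)) fun i hi => by
      have := mem_range.1 hi
      rw [(refl_iff (by omega)).1 hX i (by omega), sz_refl (run_sub (by omega) hX)]]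
  ring

omit hp in
theorem mid_refl {h M : ℕ} (hX : refl ((2 * h + 1) * (M + M)) X = X) :
    #(run (2 * h + 1) h X) = M ∧ refl (M + M) (run (2 * h + 1) h X) = run (2 * h + 1) h X := by
  have h1 := (refl_iff (by omega)).1 hX h (by omega)
  rw [show 2 * h + 1 - 1 - h = h by omega] at h1
  have h2 := card_refl (run_sub (i := h) (by omega) hX)
  rw [← h1] at h2
  exact ⟨by omega, h1.symm⟩

theorem B_step (hp2 : p ≠ 2) (ha : a < p) (hr : r < p ^ k) :
    B p (a * p ^ k + r) = (∑ j ∈ range (a / 2 + 1), cp (K p) (p ^ k / 2) j * B p (a - 2 * j)) * B p r := by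
  have he := pow_pos hp.out.pos k
  obtain ⟨h, hh⟩ : Odd (p ^ k) := (hp.out.odd_of_ne_two hp2).pow
  obtain ⟨m, hm⟩ : ∃ m, m = p ^ k * (a + 1) := ⟨_, rfl⟩
  have hn : a * p ^ k + r ≤ m := by rw [hm, mul_add, mul_one, mul_comm]; omega
  have hw : m + m = (2 * h + 1) * (a + 1 + (a + 1)) := by rw [hm, hh]; ring
  have hw' : m + m = p ^ k * (a + 1 + (a + 1)) := by rw [hw, hh]
  have := fin_sets m r fun X => good p X ∧ refl (m + m) X = X
  have := fin_sets m (a * p ^ k + r) fun X => good p X ∧ refl (m + m) X = X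
  rw [B_eq hn, B_eq (m := m) ((Nat.le_add_left r _).trans hn)]
  refine card_fib (fun X => ⟨core (p ^ k) X.1, (X.2.2.2.1.core ha hr X.2.2.1).1.trans X.2.1,
    (X.2.2.2.1.core ha hr X.2.2.1).2.1, (X.2.2.2.1.core ha hr X.2.2.1).2.2, by
      have h1 : refl (p ^ k * (a + 1 + (a + 1))) X.1 = X.1 := hw' ▸ X.2.2.2.2
      exact (congrArg (refl · _) hw').trans (refl_core he h1)⟩) _ (fun _ => inferInstance) fun T => ?_
  have hT : wt (p ^ k) T.1 = 0 := wt_zero (T.2.2.1.symm ▸ hr)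
  have hT' : refl ((2 * h + 1) * (a + 1 + (a + 1))) T.1 = T.1 := hw ▸ T.2.2.2.2
  have hle : ∀ i < 2 * h + 1, a ≤ #(run (2 * h + 1) i T.1) := fun i hi =>
    le_card_run hi (by rw [T.2.1, T.2.2.1, ← hh]; exact hn)
  have hcp := card_cp (K p) a h (fun i => {Y : Finset ℕ // #Y = #(run (2 * h + 1) i T.1)}) (fun _ Y => sz Y.1)
    fun i j hj => K_small (hj.trans_lt ha) (hj.trans (hle i (by omega)))
  have hS : ∀ x ∈ (range (a / 2 + 1)).image fun j => (j, a - 2 * j), x.1 ≤ a ∧ x.2 ≤ a := fun x hx => by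
    obtain ⟨j, hj, rfl⟩ := mem_image.1 hx
    have := mem_range.1 hj
    constructor <;> dsimp only <;> omega
  have hsr : ∀ X : {X : Finset ℕ // #X = m ∧ sz X = a * p ^ k + r ∧ good p X ∧ refl (m + m) X = X},
      refl ((2 * h + 1) * (a + 1 + (a + 1))) X.1 = X.1 := fun X => hw ▸ X.2.2.2.2
  refine ((card_conv (fun g : ∀ i : Fin h, {Y : Finset ℕ // #Y = #(run (2 * h + 1) i T.1)} => ∑ i, sz (g i).1)
    (fun Y : {Y : Finset ℕ // #Y = a + 1 ∧ refl (a + 1 + (a + 1)) Y = Y} => sz Y.1)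
    ((range (a / 2 + 1)).image fun j => (j, a - 2 * j))
    (fun X => (fun i => ⟨run (2 * h + 1) i X.1.1, hh ▸ (core_eq_iff he hT).1 (congrArg Subtype.val X.2) i (by omega)⟩,
      ⟨run (2 * h + 1) h X.1.1, (by exact mid_refl (hsr X.1))⟩)) (fun X Y e => ?_) (fun x => ⟨?_, fun hx => ?_⟩)
    (fun x hx => (hcp _ (hS x hx).1).1) fun x hx => (B_small ((hS x hx).2.trans_lt ha) (by have := hS x hx; omega)).1).2).trans ?_
  · have h1 : ∀ i < h, run (2 * h + 1) i X.1.1 = run (2 * h + 1) i Y.1.1 := fun i hi =>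
      congrArg (fun g => (g.1 ⟨i, hi⟩).1) e
    refine Subtype.ext (Subtype.ext (run_ext (q := 2 * h + 1) (by omega) fun i hi => ?_))
    rcases lt_trichotomy i h with h2 | rfl | h2
    · exact h1 i h2
    · exact congrArg (fun g => g.2.1) e
    · rw [show i = 2 * h + 1 - 1 - (2 * h - i) by omega, (refl_iff (by omega)).1 (hsr X.1) _ (by omega),
        (refl_iff (by omega)).1 (hsr Y.1) _ (by omega), h1 _ (by omega)]
  · rintro ⟨X, rfl⟩
    have h1 := wt_refl (hsr X.1)
    rw [(congrArg (wt · X.1.1) hh).symm.trans (X.1.2.2.2.1.wt_eq hr X.1.2.2.1)] at h1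
    exact mem_image.2 ⟨_, mem_range.2 (by dsimp only; omega), Prod.ext rfl (by dsimp only; omega)⟩
  · obtain ⟨j, hj, hj'⟩ := mem_image.1 hx
    have hj1 := mem_range.1 hj
    have hj2 : j = ∑ i, sz (x.1 i).1 := congrArg Prod.fst hj'
    have hj3 : a - 2 * j = sz x.2.1 := congrArg Prod.snd hj'
    have hsub : ∀ i : Fin h, (x.1 i).1 ⊆ range (a + 1 + (a + 1)) := fun i y hy => by
      have h1 := lt_of_mem hy
      have h2 : sz (x.1 i).1 ≤ ∑ i, sz (x.1 i).1 :=
        single_le_sum (f := fun i => sz (x.1 i).1) (fun _ _ => Nat.zero_le _) (mem_univ i)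
      have h3 := card_refl (run_sub (i := i) (by omega) hT')
      rw [← (refl_iff (by omega)).1 hT' i (by omega)] at h3
      have h4 := hle (2 * h + 1 - 1 - i) (by omega)
      rw [(x.1 i).2] at h1
      exact mem_range.2 (by omega)
    obtain ⟨X, hX1, hX2, hX3⟩ : ∃ X, (∀ i : Fin h, run (2 * h + 1) i X = (x.1 i).1) ∧ run (2 * h + 1) h X = x.2.1 ∧
        ∀ i : Fin h, run (2 * h + 1) (2 * h + 1 - 1 - i) X = refl (a + 1 + (a + 1)) (x.1 i).1 := by
      refine ⟨join (2 * h + 1) fun i => if hi : i < h then (x.1 ⟨i, hi⟩).1 else if hi : 2 * h - i < h then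
        refl (a + 1 + (a + 1)) (x.1 ⟨2 * h - i, hi⟩).1 else x.2.1, fun i => ?_, ?_, fun i => ?_⟩
      · rw [run_join (by omega), dif_pos i.2]
      · rw [run_join (by omega), dif_neg (lt_irrefl _), dif_neg (by omega)]
      · have := i.2
        rw [run_join (by omega), dif_neg (by omega), dif_pos (by omega)]
        exact congrArg (fun t : Fin h => refl (a + 1 + (a + 1)) (x.1 t).1) (Fin.ext (by dsimp only; (clear * -; omega)))
    have h1 : refl ((2 * h + 1) * (a + 1 + (a + 1))) X = X := (refl_iff (by omega)).2 fun i hi => by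
      rcases lt_trichotomy i h with h2 | rfl | h2
      · rw [hX3 ⟨i, h2⟩, hX1 ⟨i, h2⟩]
      · rw [show 2 * i + 1 - 1 - i = i by omega, hX2, x.2.2.2]
      · have h3 := hX3 ⟨2 * h - i, by omega⟩
        have h4 := hX1 ⟨2 * h - i, by omega⟩
        dsimp only at h3 h4
        rw [show 2 * h + 1 - 1 - (2 * h - i) = i by omega] at h3
        rw [h3, refl_refl (hsub _), show 2 * h + 1 - 1 - i = 2 * h - i by omega, h4]
    have h2 : Col (p ^ k) X T.1 := by
      rw [hh]
      intro i hi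
      rcases lt_trichotomy i h with h2 | rfl | h2
      · rw [hX1 ⟨i, h2⟩, (x.1 ⟨i, h2⟩).2]
      · rw [(mid_refl h1).1, (mid_refl hT').1]
      · have h3 := card_refl (run_sub (i := 2 * h - i) (by omega) h1)
        have h4 := card_refl (run_sub (i := 2 * h - i) (by omega) hT')
        rw [← (refl_iff (by omega)).1 h1 _ (by omega), hX1 ⟨2 * h - i, by omega⟩, (x.1 _).2] at h3
        rw [← (refl_iff (by omega)).1 hT' _ (by omega)] at h4
        rw [show 2 * h + 1 - 1 - (2 * h - i) = i by (clear * - hi; omega)] at h3 h4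
        dsimp only at h3
        omega
    have h3 : wt (p ^ k) X = a := by
      rw [hh, wt_refl h1, hX2, sum_congr rfl fun i _ => congrArg sz (hX1 i)]
      omega
    have h4 := of_col ha hr T.2.2.1 T.2.2.2.1 h2 h3
    exact ⟨⟨⟨X, h4.1.trans T.2.1, h4.2.1, h4.2.2, hw ▸ h1⟩, Subtype.ext ((core_eq_iff he hT).2 h2)⟩,
      Prod.ext (funext fun i => Subtype.ext (hX1 i)) (Subtype.ext hX2)⟩
  · rw [sum_image fun _ _ _ _ e => congrArg Prod.fst e, show p ^ k / 2 = h by omega]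
    refine sum_congr rfl fun j hj => ?_
    have := mem_range.1 hj
    rw [(hcp j (by omega)).2, (B_small (p := p) (by dsimp only; omega) (by dsimp only; omega)).2]

end step

omit hp in
/-- **boxes A1, A2** -/
theorem globS : GlobS := fun p _ _ _ h1 h2 ha hr =>
  have : Fact p.Prime := ⟨h1⟩
  ⟨K_step ha hr, B_step h2 ha hr⟩

end Cfsg.Agent.MO.A.Glob
end

private theorem dce_2118bb43e594 : _root_.True := by
  try have : _root_.True := by simp only [_root_.Cfsg.Agent.MO.T.fN.eq_1]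
  try have : _root_.True := by simp only [_root_.Cfsg.Agent.MO.A.Glob.join.eq_1]
  try have : _root_.True := by simp only [_root_.Cfsg.Agent.MO.A.RS.rg.eq_1]
  try have : _root_.True := by simp only [_root_.Cfsg.Agent.MO.A.Yg.eq_1]
  try have : _root_.True := by simp only [_root_.Cfsg.Agent.MO.A.Glob.wt.eq_1]
  try have : _root_.True := by simp only [_root_.Cfsg.Agent.MO.A.cn.eq_1]
  try have : _root_.True := by simp only [_root_.Cfsg.Agent.MO.A.Syl.act.eq_1]
  try have : _root_.True := by simp only [_root_.Cfsg.Agent.MO.A.cp.eq_2]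
  try have : _root_.True := by simp only [_root_.Cfsg.Agent.MO.A.Glob.refl.eq_1]
  try have : _root_.True := by simp only [_root_.Cfsg.Agent.MO.PI.eq_1]
  try have : _root_.True := by simp only [_root_.Cfsg.Agent.MO.A.ez.eq_1]
  try have : _root_.True := by simp only [_root_.Cfsg.Agent.MO.A.cp.eq_1]
  try have : _root_.True := by simp only [_root_.Cfsg.Agent.MO.A.cp.eq_def]
  try have : _root_.True := by simp only [_root_.Cfsg.Agent.MO.A.Glob.sz.eq_1]
  try have : _root_.True := by simp only [_root_.Cfsg.Agent.MO.A.Glob.tri.eq_1]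
  try have : _root_.True := by simp only [_root_.Cfsg.Agent.MO.A.Glob.run.eq_1]
  try have : _root_.True := by simp only [_root_.Cfsg.Agent.H615.AltConj.sgn.eq_1]
  exact _root_.True.intro
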